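import Cfsg.Agent.OddHalf.Quat.Big

-- merged: Cfsg.Agent.OddHalf.Quat.BigOdd
section

/-!
# Node Q: `KBig U` for `|X| = 2 ^ f`, `f` odd

`X = XZ U`. No 2-automorphism of `K` leaving `U` invariant moves an element of `X`: an involution `β` of `X` has
`|C_X(β)|² ≥ |X|`, and `|C_X(β)| - 1` divides `|X| - 1`.
-/

set_option autoImplicit false

namespace Cfsg.Agent.OddHalf.Quat

open Subgroup
open scoped commutatorElement

variable {K : Type*} [Group K]

/-- orbit formula -/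
theorem card_conj (A : Subgroup K) (x : K) :
    Nat.card {y : K // ∃ r ∈ A, r * x * r⁻¹ = y} = (centralizer ({x} : Set K)).relIndex A := by
  let f : A → {y : K // ∃ r ∈ A, r * x * r⁻¹ = y} := fun r => ⟨r * x * r⁻¹, r, r.2, rfl⟩
  have hf : Function.Surjective f := by
    rintro ⟨_, r, hr, rfl⟩; exact ⟨⟨r, hr⟩, rfl⟩
  let C := (centralizer ({x} : Set K)).subgroupOf A
  have hiff : ∀ r s : A, (r : A ⧸ C) = (s : A ⧸ C) ↔ f r = f s := by
    intro r s
    rw [QuotientGroup.eq, mem_subgroupOf, mem_centralizer_singleton_iff, Subtype.ext_iff]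
    simp only [coe_mul, coe_inv, f]
    constructor
    · intro h
      calc (r : K) * x * (r : K)⁻¹ = s * (((s : K)⁻¹ * r) * x * ((s : K)⁻¹ * r)⁻¹) * (s : K)⁻¹ := by group
        _ = s * x * (s : K)⁻¹ := by
          have h' : ((r : K)⁻¹ * s) * x = x * ((r : K)⁻¹ * s) := h
          have : (s : K)⁻¹ * r * x * ((s : K)⁻¹ * r)⁻¹ = x := by
            calc (s : K)⁻¹ * r * x * ((s : K)⁻¹ * r)⁻¹ = ((r : K)⁻¹ * s)⁻¹ * (x * ((r : K)⁻¹ * s)) := by group
              _ = x := by rw [← h']; group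
          rw [this]
    · intro h
      calc (r : K)⁻¹ * s * x = (r : K)⁻¹ * (s * x * (s : K)⁻¹) * s := by group
        _ = (r : K)⁻¹ * (r * x * (r : K)⁻¹) * s := by rw [h]
        _ = x * ((r : K)⁻¹ * s) := by group
  let g : A ⧸ C → {y : K // ∃ r ∈ A, r * x * r⁻¹ = y} := fun q => f q.out
  have hg : ∀ r : A, g (r : A ⧸ C) = f r := fun r => (hiff _ _).mp (Quotient.out_eq _)
  have hbij : Function.Bijective g := by
    constructor
    · intro p q hpq
      have := (hiff p.out q.out).mpr hpq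
      rwa [show ((p.out : A) : A ⧸ C) = p from Quotient.out_eq p,
        show ((q.out : A) : A ⧸ C) = q from Quotient.out_eq q] at this
    · intro y
      obtain ⟨r, hr⟩ := hf y
      exact ⟨r, by rw [hg, hr]⟩
  rw [← Nat.card_eq_of_bijective g hbij]
  rfl

/-- the subgroup of the elements `r` of `N_K(U)` such that `α(r) r⁻¹` centralises `X` -/
def Sg (U : Subgroup K) (α : MulAut K) : Subgroup K where
  carrier := {r | r ∈ normalizer (U : Set K) ∧ ∀ x ∈ XZ U, α (r * x * r⁻¹) = r * α x * r⁻¹}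
  one_mem' := ⟨one_mem _, fun x _ => by simp⟩
  mul_mem' := by
    rintro r s ⟨hr, hr'⟩ ⟨hs, hs'⟩
    refine ⟨mul_mem hr hs, fun x hx => ?_⟩
    have h1 := hr' _ (mem_XZ_conj hs hx)
    rw [hs' x hx] at h1
    calc α (r * s * x * (r * s)⁻¹) = α (r * (s * x * s⁻¹) * r⁻¹) := by congr 1; group
      _ = r * (s * α x * s⁻¹) * r⁻¹ := h1
      _ = r * s * α x * (r * s)⁻¹ := by group
  inv_mem' := by
    rintro r ⟨hr, hr'⟩
    refine ⟨inv_mem hr, fun x hx => ?_⟩
    have hx' : r⁻¹ * x * r⁻¹⁻¹ ∈ XZ U := mem_XZ_conj (inv_mem hr) hx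
    have h1 := hr' _ hx'
    have e : r * (r⁻¹ * x * r⁻¹⁻¹) * r⁻¹ = x := by group
    rw [e] at h1
    rw [h1]; group

/-- the fixed points of `α` on `X` -/
def Fx (U : Subgroup K) (α : MulAut K) : Subgroup K where
  carrier := {x | x ∈ XZ U ∧ α x = x}
  one_mem' := ⟨(XZs U).one_mem, map_one α⟩
  mul_mem' := by rintro a b ⟨ha, ha'⟩ ⟨hb, hb'⟩; exact ⟨(XZs U).mul_mem ha hb, by rw [map_mul, ha', hb']⟩
  inv_mem' := by rintro a ⟨ha, ha'⟩; exact ⟨(XZs U).inv_mem ha, by rw [map_inv, ha']⟩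

theorem card_sub_one {P : Type*} [Group P] (A : Subgroup P) [Finite A] :
    Nat.card {y : P // y ∈ A ∧ y ≠ 1} = Nat.card A - 1 := by
  classical
  have := Fintype.ofFinite A
  have e : {y : P // y ∈ A ∧ y ≠ 1} ≃ {y : A // y ≠ 1} :=
    { toFun := fun y => ⟨⟨y.1, y.2.1⟩, fun h => y.2.2 (congrArg Subtype.val h)⟩
      invFun := fun y => ⟨y.1.1, y.1.2, fun h => y.2 (Subtype.ext h)⟩
      left_inv := fun _ => rfl
      right_inv := fun _ => rfl }
  rw [Nat.card_congr e, Nat.card_eq_fintype_card, Nat.card_eq_fintype_card]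
  have := Fintype.card_subtype_compl (fun y : A => y = 1)
  rw [Fintype.card_subtype_eq] at this
  exact this

theorem Tr.card_dvd [Finite K] {U : Subgroup K} (h : Tr U) {α : MulAut K} {x₀ : K} (hx : x₀ ∈ XZ U) (hx1 : x₀ ≠ 1)
    (hαU : ∀ u ∈ U, α u ∈ U) (hfix : α x₀ = x₀) : (Nat.card (Fx U α) - 1) ∣ (Nat.card (XZs U) - 1) := by
  have hS : Sg U α ≤ normalizer (U : Set K) := fun r hr => hr.1
  -- the condition at one point is enough
  have hmem : ∀ r ∈ normalizer (U : Set K), α (r * x₀ * r⁻¹) = r * x₀ * r⁻¹ → r ∈ Sg U α := by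
    intro r hr e
    refine ⟨hr, fun x hxX => ?_⟩
    have hbm : α r * r⁻¹ ∈ normalizer (U : Set K) := mul_mem (aut_mem_normalizer hαU hr) (inv_mem hr)
    have h1 : α r * r⁻¹ * (r * x₀ * r⁻¹) = (r * x₀ * r⁻¹) * (α r * r⁻¹) := by
      rw [map_mul, map_mul, map_inv, hfix] at e
      calc α r * r⁻¹ * (r * x₀ * r⁻¹) = (α r * x₀ * (α r)⁻¹) * (α r * r⁻¹) := by group
        _ = _ := by rw [e]
    have h2 := h.free hbm (mem_XZ_conj hr hx)
      (fun hh => hx1 (by simpa using congrArg (fun z => r⁻¹ * z * r) hh |>.trans (by group : r⁻¹ * 1 * r = 1) |>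
        (by intro hh'; rw [← hh']; group : r⁻¹ * (r * x₀ * r⁻¹) * r = 1 → x₀ = 1))) h1
      (mem_XZ_conj hr (mem_XZ_aut hαU hxX))
    calc α (r * x * r⁻¹) = α r * r⁻¹ * (r * α x * r⁻¹) * (α r * r⁻¹)⁻¹ := by
          rw [map_mul, map_mul, map_inv]; group
      _ = r * α x * r⁻¹ := by rw [h2]; group
  have hC : centralizer ({x₀} : Set K) ⊓ normalizer (U : Set K) ≤ Sg U α := by
    rintro r ⟨h1, h2⟩
    refine hmem r h2 ?_
    have e : r * x₀ * r⁻¹ = x₀ := by rw [mem_centralizer_singleton_iff.mp h1]; group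
    rw [e, hfix]
  have key : (centralizer ({x₀} : Set K)).relIndex (Sg U α) * (Sg U α).relIndex (normalizer (U : Set K)) =
      (centralizer ({x₀} : Set K)).relIndex (normalizer (U : Set K)) := by
    have h1 := relIndex_mul_relIndex (centralizer ({x₀} : Set K) ⊓ normalizer (U : Set K)) (Sg U α)
      (normalizer (U : Set K)) hC hS
    rw [inf_relIndex_right] at h1
    rw [← h1]
    congr 1
    rw [← inf_relIndex_right, ← inf_relIndex_right (centralizer ({x₀} : Set K) ⊓ normalizer (U : Set K)), inf_assoc,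
      inf_eq_right.mpr hS]
  have h1 : (centralizer ({x₀} : Set K)).relIndex (Sg U α) = Nat.card (Fx U α) - 1 := by
    rw [← card_conj, ← card_sub_one]
    refine Nat.card_congr (Equiv.subtypeEquivRight fun y => ⟨?_, ?_⟩)
    · rintro ⟨r, hr, rfl⟩
      refine ⟨⟨mem_XZ_conj hr.1 hx, by rw [hr.2 x₀ hx, hfix]⟩, fun hh => hx1 ?_⟩
      have : x₀ = r⁻¹ * (r * x₀ * r⁻¹) * r := by group
      rw [this, hh]; group
    · rintro ⟨⟨hy, hy'⟩, hy1⟩
      obtain ⟨r, hr, rfl⟩ := h.tr x₀ hx y hy hx1 hy1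
      exact ⟨r, hmem r hr hy', rfl⟩
  have h2 : (centralizer ({x₀} : Set K)).relIndex (normalizer (U : Set K)) = Nat.card (XZs U) - 1 := by
    rw [← card_conj, ← card_sub_one]
    refine Nat.card_congr (Equiv.subtypeEquivRight fun y => ⟨?_, ?_⟩)
    · rintro ⟨r, hr, rfl⟩
      refine ⟨mem_XZ_conj hr hx, fun hh => hx1 ?_⟩
      have : x₀ = r⁻¹ * (r * x₀ * r⁻¹) * r := by group
      rw [this, hh]; group
    · rintro ⟨hy, hy1⟩
      exact h.tr x₀ hx y hy hx1 hy1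
  rw [← h1, ← h2, ← key]
  exact dvd_mul_right _ _

/-- an involutory automorphism of the elementary abelian group `X` has at least `|X| ^ (1/2)` fixed points -/
theorem card_le_sq [Finite K] {U : Subgroup K} {β : MulAut K} (hβU : ∀ u ∈ U, β u ∈ U)
    (h2 : ∀ x ∈ XZ U, β (β x) = x) : Nat.card (XZs U) ≤ Nat.card (Fx U β) * Nat.card (Fx U β) := by
  have hcomm : ∀ a ∈ XZ U, ∀ b ∈ XZ U, a * b = b * a := fun a ha b hb => hb.2.2 a ha.1
  let f : XZs U →* XZs U :=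
    { toFun := fun x => ⟨x * β x, (XZs U).mul_mem x.2 (mem_XZ_aut hβU x.2)⟩
      map_one' := by ext; simp
      map_mul' := fun x y => by
        ext
        simp only [coe_mul, map_mul]
        rw [mul_assoc, ← mul_assoc (y : K) (β x), hcomm y y.2 (β x) (mem_XZ_aut hβU x.2)]
        simp only [mul_assoc] }
  have h := card_eq_card_quotient_mul_card_subgroup f.ker
  have hr : Nat.card (XZs U ⧸ f.ker) = Nat.card f.range :=
    Nat.card_congr (QuotientGroup.quotientKerEquivRange f).toEquiv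
  rw [hr] at h
  have h3 : Nat.card f.range ≤ Nat.card (Fx U β) := by
    refine Nat.card_le_card_of_injective (fun y => (⟨(y.1 : K), ?_⟩ : Fx U β)) ?_
    · obtain ⟨_, x, rfl⟩ := y
      refine ⟨(f x).2, ?_⟩
      change β ((x : K) * β x) = x * β x
      rw [map_mul, h2 _ x.2, hcomm _ (mem_XZ_aut hβU x.2) _ x.2]
    · intro y z hyz
      exact Subtype.ext (Subtype.ext (congrArg (fun w : Fx U β => (w : K)) hyz))
  have h4 : Nat.card f.ker ≤ Nat.card (Fx U β) := by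
    refine Nat.card_le_card_of_injective (fun y => (⟨(y.1 : K), ?_⟩ : Fx U β)) ?_
    · refine ⟨y.1.2, ?_⟩
      have h5 : (y.1 : K) * β y.1 = 1 := congrArg Subtype.val (MonoidHom.mem_ker.mp y.2)
      have h6 : (y.1 : K) * y.1 = 1 := y.1.2.2.1
      exact mul_left_cancel (h5.trans h6.symm)
    · intro y z hyz
      exact Subtype.ext (Subtype.ext (congrArg (fun w : Fx U β => (w : K)) hyz))
  rw [h]
  exact Nat.mul_le_mul h3 h4

theorem arith {m f : ℕ} (hmf : m ≤ f) (hf : f ≤ 2 * m) (hd : (2 ^ m - 1) ∣ (2 ^ f - 1)) (hodd : Odd f) : m = f := by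
  have e : 2 ^ f - 1 = 2 ^ (f - m) * (2 ^ m - 1) + (2 ^ (f - m) - 1) := by
    have h1 : 2 ^ f = 2 ^ (f - m) * 2 ^ m := by rw [← pow_add]; congr 1; omega
    have h2 : 1 ≤ 2 ^ (f - m) := Nat.one_le_two_pow
    have h3 : 1 ≤ 2 ^ m := Nat.one_le_two_pow
    rw [h1, Nat.mul_sub, mul_one]
    have : 2 ^ (f - m) ≤ 2 ^ (f - m) * 2 ^ m := Nat.le_mul_of_pos_right _ (by omega)
    omega
  rw [e] at hd
  have hd2 : (2 ^ m - 1) ∣ (2 ^ (f - m) - 1) := (Nat.dvd_add_right (dvd_mul_left _ _)).mp hd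
  rcases Nat.eq_zero_or_pos (2 ^ (f - m) - 1) with h0 | h0
  · have h2 : 2 ^ (f - m) = 1 := by
      have : 1 ≤ 2 ^ (f - m) := Nat.one_le_two_pow
      omega
    have : f - m = 0 := by
      by_contra hne
      have := Nat.one_lt_two_pow hne
      omega
    omega
  · have hle := Nat.le_of_dvd h0 hd2
    have h3 : m ≤ f - m := by
      by_contra hcon
      push Not at hcon
      have := Nat.pow_lt_pow_right (show 1 < 2 by norm_num) hcon
      omega
    have : f = 2 * m := by omega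
    rw [this] at hodd
    exact absurd hodd (by simp)

/-- no 2-automorphism moves `X` -/
theorem Tr.fix_of_odd [Finite K] {U : Subgroup K} (hU : IsPGroup 2 U) (h : Tr U) {f : ℕ} (hf : Odd f)
    (hc : Nat.card (XZs U) = 2 ^ f) {α : MulAut K} (hα2 : IsPGroup 2 (zpowers α)) (hαU : ∀ u ∈ U, α u ∈ U) {x : K}
    (hx : x ∈ XZ U) : α x = x := by
  obtain ⟨n, hn⟩ : ∃ n : ℕ, α ^ 2 ^ n = 1 := by
    obtain ⟨n, hn⟩ := hα2 ⟨α, mem_zpowers α⟩
    exact ⟨n, by simpa using congrArg Subtype.val hn⟩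
  have hpow : ∀ k : ℕ, ∀ u ∈ U, (α ^ k) u ∈ U := by
    intro k
    induction k with
    | zero => intro u hu; simpa using hu
    | succ k ih => intro u hu; rw [pow_succ, MulAut.mul_apply]; exact ih _ (hαU u hu)
  have key : ∀ k : ℕ, k ≤ n → ∀ y ∈ XZ U, (α ^ 2 ^ (n - k)) y = y := by
    intro k
    induction k with
    | zero => intro _ y _; rw [Nat.sub_zero, hn]; rfl
    | succ k ih =>
      intro hk y hy
      have ih' := ih (by omega)
      set β := α ^ 2 ^ (n - (k + 1)) with hβ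
      have hβ2 : ∀ z ∈ XZ U, β (β z) = z := by
        intro z hz
        have e : β * β = α ^ 2 ^ (n - k) := by
          rw [hβ, ← pow_add]; congr 1
          have : n - k = (n - (k + 1)) + 1 := by omega
          rw [this, pow_succ]; ring
        rw [← MulAut.mul_apply, e]; exact ih' z hz
      have hβU : ∀ u ∈ U, β u ∈ U := hpow _
      have hβ2' : IsPGroup 2 (zpowers β) := by
        refine hα2.to_le ?_
        rw [zpowers_le, hβ]; exact pow_mem (mem_zpowers α) _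
      obtain ⟨a, ha, -, -, ha1, -, -⟩ := h.two
      obtain ⟨x₀, hx₀, hx₀1, hfix⟩ := exists_fix_aut hU ⟨a, ha, ha1⟩ hβ2' hβU
      have hd := h.card_dvd hx₀ hx₀1 hβU hfix
      have hle := card_le_sq hβU hβ2
      have hFX : Fx U β ≤ XZs U := fun z hz => hz.1
      have hpX : IsPGroup 2 (XZs U) := hU.to_le (fun x hx => hx.1)
      have hpF : IsPGroup 2 (Fx U β) := hpX.to_le hFX
      obtain ⟨m, hm⟩ := IsPGroup.iff_card.mp hpF
      rw [hm, hc] at hd
      rw [hm, hc, ← pow_add] at hle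
      have h1 : f ≤ m + m := (Nat.pow_le_pow_iff_right (by norm_num)).mp hle
      have h2 : m ≤ f := by
        have := Nat.le_of_dvd Nat.card_pos (card_dvd_of_le hFX)
        rw [hm, hc] at this
        exact (Nat.pow_le_pow_iff_right (by norm_num)).mp this
      have h3 := arith h2 (by omega) hd hf
      have h4 : Fx U β = XZs U := Subgroup.eq_of_le_of_card_ge hFX (by rw [hm, hc, h3])
      have h5 : y ∈ Fx U β := by rw [h4]; exact hy
      exact h5.2
  have := key n le_rfl x hx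
  simpa using this

/-- `|X| = 2 ^ f`, `f` odd -/
theorem KBig.of_odd [Finite K] {U : Subgroup K} (hU : IsPGroup 2 U) (h : Tr U) {f : ℕ} (hf : Odd f)
    (hc : Nat.card (XZs U) = 2 ^ f) : KBig U := by
  refine ⟨h.mv, fun α hα2 hαU hαX C hCU hCα => ?_⟩
  obtain ⟨x, hx, hαx⟩ := hαX
  exact absurd (h.fix_of_odd hU hf hc hα2 hαU hx) hαx

end Cfsg.Agent.OddHalf.Quat

end

-- merged: Cfsg.Agent.OddHalf.Quat.BigSemi
section

/-!
# Node Q: `KBig U` for `|U| = 64`, `X = Z(U)` of order 4, `U` semi-extraspecial (`L₃(4)`, `U₃(4)`)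
-/

set_option autoImplicit false

namespace Cfsg.Agent.OddHalf.Quat

open Subgroup
open scoped commutatorElement

section Abs

variable {P : Type*} [Group P]

theorem cm_right {X : Subgroup P} (hX : X ≤ center P) (com : ∀ u v : P, ⁅u, v⁆ ∈ X) (u v w : P) :
    ⁅u, v * w⁆ = ⁅u, v⁆ * ⁅u, w⁆ := by
  have h1 := mem_center_iff.mp (hX (com u w)) v
  calc ⁅u, v * w⁆ = ⁅u, v⁆ * (v * ⁅u, w⁆ * v⁻¹) := by simp only [commutatorElement_def]; group
    _ = ⁅u, v⁆ * ⁅u, w⁆ := by rw [h1]; group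

theorem cm_left {X : Subgroup P} (hX : X ≤ center P) (com : ∀ u v : P, ⁅u, v⁆ ∈ X) (u v w : P) :
    ⁅u * v, w⁆ = ⁅u, w⁆ * ⁅v, w⁆ := by
  have h1 := mem_center_iff.mp (hX (com v w)) u
  have h2 := mem_center_iff.mp (hX (com v w)) ⁅u, w⁆
  calc ⁅u * v, w⁆ = (u * ⁅v, w⁆ * u⁻¹) * ⁅u, w⁆ := by simp only [commutatorElement_def]; group
    _ = ⁅v, w⁆ * ⁅u, w⁆ := by rw [h1]; group
    _ = ⁅u, w⁆ * ⁅v, w⁆ := h2.symm

/-- `v ↦ [u, v]` -/
def cphi {X : Subgroup P} (hX : X ≤ center P) (com : ∀ u v : P, ⁅u, v⁆ ∈ X) (u : P) : P →* X where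
  toFun v := ⟨⁅u, v⁆, com u v⟩
  map_one' := Subtype.ext (by simp)
  map_mul' v w := Subtype.ext (cm_right hX com u v w)

theorem semi_aux [Finite P] (X : Subgroup P) (hXc : X ≤ center P) (hX : Nat.card X = 4) (hP : Nat.card P = 64)
    (com : ∀ u v : P, ⁅u, v⁆ ∈ X) (sur : ∀ u : P, u ∉ X → ∀ x ∈ X, ∃ v, ⁅u, v⁆ = x) (C : Subgroup P)
    (hC : 16 ≤ Nat.card C) (hF : Nat.card (X ⊓ C : Subgroup P) ≤ 2) : False := by
  classical
  have hXn : X.Normal := ⟨fun n hn g => by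
    have := mem_center_iff.mp (hXc hn) g
    rw [this]; simpa using hn⟩
  set D := C ⊔ X with hD
  have h1 : X.relIndex D = X.relIndex C := relIndex_sup_right C X
  have h2 : Nat.card D = X.relIndex D * Nat.card X := by
    rw [relIndex, ← Nat.card_congr (subgroupOfEquivOfLe (le_sup_right : X ≤ D)).toEquiv]
    rw [mul_comm]; exact (card_mul_index _).symm
  have h3 : Nat.card C = X.relIndex C * Nat.card (X ⊓ C : Subgroup P) := by
    rw [← inf_relIndex_right, relIndex, ← Nat.card_congr (subgroupOfEquivOfLe (inf_le_right : X ⊓ C ≤ C)).toEquiv]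
    rw [mul_comm]; exact (card_mul_index _).symm
  have hcard : Nat.card D * Nat.card (X ⊓ C : Subgroup P) = 4 * Nat.card C := by
    rw [h2, h3, h1, hX]; ring
  -- `K_u`
  let F : Subgroup X := (X ⊓ C).subgroupOf X
  have hFc : Nat.card F = Nat.card (X ⊓ C : Subgroup P) :=
    Nat.card_congr (subgroupOfEquivOfLe inf_le_left).toEquiv
  have hFi : Nat.card F * F.index = 4 := by rw [card_mul_index, hX]
  have hDK : ∀ u ∈ C, D ≤ F.comap (cphi hXc com u) := by
    intro u hu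
    refine sup_le ?_ ?_
    · intro v hv
      rw [mem_comap, mem_subgroupOf]
      refine ⟨com u v, ?_⟩
      exact C.mul_mem (C.mul_mem (C.mul_mem hu hv) (C.inv_mem hu)) (C.inv_mem hv)
    · intro v hv
      have : ⁅u, v⁆ = 1 := commutatorElement_eq_one_iff_mul_comm.mpr (mem_center_iff.mp (hXc hv) u)
      rw [mem_comap, mem_subgroupOf]
      change ⁅u, v⁆ ∈ X ⊓ C
      rw [this]; exact one_mem _
  have hKi : ∀ u, u ∉ X → Nat.card (F.comap (cphi hXc com u)) = 16 * Nat.card F := by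
    intro u hu
    have hs : Function.Surjective (cphi hXc com u) := by
      rintro ⟨x, hx⟩
      obtain ⟨v, e⟩ := sur u hu x hx
      exact ⟨v, Subtype.ext e⟩
    have h4 := card_mul_index (F.comap (cphi hXc com u))
    rw [index_comap_of_surjective _ hs, hP] at h4
    have h5 : 0 < F.index := Nat.pos_of_ne_zero index_ne_zero_of_finite
    have h6 : Nat.card (F.comap (cphi hXc com u)) * F.index = 16 * Nat.card F * F.index := by
      rw [h4, mul_assoc, hFi]; rfl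
    exact Nat.eq_of_mul_eq_mul_right h5 h6
  have hF0 : 0 < Nat.card F := Nat.card_pos
  rw [← hFc] at hcard hF
  -- an element of `C` outside `X` and outside a given coset of `X`
  have hex : ∀ w : P, ∃ u ∈ C, u ∉ X ∧ w⁻¹ * u ∉ X := by
    intro w
    by_contra hcon
    push Not at hcon
    let f : C → Bool × X := fun c =>
      if h : (c : P) ∈ X then (true, ⟨c, h⟩) else (false, ⟨w⁻¹ * c, hcon c c.2 h⟩)
    have hf : Function.Injective f := by
      intro a b hab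
      by_cases ha : (a : P) ∈ X <;> by_cases hb : (b : P) ∈ X <;> simp [f, ha, hb] at hab
      · exact hab
      · exact hab
    have := Nat.card_le_card_of_injective f hf
    rw [Nat.card_prod, hX, Nat.card_eq_fintype_card (α := Bool), Fintype.card_bool] at this
    omega
  obtain ⟨u₁, hu₁, hu₁X, -⟩ := hex 1
  have hle : Nat.card D ≤ 16 * Nat.card F := by
    rw [← hKi u₁ hu₁X]; exact Nat.le_of_dvd Nat.card_pos (card_dvd_of_le (hDK u₁ hu₁))
  have hF2 : Nat.card F = 2 := by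
    by_contra hne
    have h1 : Nat.card F = 1 := by omega
    rw [h1] at hcard hle
    omega
  rw [hF2] at hcard hle hFi hKi
  have hDc : Nat.card D = 32 := by omega
  have hFi2 : F.index = 2 := by omega
  have hDe : ∀ u ∈ C, u ∉ X → D = F.comap (cphi hXc com u) := fun u hu huX =>
    Subgroup.eq_of_le_of_card_ge (hDK u hu) (by rw [hKi u huX, hDc])
  obtain ⟨v, hv⟩ : ∃ v, v ∉ D := by
    by_contra hcon
    push Not at hcon
    have : D = ⊤ := eq_top_iff.mpr fun v _ => hcon v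
    rw [this, card_top, hP] at hDc
    omega
  obtain ⟨u₂, hu₂, hu₂X, hu₁₂⟩ := hex u₁
  have hn : ∀ u ∈ C, u ∉ X → cphi hXc com u v ∉ F := by
    intro u hu huX hh
    apply hv
    rw [hDe u hu huX]; exact hh
  have e : cphi hXc com (u₁⁻¹ * u₂) v = (cphi hXc com u₁ v)⁻¹ * cphi hXc com u₂ v := by
    apply Subtype.ext
    change ⁅u₁⁻¹ * u₂, v⁆ = ⁅u₁, v⁆⁻¹ * ⁅u₂, v⁆
    rw [cm_left hXc com]
    congr 1
    rw [eq_inv_iff_mul_eq_one, ← cm_left hXc com, inv_mul_cancel, commutatorElement_one_left]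
  have h5 := hn (u₁⁻¹ * u₂) (mul_mem (inv_mem hu₁) hu₂) hu₁₂
  rw [e, mul_mem_iff_of_index_two hFi2, inv_mem_iff] at h5
  exact h5 (iff_of_false (hn u₁ hu₁ hu₁X) (hn u₂ hu₂ hu₂X))

end Abs

variable {K : Type*} [Group K]

/-- `U` is semi-extraspecial with centre `X` -/
structure Semi (U : Subgroup K) : Prop where
  com : ∀ u ∈ U, ∀ v ∈ U, ⁅u, v⁆ ∈ XZ U
  sur : ∀ u ∈ U, u ∉ XZ U → ∀ x ∈ XZ U, ∃ v ∈ U, ⁅u, v⁆ = x

/-- `|U| = 64`, `|X| = 4` -/
theorem KBig.of_semi [Finite K] {U : Subgroup K} (h : Tr U) (hs : Semi U)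
    (hX : Nat.card (XZs U) = 4) (hc : Nat.card U = 64) : KBig U := by
  refine ⟨h.mv, fun α hα2 hαU hαX C hCU hCα => ?_⟩
  by_contra hcon
  push Not at hcon
  obtain ⟨x, hx, hαx⟩ := hαX
  have hXU : XZs U ≤ U := fun x hx => hx.1
  have hxC : x ∉ C := fun hh => hαx (hCα x hh)
  have hX' : Nat.card ((XZs U).subgroupOf U) = 4 := by
    rw [← hX]; exact Nat.card_congr (subgroupOfEquivOfLe hXU).toEquiv
  refine semi_aux ((XZs U).subgroupOf U) ?_ hX' hc ?_ ?_ (C.subgroupOf U) ?_ ?_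
  · intro y hy
    rw [mem_center_iff]
    intro u
    exact Subtype.ext ((mem_subgroupOf.mp hy).2.2 u u.2)
  · intro u v
    exact mem_subgroupOf.mpr (hs.com u u.2 v v.2)
  · intro u hu y hy
    obtain ⟨v, hv, e⟩ := hs.sur u u.2 (fun hh => hu (mem_subgroupOf.mpr hh)) y (mem_subgroupOf.mp hy)
    exact ⟨⟨v, hv⟩, Subtype.ext e⟩
  · have h1 := card_mul_index (C.subgroupOf U)
    rw [hc] at h1
    have h2 : (C.subgroupOf U).index ≤ 4 := hcon
    nlinarith
  · have h1 : Nat.card ((XZs U).subgroupOf U ⊓ C.subgroupOf U : Subgroup U) ∣ 4 := by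
      rw [← hX']; exact card_dvd_of_le inf_le_left
    have h2 : Nat.card ((XZs U).subgroupOf U ⊓ C.subgroupOf U : Subgroup U) ≠ 4 := by
      intro h3
      have h4 : (XZs U).subgroupOf U ⊓ C.subgroupOf U = (XZs U).subgroupOf U :=
        Subgroup.eq_of_le_of_card_ge inf_le_left (by rw [h3, hX'])
      have h5 : (⟨x, hx.1⟩ : U) ∈ (XZs U).subgroupOf U ⊓ C.subgroupOf U := by rw [h4]; exact hx
      exact hxC h5.2
    have h3 := Nat.le_of_dvd (by norm_num) h1
    interval_cases (Nat.card ((XZs U).subgroupOf U ⊓ C.subgroupOf U : Subgroup U)) <;> revert h1 h2 <;> decide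

end Cfsg.Agent.OddHalf.Quat

end

-- merged: Cfsg.Agent.OddHalf.Quat.BigLoc
section

/-!
# Node Q: `Tr U` from a root subgroup `R` and a 2-group `Q ≥ R` with `C_K(Q) ≤ R`

No description of a Sylow 2-subgroup is needed: for every Sylow 2-subgroup `U ≥ Q` the set `XZ U` is `R`.
-/

set_option autoImplicit false

namespace Cfsg.Agent.OddHalf.Quat

open Subgroup
open scoped commutatorElement

variable {K : Type*} [Group K]

/-- `R` = long root subgroup, `Q` = the 2-radical of its normaliser -/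
structure Loc (R Q : Subgroup K) : Prop where
  /-- `R` is elementary abelian of order `≥ 4` -/
  sq : ∀ x ∈ R, x * x = 1
  two : ∃ x ∈ R, ∃ y ∈ R, x ≠ 1 ∧ y ≠ 1 ∧ x ≠ y
  le : R ≤ Q
  /-- `Q` is a 2-group -/
  pgr : IsPGroup 2 Q
  cent : ∀ g : K, (∀ x ∈ Q, g * x = x * g) → g ∈ R
  ti : ∀ g : K, ∀ x ∈ R, x ≠ 1 → g * x * g⁻¹ ∈ R → ∀ y ∈ R, g * y * g⁻¹ ∈ R
  tr : ∀ x ∈ R, ∀ y ∈ R, x ≠ 1 → y ≠ 1 → ∃ g : K, g * x * g⁻¹ = y
  ab : ∀ g h : K, (∀ y ∈ R, g * y * g⁻¹ ∈ R) → (∀ y ∈ R, h * y * h⁻¹ ∈ R) → ∀ y ∈ R,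
    g * (h * y * h⁻¹) * g⁻¹ = h * (g * y * g⁻¹) * h⁻¹

namespace Loc

variable {R Q U : Subgroup K}

/-- an element which centralises one element of `R#` centralises `R` -/
theorem free (h : Loc R Q) {g : K} {x : K} (hx : x ∈ R) (hx1 : x ≠ 1) (hg : g * x = x * g) {y : K} (hy : y ∈ R) :
    g * y = y * g := by
  rcases eq_or_ne y 1 with rfl | hy1
  · rw [mul_one, one_mul]
  obtain ⟨s, e⟩ := h.tr x hx y hy hx1 hy1
  have e1 : g * x * g⁻¹ = x := by rw [hg]; group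
  have hgR := h.ti g x hx hx1 (by rw [e1]; exact hx)
  have hsR := h.ti s x hx hx1 (by rw [e]; exact hy)
  have h1 := h.ab g s hgR hsR x hx
  rw [e1, e] at h1
  calc g * y = (g * y * g⁻¹) * g := by group
    _ = y * g := by rw [h1]

theorem central [Finite K] (h : Loc R Q) (hU : IsPGroup 2 U) (hQU : Q ≤ U) :
    (∀ z ∈ XZ U, z ∈ R) ∧ ∀ y ∈ R, ∀ u ∈ U, u * y = y * u := by
  have h1 : ∀ z ∈ XZ U, z ∈ R := fun z hz => h.cent z (fun x hx => (hz.2.2 x (hQU hx)).symm)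
  obtain ⟨a, ha, -, -, ha1, -, -⟩ := h.two
  have hne : (⊤ : Subgroup U) ≠ ⊥ := by
    intro hh
    have : (⟨a, hQU (h.le ha)⟩ : U) ∈ (⊤ : Subgroup U) := mem_top _
    rw [hh, mem_bot] at this
    exact ha1 (congrArg Subtype.val this)
  obtain ⟨x₀, -, hx₀, hx₀1⟩ := exists_XZ hU (inferInstance : (⊤ : Subgroup U).Normal) hne
  exact ⟨h1, fun y hy u hu => h.free (h1 x₀ hx₀) hx₀1 (hx₀.2.2 u hu) hy⟩

theorem mem_iff [Finite K] (h : Loc R Q) (hU : IsPGroup 2 U) (hQU : Q ≤ U) (x : K) : x ∈ XZ U ↔ x ∈ R :=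
  ⟨(h.central hU hQU).1 x, fun hx => ⟨hQU (h.le hx), h.sq x hx, (h.central hU hQU).2 x hx⟩⟩

theorem XZs_eq [Finite K] (h : Loc R Q) (hU : IsPGroup 2 U) (hQU : Q ≤ U) : XZs U = R :=
  Subgroup.ext fun x => h.mem_iff hU hQU x

/-- **`Tr U` for every Sylow 2-subgroup `U ≥ Q`** -/
theorem toTr [Finite K] (h : Loc R Q) (U : Sylow 2 K) (hQU : Q ≤ (U : Subgroup K)) : Tr (U : Subgroup K) := by
  have hU : IsPGroup 2 (U : Subgroup K) := U.isPGroup'
  have hm := h.mem_iff hU hQU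
  have hN : ∀ r ∈ normalizer ((U : Subgroup K) : Set K), ∀ y ∈ R, r * y * r⁻¹ ∈ R := fun r hr y hy =>
    (hm _).mp (mem_XZ_conj hr ((hm y).mpr hy))
  refine ⟨?_, ?_, ?_⟩
  · obtain ⟨x, hx, y, hy, h1, h2, h3⟩ := h.two
    exact ⟨x, (hm x).mpr hx, y, (hm y).mpr hy, h1, h2, h3⟩
  · intro x hx y hy hx1 hy1
    have hxR := (hm x).mp hx
    have hyR := (hm y).mp hy
    obtain ⟨g, e⟩ := h.tr x hxR y hyR hx1 hy1
    have hc : ∀ z ∈ R, z ∈ centralizer ((U : Subgroup K) : Set K) := fun z hz =>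
      mem_centralizer_iff.mpr fun u hu => (h.central hU hQU).2 z hz u hu
    obtain ⟨n, hn, e'⟩ := U.conj_eq_normalizer_conj_of_mem_centralizer x g⁻¹ (hc x hxR)
      (by rw [inv_inv, e]; exact hc y hyR)
    rw [inv_inv, e] at e'
    exact ⟨n⁻¹, inv_mem hn, by rw [inv_inv]; exact e'.symm⟩
  · intro r hr s hs x hx
    exact h.ab r s (hN r hr) (hN s hs) x ((hm x).mp hx)

end Loc

/-- `Tr U` if the involutions of `Z(U)` form the subgroup `R` -/
theorem Tr.of_center [Finite K] (U : Sylow 2 K) {R : Subgroup K} (hm : ∀ x, x ∈ XZ (U : Subgroup K) ↔ x ∈ R)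
    (two : ∃ x ∈ R, ∃ y ∈ R, x ≠ 1 ∧ y ≠ 1 ∧ x ≠ y)
    (tr : ∀ x ∈ R, ∀ y ∈ R, x ≠ 1 → y ≠ 1 → ∃ g : K, g * x * g⁻¹ = y)
    (ab : ∀ g h : K, (∀ y ∈ R, g * y * g⁻¹ ∈ R) → (∀ y ∈ R, h * y * h⁻¹ ∈ R) → ∀ y ∈ R,
      g * (h * y * h⁻¹) * g⁻¹ = h * (g * y * g⁻¹) * h⁻¹) : Tr (U : Subgroup K) := by
  have hN : ∀ r ∈ normalizer ((U : Subgroup K) : Set K), ∀ y ∈ R, r * y * r⁻¹ ∈ R := fun r hr y hy =>
    (hm _).mp (mem_XZ_conj hr ((hm y).mpr hy))
  refine ⟨?_, ?_, ?_⟩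
  · obtain ⟨x, hx, y, hy, h1, h2, h3⟩ := two
    exact ⟨x, (hm x).mpr hx, y, (hm y).mpr hy, h1, h2, h3⟩
  · intro x hx y hy hx1 hy1
    obtain ⟨g, e⟩ := tr x ((hm x).mp hx) y ((hm y).mp hy) hx1 hy1
    have hc : ∀ z ∈ XZ (U : Subgroup K), z ∈ centralizer ((U : Subgroup K) : Set K) := fun z hz =>
      mem_centralizer_iff.mpr fun u hu => hz.2.2 u hu
    obtain ⟨n, hn, e'⟩ := U.conj_eq_normalizer_conj_of_mem_centralizer x g⁻¹ (hc x hx)
      (by rw [inv_inv, e]; exact hc y hy)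
    rw [inv_inv, e] at e'
    exact ⟨n⁻¹, inv_mem hn, by rw [inv_inv]; exact e'.symm⟩
  · intro r hr s hs x hx
    exact ab r s (hN r hr) (hN s hs) x ((hm x).mp hx)

/-- there is a Sylow 2-subgroup with `KBig` if `|Q| > 64` -/
theorem exists_kbig [Finite K] {R Q : Subgroup K} (h : Loc R Q) (h64 : 64 < Nat.card Q) :
    ∃ U : Sylow 2 K, KBig (U : Subgroup K) := by
  obtain ⟨U, hU⟩ := h.pgr.exists_le_sylow
  refine ⟨U, KBig.of_trans U.isPGroup' (lt_of_lt_of_le h64 ?_) (h.toTr U hU)⟩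
  exact Nat.le_of_dvd Nat.card_pos (card_dvd_of_le hU)

/-- `|R| = 2 ^ f`, `f` odd -/
theorem exists_kbig_odd [Finite K] {R Q : Subgroup K} (h : Loc R Q) {f : ℕ} (hf : Odd f)
    (hc : Nat.card R = 2 ^ f) : ∃ U : Sylow 2 K, KBig (U : Subgroup K) := by
  obtain ⟨U, hU⟩ := h.pgr.exists_le_sylow
  exact ⟨U, KBig.of_odd U.isPGroup' (h.toTr U hU) hf (by rw [h.XZs_eq U.isPGroup' hU, hc])⟩

/-- `Q` itself is a Sylow 2-subgroup of order 64, semi-extraspecial with centre `R` of order 4 -/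
theorem exists_kbig_semi [Finite K] {R Q : Subgroup K} (h : Loc R Q) (hR : Nat.card R = 4) (hQ : Nat.card Q = 64)
    (hodd : ¬ 2 ∣ Q.index) (hcom : ∀ u ∈ Q, ∀ v ∈ Q, ⁅u, v⁆ ∈ R)
    (hsur : ∀ u ∈ Q, u ∉ R → ∀ x ∈ R, ∃ v ∈ Q, ⁅u, v⁆ = x) : ∃ U : Sylow 2 K, KBig (U : Subgroup K) := by
  let U : Sylow 2 K := h.pgr.toSylow hodd
  have hQU : Q ≤ (U : Subgroup K) := le_rfl
  have hm := h.mem_iff U.isPGroup' hQU
  refine ⟨U, KBig.of_semi (h.toTr U hQU) ⟨fun u hu v hv => (hm _).mpr (hcom u hu v hv), fun u hu huX x hx => ?_⟩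
    (by rw [h.XZs_eq U.isPGroup' hQU, hR]) hQ⟩
  exact hsur u hu (fun hh => huX ((hm u).mpr hh)) x ((hm x).mp hx)

end Cfsg.Agent.OddHalf.Quat

end
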