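import Cfsg.Agent.Cit.WeakCl
import Cfsg.Agent.Cit.NilComp
import Cfsg.Agent.OddHalf.Quat.KF
import Cfsg.Agent.Lib.NormalAbelian
import Cfsg.Agent.PermutationGroups.AutQuaternion
import Cfsg.Agent.OddHalf.Quat.Tau0

-- merged: Cfsg.Agent.OddHalf.Quat.Orb
section

/-!
# Node Q (quaternion centralizer): the fixed product

`exists_prod`: the product of a finite set of commuting elements is fixed by every automorphism permuting the set.

`Orb.exists_w`: `Hyp Om`, `S` Sylow in `G`, `K ∈ Om(S)` the only member with its involution. There is `w` in the group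
generated by the `zz L`, `L ∈ Om(S)`, `L ≠ K`, such that: if `D(S)` centralises a set `A ∋ w` and `r ∈ C(zz K)` maps
`A` into itself, then `r` commutes with `w`.
-/

set_option autoImplicit false

namespace Cfsg.Agent.OddHalf.Quat

open Subgroup Cfsg Cfsg.Agent.Cit

theorem exists_prod {G : Type*} [Group G] (E : Set G) (hE : E.Finite)
    (hc : ∀ x ∈ E, ∀ y ∈ E, x * y = y * x) :
    ∃ w ∈ closure E, (∀ f : G →* G, Function.Injective f → (∀ x ∈ E, f x ∈ E) → f w = w) ∧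
      (∀ x ∈ E, x⁻¹ * w ∈ closure (E \ {x})) ∧ ((∃ x, E = {x}) → w ∈ E) := by
  classical
  set F : Finset G := hE.toFinset with hF
  have hmem : ∀ x, x ∈ F ↔ x ∈ E := fun x => hE.mem_toFinset
  have hcomm : (F : Set G).Pairwise (Function.onFun Commute (id : G → G)) := by
    intro x hx y hy _
    exact hc x ((hmem x).1 hx) y ((hmem y).1 hy)
  refine ⟨F.noncommProd id hcomm, ?_, ?_, ?_, ?_⟩
  · exact Subgroup.noncommProd_mem _ _ fun x hx => subset_closure ((hmem x).1 hx)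
  · intro f hf hfE
    rw [Finset.map_noncommProd]
    have h1 : F.val.map f = F.val := by
      have h2 : (F.image f).val = F.val.map f := Finset.image_val_of_injOn hf.injOn
      rw [← h2]
      congr 1
      apply Finset.eq_of_subset_of_card_le
      · intro y hy
        obtain ⟨x, hx, rfl⟩ := Finset.mem_image.1 hy
        exact (hmem _).2 (hfE x ((hmem x).1 hx))
      · rw [Finset.card_image_of_injective _ hf]
    have h3 : ∀ (s t : Multiset G) (hs) (ht), s = t → s.noncommProd hs = t.noncommProd ht := by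
      rintro s t hs ht rfl
      rfl
    unfold Finset.noncommProd
    apply h3
    simpa using h1
  · intro x hx
    have h1 : F.noncommProd id hcomm = x * (F.erase x).noncommProd id
        (fun a ha b hb => hcomm (Finset.mem_of_mem_erase ha) (Finset.mem_of_mem_erase hb)) := by
      have hne : x ∉ F.erase x := Finset.notMem_erase x F
      have h2 : insert x (F.erase x) = F := Finset.insert_erase ((hmem x).2 hx)
      have h3 := Finset.noncommProd_insert_of_notMem (F.erase x) x (id : G → G)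
        (by rw [h2]; exact hcomm) hne
      rw [← Finset.noncommProd_congr h2 (fun _ _ => rfl) (by rw [h2]; exact hcomm)] 
      exact h3
    rw [h1, inv_mul_cancel_left]
    refine Subgroup.noncommProd_mem _ _ fun y hy => subset_closure ?_
    obtain ⟨h4, h5⟩ := Finset.mem_erase.1 hy
    exact ⟨(hmem y).1 h5, h4⟩
  · rintro ⟨x, hx⟩
    have h1 : F = {x} := by
      ext y
      rw [hmem, hx]; simp
    rw [Finset.noncommProd_congr h1 (fun _ _ => rfl) hcomm, Finset.noncommProd_singleton, hx]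
    rfl

namespace Orb

variable {G : Type*} [Group G] [Finite G] {Om : Set (Subgroup G)}

/-- the involutions of the other members of `Om(S)` -/
def ZE (Om : Set (Subgroup G)) (S K : Subgroup G) : Set G := {x | ∃ L ∈ OmS Om S, L ≠ K ∧ x = zz L}

theorem exists_w (h : Hyp Om) (S : Sylow 2 G) {K : Subgroup G} (hK : K ∈ OmS Om (S : Subgroup G))
    (h1 : ∀ L ∈ Om, zz L = zz K → L = K) :
    ∃ w ∈ closure (ZE Om (S : Subgroup G) K),
      (∀ A : Set G, w ∈ A → DD Om (S : Subgroup G) ≤ centralizer A → ∀ r : G, r * zz K = zz K * r →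
        (∀ a ∈ A, r * a * r⁻¹ ∈ A) → r * w = w * r) ∧
      (∀ x ∈ ZE Om (S : Subgroup G) K, x⁻¹ * w ∈ closure (ZE Om (S : Subgroup G) K \ {x})) ∧
      ((∃ x, ZE Om (S : Subgroup G) K = {x}) → w ∈ ZE Om (S : Subgroup G) K) := by
  have hcomm : ∀ x ∈ ZE Om (S : Subgroup G) K, ∀ y ∈ ZE Om (S : Subgroup G) K, x * y = y * x := by
    rintro x ⟨L, hL, -, rfl⟩ y ⟨M, hM, -, rfl⟩
    by_cases hLM : L = M
    · rw [hLM]
    · exact h.comm S.isPGroup' hL hM hLM (h.zz_mem_inf S.isPGroup' hL) (h.zz_mem_inf S.isPGroup' hM)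
  obtain ⟨w, hw, hfix, hex, hone⟩ := exists_prod (ZE Om (S : Subgroup G) K) (Set.toFinite _) hcomm
  refine ⟨w, hw, ?_, hex, hone⟩
  intro A hwA hDA r hr hrA
  obtain ⟨c, hc, hn⟩ := control h.conj S (A := insert (zz K) A) (g := r) (by
      intro d hd
      rw [mem_centralizer_iff]
      rintro a (rfl | ha)
      · exact (mem_centralizer_singleton_iff.1 (h.DD_le_centralizer S.isPGroup' hK hd)).symm
      · exact mem_centralizer_iff.1 (hDA hd) a ha) (by
      rintro a (rfl | ha) d hd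
      · rw [hr, mul_inv_cancel_right]
        exact h.DD_le_centralizer S.isPGroup' hK hd
      · rw [mem_centralizer_singleton_iff]
        exact (mem_centralizer_iff.1 (hDA hd) _ (hrA a ha)).symm)
  rw [mem_centralizer_iff] at hc
  have hcK : zz K * c = c * zz K := hc _ (Set.mem_insert _ _)
  have hcw : w * c = c * w := hc _ (Set.mem_insert_of_mem _ hwA)
  set n := r * c with hn'
  have hnK : n * zz K * n⁻¹ = zz K := by
    rw [mul_inv_eq_iff_eq_mul, hn']
    calc r * c * zz K = r * (zz K * c) := by rw [hcK]; group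
      _ = (r * zz K) * c := by group
      _ = zz K * (r * c) := by rw [hr]; group
  have hnD : cj n (DD Om (S : Subgroup G)) ≤ (S : Subgroup G) := by
    rw [mem_normalizer_iff_cj.1 hn]; exact DD_le
  have h5 : ∀ x ∈ ZE Om (S : Subgroup G) K, n * x * n⁻¹ ∈ ZE Om (S : Subgroup G) K := by
    rintro x ⟨L, hL, hne, rfl⟩
    refine ⟨cj n L, cj_mem_of_cj_DD_le h.conj hnD hL, ?_, (h.zz_cj hL.1 n).symm⟩
    intro hh
    apply hne
    have h6 : cj n K = K := h1 _ (h.conj K hK.1 n) (by rw [h.zz_cj hK.1, hnK])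
    exact cj_inj.1 (hh.trans h6.symm)
  have h7 := hfix (MulAut.conj n).toMonoidHom (MulAut.conj n).injective (fun x hx => by simpa using h5 x hx)
  have h8 : n * w * n⁻¹ = w := by simpa using h7
  rw [mul_inv_eq_iff_eq_mul, hn'] at h8
  have h9 : r * w * c = w * r * c := by
    calc r * w * c = r * (w * c) := by group
      _ = r * c * w := by rw [hcw]; group
      _ = w * r * c := by rw [h8]; group
  exact mul_right_cancel h9

end Orb

end Cfsg.Agent.OddHalf.Quat

end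

-- merged: Cfsg.Agent.OddHalf.Quat.Std
section

/-!
# Node Q: the members `K` of `Om` are quaternion 2-groups, `Kc K` is the standard component

`QK Om Kc`: every member `K` is a 2-group, the only member with its involution; `Kc K` commutes with `K` and is normal
in `C(zz K)`; `zz K ∉ Kc K`; LEMMA B': `zz L ∈ Kc K` for commuting members `K ≠ L`.

`QK.exists_w`: the product `w` of the other involutions of `Om(S)`.
`QK.dichotomy`: if `X ≤ Z(S ⊓ Kc K)` is elementary abelian, `C_S(zz K)`-invariant, contains `w`, and some element of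
`C(zz K)` normalises `X` and moves `w`, then some `L ∈ Om(S)` with `zz L ∈ X` acts nontrivially on `X`.
-/

set_option autoImplicit false

namespace Cfsg.Agent.OddHalf.Quat

open Subgroup Cfsg Cfsg.Agent.Cit

variable {G : Type*} [Group G]

/-- node Q -/
structure QK (Om : Set (Subgroup G)) (Kc : Subgroup G → Subgroup G) : Prop where
  hyp : Hyp Om
  two : ∀ K ∈ Om, IsPGroup 2 K
  one : ∀ K ∈ Om, ∀ L ∈ Om, zz K = zz L → K = L
  comm : ∀ K ∈ Om, ∀ x ∈ Kc K, ∀ y ∈ K, x * y = y * x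
  nor : ∀ K ∈ Om, ∀ g, g * zz K = zz K * g → ∀ x ∈ Kc K, g * x * g⁻¹ ∈ Kc K
  ntr : ∀ K ∈ Om, zz K ∉ Kc K
  mem : ∀ K ∈ Om, ∀ L ∈ Om, K ≠ L → (∀ x ∈ K, ∀ y ∈ L, x * y = y * x) → zz L ∈ Kc K

namespace QK

variable [Finite G] {Om : Set (Subgroup G)} {Kc : Subgroup G → Subgroup G} {S : Sylow 2 G} {K L : Subgroup G}

/-- the members of `Om(S)` lie in `S` -/
theorem le_S (q : QK Om Kc) (hK : K ∈ OmS Om (S : Subgroup G)) : K ≤ (S : Subgroup G) := by
  have h1 := (q.two K hK.1)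
  have h2 : Syl K K := ⟨le_rfl, h1, by rw [relIndex_self]; omega⟩
  have h3 := (syl_inf S.isPGroup' hK).eq_of_le inf_le_left le_rfl h1
  rw [← h3]
  exact inf_le_right

theorem norm_of_comm (q : QK Om Kc) (hK : K ∈ Om) {g : G} (hg : g * zz K = zz K * g) :
    g ∈ normalizer (K : Set G) := by
  rw [mem_normalizer_iff_cj]
  apply q.one _ (q.hyp.conj K hK g) _ hK
  rw [q.hyp.zz_cj hK, hg, mul_inv_cancel_right]

theorem comm_members (q : QK Om Kc) (hK : K ∈ OmS Om (S : Subgroup G)) (hL : L ∈ OmS Om (S : Subgroup G))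
    (hne : K ≠ L) : ∀ x ∈ K, ∀ y ∈ L, x * y = y * x := fun _ hx _ hy =>
  q.hyp.comm S.isPGroup' hK hL hne ⟨hx, q.le_S hK hx⟩ ⟨hy, q.le_S hL hy⟩

theorem mem_Kc (q : QK Om Kc) (hK : K ∈ OmS Om (S : Subgroup G)) (hL : L ∈ OmS Om (S : Subgroup G))
    (hne : K ≠ L) : zz L ∈ Kc K := q.mem K hK.1 L hL.1 hne (q.comm_members hK hL hne)

theorem closure_le (q : QK Om Kc) (hK : K ∈ OmS Om (S : Subgroup G)) :
    closure (Orb.ZE Om (S : Subgroup G) K) ≤ Kc K := by
  rw [Subgroup.closure_le]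
  rintro x ⟨L, hL, hne, rfl⟩
  exact q.mem_Kc hK hL hne.symm

theorem D_centralizes (q : QK Om Kc) (hL : L ∈ OmS Om (S : Subgroup G)) {d : G}
    (hd : d ∈ DD Om (S : Subgroup G)) : d * zz L = zz L * d :=
  mem_centralizer_singleton_iff.1 (q.hyp.DD_le_centralizer S.isPGroup' hL hd)

/-- **the product of the other involutions** -/
theorem exists_w (q : QK Om Kc) (hK : K ∈ OmS Om (S : Subgroup G))
    (hne : ∃ L ∈ OmS Om (S : Subgroup G), L ≠ K) :
    ∃ w ∈ closure (Orb.ZE Om (S : Subgroup G) K), w ≠ 1 ∧ w * w = 1 ∧ w ∈ Kc K ∧ w ∈ (S : Subgroup G) ∧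
      (∀ t ∈ (S : Subgroup G), t * zz K = zz K * t → t * w = w * t) ∧
      (∀ A : Set G, w ∈ A → DD Om (S : Subgroup G) ≤ centralizer A → ∀ r : G, r * zz K = zz K * r →
        (∀ a ∈ A, r * a * r⁻¹ ∈ A) → r * w = w * r) ∧
      ((∃ x, Orb.ZE Om (S : Subgroup G) K = {x}) → w ∈ Orb.ZE Om (S : Subgroup G) K) ∧
      (∀ x ∈ Orb.ZE Om (S : Subgroup G) K, x⁻¹ * w ∈ closure (Orb.ZE Om (S : Subgroup G) K \ {x})) := by
  obtain ⟨w, hw, hfix, hex, hone⟩ := Orb.exists_w q.hyp S hK (fun L hL h => q.one L hL K hK.1 h)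
  have hEE : ∀ x ∈ Orb.ZE Om (S : Subgroup G) K, ∀ y ∈ Orb.ZE Om (S : Subgroup G) K, x * y = y * x := by
    rintro x ⟨L, hL, -, rfl⟩ y ⟨M, hM, -, rfl⟩
    by_cases hLM : L = M
    · rw [hLM]
    · exact q.comm_members hL hM hLM _ (q.hyp.zz_mem hL.1) _ (q.hyp.zz_mem hM.1)
  have hsq : ∀ x ∈ closure (Orb.ZE Om (S : Subgroup G) K), x * x = 1 := by
    intro x hx
    have hab : ∀ y ∈ closure (Orb.ZE Om (S : Subgroup G) K), ∀ z ∈ closure (Orb.ZE Om (S : Subgroup G) K),
        y * z = z * y := by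
      have h1 : IsMulCommutative (closure (Orb.ZE Om (S : Subgroup G) K)) :=
        isMulCommutative_closure fun x hx y hy => hEE x hx y hy
      intro y hy z hz
      have h2 := h1.1.comm (⟨y, hy⟩ : closure (Orb.ZE Om (S : Subgroup G) K)) ⟨z, hz⟩
      exact congrArg Subtype.val h2
    induction hx using Subgroup.closure_induction with
    | mem x hx =>
      obtain ⟨L, hL, -, rfl⟩ := hx
      exact q.hyp.zz_mul hL.1
    | one => simp
    | mul a b ha hb iha ihb =>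
      calc a * b * (a * b) = a * (b * a) * b := by group
        _ = (a * a) * (b * b) := by rw [hab b hb a ha]; group
        _ = 1 := by rw [iha, ihb, one_mul]
    | inv a ha iha =>
      rw [← mul_inv_rev, iha, inv_one]
  have hclS : closure (Orb.ZE Om (S : Subgroup G) K) ≤ (S : Subgroup G) := by
    rw [Subgroup.closure_le]
    rintro x ⟨L, hL, -, rfl⟩
    exact q.le_S hL (q.hyp.zz_mem hL.1)
  refine ⟨w, hw, ?_, hsq w hw, q.closure_le hK hw, hclS hw, ?_, hfix, hone, hex⟩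
  · intro h1
    obtain ⟨L, hL, hLK⟩ := hne
    have h2 := hex (zz L) ⟨L, hL, hLK, rfl⟩
    rw [h1, mul_one] at h2
    have h3 : closure (Orb.ZE Om (S : Subgroup G) K \ {zz L}) ≤ Kc L := by
      rw [Subgroup.closure_le]
      rintro x ⟨⟨M, hM, -, rfl⟩, hx⟩
      have hML : M ≠ L := fun hh => hx (by rw [hh]; rfl)
      exact q.mem_Kc hL hM hML.symm
    exact q.ntr L hL.1 ((inv_mem_iff).1 (h3 h2))
  · intro t ht htK
    refine hfix (closure (Orb.ZE Om (S : Subgroup G) K) : Set G) hw ?_ t htK ?_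
    · intro d hd
      rw [mem_centralizer_iff]
      intro a ha
      have h4 : closure (Orb.ZE Om (S : Subgroup G) K) ≤ centralizer {d} := by
        rw [Subgroup.closure_le]
        rintro x ⟨L, hL, -, rfl⟩
        exact mem_centralizer_singleton_iff.2 (q.D_centralizes hL hd).symm
      exact (mem_centralizer_singleton_iff.1 (h4 ha))
    · intro a ha
      have h5 : (closure (Orb.ZE Om (S : Subgroup G) K)).map (MulAut.conj t).toMonoidHom ≤
          closure (Orb.ZE Om (S : Subgroup G) K) := by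
        rw [MonoidHom.map_closure, Subgroup.closure_le]
        rintro x ⟨y, ⟨L, hL, hLK, rfl⟩, rfl⟩
        apply Subgroup.subset_closure
        refine ⟨cj t L, cj_mem_OmS' q.hyp.conj (le_normalizer ht) hL, ?_, ?_⟩
        · intro hh
          apply hLK
          apply cj_inj.1 (hh.trans (mem_normalizer_iff_cj.1 (q.norm_of_comm hK.1 htK)).symm)
        · rw [q.hyp.zz_cj hL.1]; rfl
      exact h5 ⟨a, ha, rfl⟩

/-- **LEMMA ORB** -/
theorem dichotomy (q : QK Om Kc) (hK : K ∈ OmS Om (S : Subgroup G)) {w : G}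
    (hfix : ∀ A : Set G, w ∈ A → DD Om (S : Subgroup G) ≤ centralizer A → ∀ r : G, r * zz K = zz K * r →
        (∀ a ∈ A, r * a * r⁻¹ ∈ A) → r * w = w * r) {X : Subgroup G}
    (hXK : X ≤ Kc K) (hX2 : ∀ x ∈ X, x * x = 1)
    (hXZ : ∀ x ∈ X, ∀ t ∈ (S : Subgroup G), t ∈ Kc K → x * t = t * x)
    (hXS : ∀ x ∈ X, ∀ t ∈ (S : Subgroup G), t * zz K = zz K * t → t * x * t⁻¹ ∈ X)
    (hw : w ∈ X) {r : G} (hr : r * zz K = zz K * r) (hrX : ∀ x ∈ X, r * x * r⁻¹ ∈ X) (hrw : r * w ≠ w * r) :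
    ∃ L ∈ OmS Om (S : Subgroup G), L ≠ K ∧ zz L ∈ X ∧ ¬ L ≤ Kc K ∧ (∃ y ∈ L, ∃ x ∈ X, y * x ≠ x * y) ∧
      (∀ t ∈ (S : Subgroup G), t ∈ Kc K → ∀ y ∈ L, t * y * t⁻¹ * y⁻¹ ∈ L ⊓ Kc K) := by
  have h1 : ¬ DD Om (S : Subgroup G) ≤ centralizer (X : Set G) := by
    intro hD
    exact hrw (hfix (X : Set G) hw hD r hr hrX)
  rw [DD_le_iff] at h1
  push Not at h1
  obtain ⟨L, hL, hLX⟩ := h1
  obtain ⟨y, hy, hyX⟩ := SetLike.not_le_iff_exists.1 hLX
  rw [mem_centralizer_iff] at hyX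
  push Not at hyX
  obtain ⟨x, hx, hxy⟩ := hyX
  have hyL := hy.1
  have hLK : L ≠ K := by
    rintro rfl
    exact hxy (q.comm L hL.1 x (hXK hx) y hyL)
  have hzS : zz L ∈ (S : Subgroup G) := q.le_S hL (q.hyp.zz_mem hL.1)
  have hzK : zz L ∈ Kc K := q.mem_Kc hK hL hLK.symm
  have hyK : ∀ y ∈ L, y * zz K = zz K * y := fun y hy =>
    (q.comm_members hK hL hLK.symm _ (q.hyp.zz_mem hK.1) y hy).symm
  have hTL : ∀ t ∈ (S : Subgroup G), t ∈ Kc K → (∀ x ∈ X, x * t = t * x) := fun t ht htK x hx => hXZ x hx t ht htK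
  -- the commutator
  have hcX : x * y * x⁻¹ * y⁻¹ ∈ X := by
    have h2 := hXS x⁻¹ (X.inv_mem hx) y hy.2 (hyK y hyL)
    have h3 := X.mul_mem hx h2
    have h4 : x * (y * x⁻¹ * y⁻¹) = x * y * x⁻¹ * y⁻¹ := by group
    rwa [h4] at h3
  have hxL : x ∈ normalizer (L : Set G) := q.norm_of_comm hL.1 (hXZ x hx _ hzS hzK)
  have hcL : x * y * x⁻¹ * y⁻¹ ∈ L :=
    L.mul_mem ((mem_normalizer_iff.1 hxL y).1 hyL) (L.inv_mem hyL)
  have hc1 : x * y * x⁻¹ * y⁻¹ ≠ 1 := by
    intro hh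
    rw [mul_inv_eq_one, mul_inv_eq_iff_eq_mul] at hh
    exact hxy hh
  have hz : x * y * x⁻¹ * y⁻¹ = zz L := q.hyp.eq_zz hL.1 hcL (hX2 _ hcX) hc1
  have hzX : zz L ∈ X := hz ▸ hcX
  refine ⟨L, hL, hLK, hzX, ?_, ⟨y, hyL, x, hx, fun hh => hxy hh.symm⟩, ?_⟩
  · intro hle
    exact hxy (hXZ x hx y hy.2 (hle hyL))
  · intro t ht htK y hy
    have h2 : t ∈ normalizer (L : Set G) := q.norm_of_comm hL.1 (hXZ _ hzX t ht htK).symm
    refine ⟨L.mul_mem ((mem_normalizer_iff.1 h2 y).1 hy) (L.inv_mem hy), ?_⟩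
    have h3 := q.nor K hK.1 y (hyK y hy) t⁻¹ ((Kc K).inv_mem htK)
    have h4 := (Kc K).mul_mem htK h3
    have h5 : t * (y * t⁻¹ * y⁻¹) = t * y * t⁻¹ * y⁻¹ := by group
    rwa [h5] at h4

end QK

end Cfsg.Agent.OddHalf.Quat

end

-- merged: Cfsg.Agent.OddHalf.Quat.Base
section

/-!
# Node Q: the frame

`Base z Q K₁`: `Q` is a generalised quaternion 2-group, normal in `C(z)`, `z ∈ Q`; `K₁` is normal in `C(z)`,
`C(K₁) ∩ C(z) = Q`, `z ∉ K₁`, `O(K₁) = 1`.

`Base.qk` : the class of `Q` and the conjugates of `K₁` satisfy `QK`.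
-/

set_option autoImplicit false

namespace Cfsg.Agent.OddHalf.Quat

open Subgroup Cfsg Cfsg.Agent.Cit

variable {G : Type*} [Group G]

/-- the frame of node Q -/
structure Base (z : G) (Q K₁ : Subgroup G) : Prop where
  zo : orderOf z = 2
  zQ : z ∈ Q
  two : IsPGroup 2 Q
  gq : IsGQ Q
  Qn : centralizer {z} ≤ normalizer (Q : Set G)
  Kn : centralizer {z} ≤ normalizer (K₁ : Set G)
  cent : centralizer (K₁ : Set G) ⊓ centralizer {z} = Q
  ntr : z ∉ K₁
  core : OO K₁ = ⊥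

namespace Base

variable {z : G} {Q K₁ : Subgroup G}

theorem QC (b : Base z Q K₁) : Q ≤ centralizer {z} := by rw [← b.cent]; exact inf_le_right

theorem QK₁ (b : Base z Q K₁) : Q ≤ centralizer (K₁ : Set G) := by rw [← b.cent]; exact inf_le_left

theorem K₁C (b : Base z Q K₁) : K₁ ≤ centralizer {z} := by
  intro x hx
  rw [mem_centralizer_singleton_iff]
  exact (mem_centralizer_iff.1 (b.QK₁ b.zQ) x hx)

theorem comm (b : Base z Q K₁) {x y : G} (hx : x ∈ K₁) (hy : y ∈ Q) : x * y = y * x :=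
  (mem_centralizer_iff.1 (b.QK₁ hy) x hx)

theorem eq_z (b : Base z Q K₁) {t : G} (ht : t ∈ Q) (h : t * t = 1) (h1 : t ≠ 1) : t = z := by
  obtain ⟨c, v, z', n, hg⟩ := exists_gq b.gq
  have hzz : z * z = 1 := by rw [← pow_two, ← b.zo, pow_orderOf_eq_one]
  have hz1 : z ≠ 1 := by
    rintro rfl
    have := b.zo
    rw [orderOf_one] at this
    omega
  rw [hg.eq_z ht h h1, hg.eq_z b.zQ hzz hz1]

theorem mul_self (b : Base z Q K₁) : z * z = 1 := by rw [← pow_two, ← b.zo, pow_orderOf_eq_one]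

theorem ne_one (b : Base z Q K₁) : z ≠ 1 := by
  rintro rfl
  have := b.zo
  rw [orderOf_one] at this
  omega

variable [Finite G]

theorem hyp' (b : Base z Q K₁) : Hyp (cls Q) ∧ zz Q = z := by
  have : Fact (Nat.Prime 2) := ⟨Nat.prime_two⟩
  refine hyp_of_class z b.zo Q b.zQ ?_ ?_ ?_ ?_ ?_
  · have hn : (Q.subgroupOf (centralizer {z})).Normal := (normal_subgroupOf_iff_le_normalizer b.QC).2 b.Qn
    exact hn.isSubnormal
  · obtain ⟨n, ⟨e⟩⟩ := b.gq
    have ht : IsPGroup 2 (⊤ : Subgroup Q) := b.two.to_subgroup ⊤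
    refine ⟨ht.toSylow (by rw [index_top]; omega), n, ⟨?_⟩⟩
    exact Subgroup.topEquiv.trans e
  · intro t ht ht2
    refine b.eq_z ht ?_ ?_
    · rw [← pow_two, ← ht2, pow_orderOf_eq_one]
    · rintro rfl
      rw [orderOf_one] at ht2
      omega
  · intro u hu
    left
    exact mem_normalizer_iff_cj.1 (b.Qn hu)
  · intro y _ g _ _ hg
    exact b.Qn hg

theorem hyp (b : Base z Q K₁) : Hyp (cls Q) := b.hyp'.1

theorem zz_eq (b : Base z Q K₁) : zz Q = z := b.hyp'.2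

theorem normalizer_le (b : Base z Q K₁) : normalizer (Q : Set G) ≤ normalizer (K₁ : Set G) := by
  have h1 := b.hyp.normalizer_le (self_mem_cls Q)
  rw [b.zz_eq] at h1
  exact h1.trans b.Kn

open Classical in
/-- the conjugate of `K₁` attached to a conjugate of `Q` -/
noncomputable def Kc (Q K₁ : Subgroup G) (L : Subgroup G) : Subgroup G :=
  if h : ∃ g : G, L = cj g Q then cj h.choose K₁ else ⊥

theorem Kc_cj (b : Base z Q K₁) (g : G) : Kc Q K₁ (cj g Q) = cj g K₁ := by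
  have hex : ∃ h : G, cj g Q = cj h Q := ⟨g, rfl⟩
  have h1 : Kc Q K₁ (cj g Q) = cj hex.choose K₁ := by
    unfold Kc
    rw [dif_pos hex]
  rw [h1]
  have h2 := hex.choose_spec
  set h := hex.choose with hh
  have h3 : cj (g⁻¹ * h) Q = Q := by
    rw [cj_mul, ← h2, cj_inv_cj]
  have h4 := mem_normalizer_iff_cj.1 (b.normalizer_le (mem_normalizer_iff_cj.2 h3))
  rw [cj_mul] at h4
  have h5 := congrArg (cj g) h4
  rwa [cj_cj_inv] at h5

theorem Kc_self (b : Base z Q K₁) : Kc Q K₁ Q = K₁ := by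
  have := b.Kc_cj 1
  rwa [cj_one, cj_one] at this

theorem Kc_conj (b : Base z Q K₁) {L : Subgroup G} (hL : L ∈ cls Q) (g : G) :
    Kc Q K₁ (cj g L) = cj g (Kc Q K₁ L) := by
  obtain ⟨h, rfl⟩ := hL
  rw [← cj_mul, b.Kc_cj, b.Kc_cj, cj_mul]

/-- the frame of a conjugate -/
theorem conj (b : Base z Q K₁) (g : G) : Base (g * z * g⁻¹) (cj g Q) (cj g K₁) := by
  have h0 : (cj g (centralizer {z}) : Subgroup G) = centralizer {g * z * g⁻¹} := cj_centralizer g z
  refine ⟨?_, conj_mem_cj b.zQ, isPGroup_cj b.two, ?_, ?_, ?_, ?_, ?_, ?_⟩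
  · rw [← b.zo]; exact (MulAut.conj g).orderOf_eq z
  · obtain ⟨n, ⟨e⟩⟩ := b.gq
    exact ⟨n, ⟨(cjEquiv g Q).symm.trans e⟩⟩
  · rw [← h0]
    intro x hx
    rw [mem_cj] at hx
    have h1 := mem_normalizer_iff_cj.1 (b.Qn hx)
    rw [mem_normalizer_iff_cj, ← cj_mul]
    have h2 := congrArg (cj g) h1
    rw [← cj_mul] at h2
    rwa [show g * (g⁻¹ * x * g) = x * g by group] at h2
  · rw [← h0]
    intro x hx
    rw [mem_cj] at hx
    have h1 := mem_normalizer_iff_cj.1 (b.Kn hx)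
    rw [mem_normalizer_iff_cj, ← cj_mul]
    have h2 := congrArg (cj g) h1
    rw [← cj_mul] at h2
    rwa [show g * (g⁻¹ * x * g) = x * g by group] at h2
  · rw [← h0]
    have h1 : centralizer ((cj g K₁ : Subgroup G) : Set G) = cj g (centralizer (K₁ : Set G)) := by
      ext x
      rw [mem_cj, mem_centralizer_iff, mem_centralizer_iff]
      constructor
      · intro h k hk
        have h2 := h _ (conj_mem_cj (g := g) hk)
        calc k * (g⁻¹ * x * g) = g⁻¹ * ((g * k * g⁻¹) * x) * g := by group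
          _ = g⁻¹ * (x * (g * k * g⁻¹)) * g := by rw [h2]
          _ = g⁻¹ * x * g * k := by group
      · intro h k hk
        have h2 := h _ (mem_cj.1 hk)
        calc k * x = g * ((g⁻¹ * k * g) * (g⁻¹ * x * g)) * g⁻¹ := by group
          _ = g * ((g⁻¹ * x * g) * (g⁻¹ * k * g)) * g⁻¹ := by rw [h2]
          _ = x * k := by group
    rw [h1, ← cj_inf, b.cent]
  · intro h
    rw [conj_mem_cj_iff] at h
    exact b.ntr h
  · rw [OO_cj, b.core, cj_def, Subgroup.map_bot]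

theorem of_mem (b : Base z Q K₁) {L : Subgroup G} (hL : L ∈ cls Q) : Base (zz L) L (Kc Q K₁ L) := by
  obtain ⟨g, rfl⟩ := hL
  have h1 := b.conj g
  have h2 : zz (cj g Q) = g * z * g⁻¹ := by rw [b.hyp.zz_cj (self_mem_cls Q), b.zz_eq]
  rw [h2, b.Kc_cj]
  exact h1

/-- the family of node Q -/
theorem qk (b : Base z Q K₁) : QK (cls Q) (Kc Q K₁) := by
  refine ⟨b.hyp, fun K hK => (b.of_mem hK).two, ?_, ?_, ?_, fun K hK => (b.of_mem hK).ntr, ?_⟩
  · intro K hK L hL h
    obtain ⟨g, rfl⟩ := hK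
    obtain ⟨k, rfl⟩ := hL
    have h1 := (b.of_mem ⟨g, rfl⟩).Qn
    rw [b.hyp.zz_cj (self_mem_cls Q), b.hyp.zz_cj (self_mem_cls Q), b.zz_eq] at h
    have h2 : k * g⁻¹ ∈ centralizer {g * z * g⁻¹} := by
      rw [mem_centralizer_singleton_iff]
      calc k * g⁻¹ * (g * z * g⁻¹) = (k * z * k⁻¹) * (k * g⁻¹) := by group
        _ = (g * z * g⁻¹) * (k * g⁻¹) := by rw [h]
    have h3 := mem_normalizer_iff_cj.1 ((b.conj g).Qn h2)
    rw [← cj_mul] at h3
    rw [← h3]
    congr 1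
    group
  · intro K hK x hx y hy
    exact (b.of_mem hK).comm hx hy
  · intro K hK g hg x hx
    have h1 := (b.of_mem hK).Kn (mem_centralizer_singleton_iff.2 hg)
    exact (mem_normalizer_iff.1 h1 x).1 hx
  · intro K hK L hL hne hc
    have bK := b.of_mem hK
    have bL := b.of_mem hL
    by_contra hz
    have hLK : L ≤ centralizer {zz K} := by
      intro y hy
      rw [mem_centralizer_singleton_iff]
      exact (hc _ bK.zQ y hy).symm
    have h1 := b.hyp.lemma_two (fun M hM => (b.of_mem hM).two) hL (hLK.trans bK.Kn) bK.core hz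
    have h2 : zz L ∈ centralizer ((Kc Q K₁ K : Subgroup G) : Set G) ⊓ centralizer {zz K} := by
      refine ⟨mem_centralizer_iff.2 fun k hk => ?_, hLK bL.zQ⟩
      exact mem_centralizer_singleton_iff.1 (h1 hk)
    rw [bK.cent] at h2
    have h3 := bK.eq_z h2 bL.mul_self bL.ne_one
    -- `K` and `L` have the same involution and commute: `K` would be abelian
    have h4 : K = L := by
      obtain ⟨g, rfl⟩ := hK
      obtain ⟨k, rfl⟩ := hL
      rw [b.hyp.zz_cj (self_mem_cls Q), b.hyp.zz_cj (self_mem_cls Q), b.zz_eq] at h3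
      have h5 : k * g⁻¹ ∈ centralizer {g * z * g⁻¹} := by
        rw [mem_centralizer_singleton_iff]
        calc k * g⁻¹ * (g * z * g⁻¹) = (k * z * k⁻¹) * (k * g⁻¹) := by group
          _ = (g * z * g⁻¹) * (k * g⁻¹) := by rw [h3]
      have h6 := mem_normalizer_iff_cj.1 ((b.conj g).Qn h5)
      rw [← cj_mul] at h6
      rw [← h6]
      congr 1
      group
    exact hne h4

end Base

end Cfsg.Agent.OddHalf.Quat

end

-- merged: Cfsg.Agent.OddHalf.Quat.Kill
section

/-!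
# Node Q: the kills for `NoThree`, `KBig`, `KZ`

* `Base.exists_sylow` : a Sylow 2-subgroup `S` of `G` containing `Q`, with `S ∩ C(z)` Sylow in `C(z)` and `S ∩ K₁` a
  given Sylow 2-subgroup of `K₁`;
* `Base.exists_ne` : `Om(S)` has another member;
* `Base.kill_three`, `Base.kill_big`, `Base.kill_z`.
-/

set_option autoImplicit false

namespace Cfsg.Agent.OddHalf.Quat

open Subgroup Cfsg Cfsg.Agent.Cit

variable {G : Type*} [Group G]

/-- `|A : C_A(y)| ≤ |B|` if `B` contains all the commutators `[t, y]`, `t ∈ A` -/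
theorem relIndex_le_of_comm [Finite G] {A B : Subgroup G} {y : G} (h : ∀ t ∈ A, t * y * t⁻¹ * y⁻¹ ∈ B) :
    (A ⊓ centralizer {y}).relIndex A ≤ Nat.card B := by
  classical
  let f : A ⧸ (A ⊓ centralizer {y}).subgroupOf A → B := Quotient.lift
    (fun t : A => (⟨(t : G) * y * (t : G)⁻¹ * y⁻¹, h t t.2⟩ : B)) (by
      rintro ⟨a, ha⟩ ⟨c, hc⟩ hac
      have h1 : (⟨a, ha⟩ : A)⁻¹ * ⟨c, hc⟩ ∈ (A ⊓ centralizer {y}).subgroupOf A := QuotientGroup.leftRel_apply.1 hac
      rw [mem_subgroupOf] at h1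
      have h2 : a⁻¹ * c * y = y * (a⁻¹ * c) := mem_centralizer_singleton_iff.1 h1.2
      apply Subtype.ext
      change a * y * a⁻¹ * y⁻¹ = c * y * c⁻¹ * y⁻¹
      have h3 : c * y * c⁻¹ = a * y * a⁻¹ := by
        calc c * y * c⁻¹ = a * (a⁻¹ * c * y) * c⁻¹ := by group
          _ = a * (y * (a⁻¹ * c)) * c⁻¹ := by rw [h2]
          _ = a * y * a⁻¹ := by group
      rw [h3])
  have hf : Function.Injective f := by
    intro u v huv
    induction u using QuotientGroup.induction_on with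
    | H a =>
      induction v using QuotientGroup.induction_on with
      | H c =>
        have h1 : (a : G) * y * (a : G)⁻¹ * y⁻¹ = c * y * (c : G)⁻¹ * y⁻¹ := congrArg Subtype.val huv
        have h2 : (a : G) * y * (a : G)⁻¹ = c * y * (c : G)⁻¹ := mul_right_cancel h1
        rw [QuotientGroup.eq, mem_subgroupOf]
        refine ⟨A.mul_mem (A.inv_mem a.2) c.2, mem_centralizer_singleton_iff.2 ?_⟩
        change (a : G)⁻¹ * c * y = y * ((a : G)⁻¹ * c)
        calc (a : G)⁻¹ * c * y = (a : G)⁻¹ * (c * y * (c : G)⁻¹) * c := by group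
          _ = (a : G)⁻¹ * (a * y * (a : G)⁻¹) * c := by rw [h2]
          _ = y * ((a : G)⁻¹ * c) := by group
  rw [relIndex, index]
  exact Nat.card_le_card_of_injective f hf

namespace Base

variable [Finite G] {z : G} {Q K₁ : Subgroup G}

theorem K₁_inf_Q (b : Base z Q K₁) {x : G} (hx : x ∈ K₁) (hxQ : x ∈ Q) : x = 1 :=
  b.hyp.eq_one_of_mem (self_mem_cls Q) b.two (by rw [b.zz_eq]; exact b.ntr) hxQ hx

/-- choice of the Sylow 2-subgroup -/
theorem exists_sylow (b : Base z Q K₁) {U : Subgroup G} (hU : Syl U K₁) :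
    ∃ S : Sylow 2 G, Syl ((S : Subgroup G) ⊓ centralizer {z}) (centralizer {z}) ∧ Q ≤ (S : Subgroup G) ∧
      (S : Subgroup G) ⊓ K₁ = U := by
  have : Fact (Nat.Prime 2) := ⟨Nat.prime_two⟩
  have hUQ : U ≤ normalizer (Q : Set G) := hU.1.trans (b.K₁C.trans b.Qn)
  have h1 : IsPGroup 2 (Q ⊔ U : Subgroup G) := IsPGroup.to_sup_of_normal_left' b.two hU.2.1 hUQ
  obtain ⟨S₁, hS₁, hle⟩ := LB.exists_syl_ge h1 (sup_le b.QC (hU.1.trans b.K₁C))
  obtain ⟨S, hS⟩ := hS₁.2.1.exists_le_sylow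
  have h2 : S₁ = (S : Subgroup G) ⊓ centralizer {z} :=
    LB.syl_eq_of_le hS₁ (S.isPGroup'.to_le inf_le_left) inf_le_right (le_inf hS hS₁.1)
  refine ⟨S, h2 ▸ hS₁, (le_sup_left.trans hle).trans hS, ?_⟩
  have h3 : U ≤ (S : Subgroup G) ⊓ K₁ := le_inf ((le_sup_right.trans hle).trans hS) hU.1
  exact (LB.syl_eq_of_le hU (S.isPGroup'.to_le inf_le_left) inf_le_right h3).symm

/-- `Om(S)` has another member -/
theorem exists_ne (b : Base z Q K₁) (hn : ∃ L ∈ cls Q, L ≠ Q ∧ ∀ x ∈ Q, ∀ y ∈ L, x * y = y * x)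
    (S : Sylow 2 G) : ∃ L ∈ OmS (cls Q) (S : Subgroup G), L ≠ Q := by
  have : Fact (Nat.Prime 2) := ⟨Nat.prime_two⟩
  obtain ⟨L, hL, hne, hc⟩ := hn
  have bL := b.of_mem hL
  have h1 : IsPGroup 2 (Q ⊔ L : Subgroup G) := by
    refine IsPGroup.to_sup_of_normal_left' b.two bL.two ?_
    intro y hy
    rw [mem_normalizer_iff]
    intro x
    constructor
    · intro hx
      rw [← hc x hx y hy, mul_inv_cancel_right]; exact hx
    · intro hx
      have h3 := hc _ hx y hy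
      have h4 : x = y⁻¹ * (y * x * y⁻¹ * y) := by group
      rw [h4, h3]
      have h5 : y⁻¹ * (y * (y * x * y⁻¹)) = y * x * y⁻¹ := by group
      rw [h5]; exact hx
  obtain ⟨S', hS'⟩ := h1.exists_le_sylow
  obtain ⟨g, hg⟩ := MulAction.exists_smul_eq G S' S
  have hg' : cj g (S' : Subgroup G) = S := by rw [← hg]; rfl
  have hQ' : Q ∈ OmS (cls Q) (S' : Subgroup G) :=
    mem_OmS_of_le (self_mem_cls Q) (syl_self b.two) (le_sup_left.trans hS')
  have hL' : L ∈ OmS (cls Q) (S' : Subgroup G) :=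
    mem_OmS_of_le hL (syl_self bL.two) (le_sup_right.trans hS')
  have h2 := cj_mem_OmS b.hyp.conj g hQ'
  have h3 := cj_mem_OmS b.hyp.conj g hL'
  rw [hg'] at h2 h3
  by_cases h4 : cj g Q = Q
  · refine ⟨_, h3, fun h5 => hne ?_⟩
    rw [← h4, cj_inj] at h5
    exact h5
  · exact ⟨_, h2, h4⟩

/-- **`NoThree`** -/
theorem kill_three (b : Base z Q K₁)
    (h3 : ∃ c ∈ centralizer {z}, (∃ k : ℕ, c ^ 3 ^ k = 1) ∧ ∃ q ∈ Q, c * q ≠ q * c) (hK : NoThree ↥K₁) :
    False := by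
  obtain ⟨c, hc, ⟨k, hck⟩, q, hq, hcq⟩ := h3
  set α : MulAut K₁ := K₁.normalizerMonoidHom ⟨c, b.Kn hc⟩ with hα
  have h1 : ∀ (j : ℕ) (β : MulAut K₁), β ^ 3 ^ j = 1 → β ∈ (MulAut.conj : K₁ →* MulAut K₁).range := by
    intro j
    induction j with
    | zero =>
      intro β hβ
      rw [pow_zero, pow_one] at hβ
      rw [hβ]; exact one_mem _
    | succ j ih =>
      intro β hβ
      apply hK
      apply ih
      have h2 : β * β * β = β ^ 3 := by rw [pow_succ, pow_two]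
      rw [h2, ← pow_mul, ← pow_succ', hβ]
  obtain ⟨⟨m, hm⟩, hmα⟩ := h1 k α (by
    have h2 : (⟨c, b.Kn hc⟩ : normalizer (K₁ : Set G)) ^ 3 ^ k = 1 := Subtype.ext hck
    rw [hα, ← map_pow, h2, map_one])
  have h2 : ∀ x ∈ K₁, c * x * c⁻¹ = m * x * m⁻¹ := by
    intro x hx
    have h3 : (MulAut.conj (⟨m, hm⟩ : K₁)) ⟨x, hx⟩ = α ⟨x, hx⟩ := by rw [hmα]
    exact (congrArg Subtype.val h3).symm
  have hp : m⁻¹ * c ∈ Q := by
    rw [← b.cent]
    refine ⟨mem_centralizer_iff.2 fun x hx => ?_, Subgroup.mul_mem _ (Subgroup.inv_mem _ (b.K₁C hm)) hc⟩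
    have h3 := h2 x hx
    calc x * (m⁻¹ * c) = m⁻¹ * (m * x * m⁻¹) * c := by group
      _ = m⁻¹ * (c * x * c⁻¹) * c := by rw [h3]
      _ = m⁻¹ * c * x := by group
  set p := m⁻¹ * c with hpdef
  have hcmp : c = m * p := by rw [hpdef]; group
  have hmp : Commute m p := b.comm hm hp
  have h4 : m ^ 3 ^ k * p ^ 3 ^ k = 1 := by rw [← hmp.mul_pow, ← hcmp, hck]
  have h5 : p ^ 3 ^ k = 1 := by
    apply b.K₁_inf_Q _ (Q.pow_mem hp _)
    have h6 : p ^ 3 ^ k = (m ^ 3 ^ k)⁻¹ := eq_inv_of_mul_eq_one_right h4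
    rw [h6]
    exact K₁.inv_mem (K₁.pow_mem hm _)
  have h6 : p = 1 := by
    obtain ⟨j, hj⟩ := b.two ⟨p, hp⟩
    have hj' : p ^ 2 ^ j = 1 := congrArg Subtype.val hj
    have h7 : orderOf p ∣ 2 ^ j := orderOf_dvd_of_pow_eq_one hj'
    have h8 : orderOf p ∣ 3 ^ k := orderOf_dvd_of_pow_eq_one h5
    have h9 : Nat.Coprime (2 ^ j) (3 ^ k) := Nat.Coprime.pow _ _ (by norm_num)
    exact orderOf_eq_one_iff.1 (Nat.eq_one_of_dvd_coprimes h9 h7 h8)
  apply hcq
  rw [hcmp, h6, mul_one]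
  exact b.comm hm hq

omit [Finite G] in
/-- elements of `S` commuting with `z` normalise `S ∩ K₁` -/
theorem norm_T (b : Base z Q K₁) {S : Subgroup G} {t : G} (ht : t ∈ S) (htz : t * z = z * t) :
    ∀ x ∈ S ⊓ K₁, t * x * t⁻¹ ∈ S ⊓ K₁ := fun _ hx =>
  ⟨S.mul_mem (S.mul_mem ht hx.1) (S.inv_mem ht),
    (mem_normalizer_iff.1 (b.Kn (mem_centralizer_singleton_iff.2 htz)) _).1 hx.2⟩

/-- **`KBig`** -/
theorem kill_big (b : Base z Q K₁) (h8 : Nat.card Q = 8) (S : Sylow 2 G) (hQS : Q ≤ (S : Subgroup G))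
    (hne : ∃ L ∈ OmS (cls Q) (S : Subgroup G), L ≠ Q)
    (hK : KBig (((S : Subgroup G) ⊓ K₁).subgroupOf K₁)) : False := by
  have q := b.qk
  have hKS : Q ∈ OmS (cls Q) (S : Subgroup G) := mem_OmS_of_le (self_mem_cls Q) (syl_self b.two) hQS
  obtain ⟨w, -, hw1, hww, hwK, hwS, hwt, hfix, -⟩ := q.exists_w hKS hne
  rw [b.Kc_self] at hwK
  simp only [b.zz_eq] at hwt hfix
  set T := (S : Subgroup G) ⊓ K₁ with hT
  have hTz : ∀ t ∈ T, t * z = z * t := fun t ht => mem_centralizer_singleton_iff.1 (b.K₁C ht.2)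
  set U := T.subgroupOf K₁ with hU
  have hmemU : ∀ u : K₁, u ∈ U ↔ (u : G) ∈ T := fun u => mem_subgroupOf
  -- the subgroup `X`
  let X : Subgroup G :=
    { carrier := {x | x ∈ T ∧ x * x = 1 ∧ ∀ t ∈ T, t * x = x * t}
      one_mem' := ⟨T.one_mem, by simp, fun t _ => by simp⟩
      mul_mem' := by
        rintro x y ⟨hx, hx2, hxt⟩ ⟨hy, hy2, hyt⟩
        refine ⟨T.mul_mem hx hy, ?_, fun t ht => ?_⟩
        · calc x * y * (x * y) = x * (y * x) * y := by group
            _ = (x * x) * (y * y) := by rw [hxt y hy]; group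
            _ = 1 := by rw [hx2, hy2, one_mul]
        · rw [← mul_assoc, hxt t ht, mul_assoc, hyt t ht, mul_assoc]
      inv_mem' := by
        rintro x ⟨hx, hx2, hxt⟩
        refine ⟨T.inv_mem hx, by rw [← mul_inv_rev, hx2, inv_one], fun t ht => ?_⟩
        rw [eq_inv_mul_iff_mul_eq, ← mul_assoc, ← hxt t ht, mul_inv_cancel_right] }
  have hX : ∀ x, x ∈ X ↔ x ∈ T ∧ x * x = 1 ∧ ∀ t ∈ T, t * x = x * t := fun x => Iff.rfl
  have hXU : ∀ x : K₁, x ∈ XZ U ↔ (x : G) ∈ X := by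
    intro x
    rw [hX]
    constructor
    · rintro ⟨h1, h2, h3⟩
      exact ⟨(hmemU x).1 h1, congrArg Subtype.val h2, fun t ht =>
        congrArg Subtype.val (h3 ⟨t, ht.2⟩ ((hmemU _).2 ht))⟩
    · rintro ⟨h1, h2, h3⟩
      exact ⟨(hmemU x).2 h1, Subtype.ext h2, fun t ht => Subtype.ext (h3 t ((hmemU _).1 ht))⟩
  have hwX : w ∈ X := (hX w).2 ⟨⟨hwS, hwK⟩, hww, fun t ht => hwt t ht.1 (hTz t ht)⟩
  obtain ⟨r, hr, hrw⟩ := hK.mv ⟨w, hwK⟩ ((hXU _).2 hwX) (fun h => hw1 (congrArg Subtype.val h))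
  have hrT : ∀ x, x ∈ T ↔ (r : G) * x * (r : G)⁻¹ ∈ T := by
    intro x
    constructor
    · intro hx
      exact (hmemU _).1 ((mem_normalizer_iff.1 hr ⟨x, hx.2⟩).1 ((hmemU _).2 hx))
    · intro hx
      have h1 : x ∈ K₁ := by
        have h2 := K₁.mul_mem (K₁.mul_mem (K₁.inv_mem r.2) hx.2) r.2
        have h3 : (r : G)⁻¹ * (r * x * (r : G)⁻¹) * r = x := by group
        rwa [h3] at h2
      exact (hmemU _).1 ((mem_normalizer_iff.1 hr ⟨x, h1⟩).2 ((hmemU _).2 hx))
  have hrX : ∀ x ∈ X, (r : G) * x * (r : G)⁻¹ ∈ X := by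
    intro x hx
    rw [hX] at hx ⊢
    refine ⟨(hrT x).1 hx.1, ?_, fun t ht => ?_⟩
    · calc (r : G) * x * (r : G)⁻¹ * (r * x * (r : G)⁻¹) = r * (x * x) * (r : G)⁻¹ := by group
        _ = 1 := by rw [hx.2.1]; group
    · have h1 : (r : G)⁻¹ * t * r ∈ T := by
        rw [hrT]
        have h2 : (r : G) * ((r : G)⁻¹ * t * r) * (r : G)⁻¹ = t := by group
        rwa [h2]
      have h2 := hx.2.2 _ h1
      calc t * (r * x * (r : G)⁻¹) = r * (((r : G)⁻¹ * t * r) * x) * (r : G)⁻¹ := by group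
        _ = r * (x * ((r : G)⁻¹ * t * r)) * (r : G)⁻¹ := by rw [h2]
        _ = r * x * (r : G)⁻¹ * t := by group
  have hnT := fun {t : G} (ht : t ∈ (S : Subgroup G)) (htz : t * z = z * t) => b.norm_T ht htz
  have hXS : ∀ x ∈ X, ∀ t ∈ (S : Subgroup G), t * zz Q = zz Q * t → t * x * t⁻¹ ∈ X := by
    intro x hx t ht htz
    rw [b.zz_eq] at htz
    have htz' : t⁻¹ * z = z * t⁻¹ := by
      rw [inv_mul_eq_iff_eq_mul, ← mul_assoc, htz, mul_inv_cancel_right]
    rw [hX] at hx ⊢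
    refine ⟨hnT ht htz x hx.1, ?_, fun s hs => ?_⟩
    · calc t * x * t⁻¹ * (t * x * t⁻¹) = t * (x * x) * t⁻¹ := by group
        _ = 1 := by rw [hx.2.1]; group
    · have h1 := hnT ((S : Subgroup G).inv_mem ht) htz' s hs
      have h2 := hx.2.2 _ h1
      calc s * (t * x * t⁻¹) = t * ((t⁻¹ * s * t⁻¹⁻¹) * x) * t⁻¹ := by group
        _ = t * (x * (t⁻¹ * s * t⁻¹⁻¹)) * t⁻¹ := by rw [h2]
        _ = t * x * t⁻¹ * s := by group
  obtain ⟨L, hL, hLK, hzX, hLle, ⟨y, hy, x, hx, hyx⟩, hcom⟩ := q.dichotomy hKS (w := w)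
    (fun A h1 h2 r hr h3 => hfix A h1 h2 r (by rwa [b.zz_eq] at hr) h3) (X := X)
    (fun x hx => by rw [b.Kc_self]; exact hx.1.2) (fun x hx => hx.2.1)
    (fun x hx t ht htK => by
      rw [b.Kc_self] at htK
      exact ((hX x).1 hx).2.2 t ⟨ht, htK⟩ |>.symm) hXS hwX (r := r)
    (by rw [b.zz_eq]; exact mem_centralizer_singleton_iff.1 (b.K₁C r.2)) hrX
    (fun h => hrw (Subtype.ext h))
  rw [b.Kc_self] at hLle hcom
  have hyS : y ∈ (S : Subgroup G) := q.le_S hL hy
  have hyz : y * z = z * y := by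
    have := q.comm_members hKS hL hLK.symm z b.zQ y hy
    exact this.symm
  have hyz' : y⁻¹ * z = z * y⁻¹ := by
    rw [inv_mul_eq_iff_eq_mul, ← mul_assoc, hyz, mul_inv_cancel_right]
  set α : MulAut K₁ := K₁.normalizerMonoidHom ⟨y, b.Kn (mem_centralizer_singleton_iff.2 hyz)⟩ with hα
  have hαx : ∀ u : K₁, ((α u : K₁) : G) = y * u * y⁻¹ := fun u => rfl
  have h4 := hK.act α ?_ ?_ ⟨⟨x, hx.1.2⟩, (hXU _).2 hx, fun h => hyx ?_⟩
    ((T ⊓ centralizer {y}).subgroupOf K₁) ?_ ?_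
  · rw [hU, relIndex_subgroupOf inf_le_right] at h4
    have h5 : (T ⊓ centralizer {y}).relIndex T ≤ Nat.card (L ⊓ K₁ : Subgroup G) :=
      relIndex_le_of_comm fun t ht => hcom t ht.1 ht.2 y hy
    have hL8 : Nat.card L = 8 := by
      obtain ⟨g, rfl⟩ := hL.1
      rw [card_cj, h8]
    have h6 : Nat.card (L ⊓ K₁ : Subgroup G) ∣ Nat.card L := card_dvd_of_le inf_le_left
    have h7 : Nat.card (L ⊓ K₁ : Subgroup G) ≠ Nat.card L := by
      intro h
      apply hLle
      have h9 := Subgroup.eq_of_le_of_card_ge (inf_le_left : L ⊓ K₁ ≤ L) h.ge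
      rw [← h9]
      exact inf_le_right
    rw [hL8] at h6 h7
    have h9 : Nat.card (L ⊓ K₁ : Subgroup G) ≤ 4 := by
      have h10 := Nat.le_of_dvd (by norm_num) h6
      interval_cases h11 : Nat.card (L ⊓ K₁ : Subgroup G) <;> omega
    exact absurd (lt_of_lt_of_le h4 (h5.trans h9)) (lt_irrefl _)
  · have h5 : IsPGroup 2 (zpowers y) := (b.of_mem hL.1).two.to_le (zpowers_le.2 hy)
    have h6 : IsPGroup 2 (zpowers (⟨y, b.Kn (mem_centralizer_singleton_iff.2 hyz)⟩ :
        normalizer (K₁ : Set G))) := by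
      obtain ⟨k, hk⟩ := h5 ⟨y, mem_zpowers y⟩
      have hk' : y ^ 2 ^ k = 1 := congrArg Subtype.val hk
      rintro ⟨_, j, rfl⟩
      refine ⟨k, Subtype.ext (Subtype.ext ?_)⟩
      change (y ^ j) ^ 2 ^ k = 1
      rw [← zpow_natCast, ← zpow_mul, mul_comm, zpow_mul, zpow_natCast, hk', one_zpow]
    have h7 := h6.map (K₁.normalizerMonoidHom)
    rwa [MonoidHom.map_zpowers] at h7
  · intro u hu
    rw [hmemU, hαx]
    exact hnT hyS hyz u ((hmemU u).1 hu)
  · have h5 := congrArg Subtype.val h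
    rw [hαx] at h5
    exact mul_inv_eq_iff_eq_mul.1 h5
  · intro u hu
    rw [mem_subgroupOf] at hu
    exact (hmemU u).2 hu.1
  · intro u hu
    rw [mem_subgroupOf] at hu
    apply Subtype.ext
    rw [hαx]
    have h5 := mem_centralizer_singleton_iff.1 hu.2
    rw [← h5, mul_inv_cancel_right]

end Base

end Cfsg.Agent.OddHalf.Quat

end

-- merged: Cfsg.Agent.OddHalf.Quat.KillTwo
section

/-!
# Node Q: the kill for `KTwo` (`U_3k(2)`, `³D₄(2)`, `²E₆(2)`)

Some `L ∈ Om(S)` acts nontrivially on `V`; then `zz L ∈ V`, the `T`-orbit of `zz L` is the set `E` of all the `zz M`,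
`M ∈ Om(S)`, `M ≠ Q`, so `|E| ≤ 2`, and `|T| ≤ 2 · 16²`.
-/

set_option autoImplicit false

namespace Cfsg.Agent.OddHalf.Quat

open Subgroup Cfsg Cfsg.Agent.Cit

variable {G : Type*} [Group G]

/-- an independent set of `n` elements generates a subgroup of order at least `2 ^ n` -/
theorem two_pow_le [Finite G] (F : Finset G) (h : ∀ x ∈ F, x ∉ closure ((F : Set G) \ {x})) :
    2 ^ F.card ≤ Nat.card (closure (F : Set G)) := by
  classical
  induction F using Finset.induction_on with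
  | empty => simp
  | insert a F ha ih =>
    have h1 : ∀ x ∈ F, x ∉ closure ((F : Set G) \ {x}) := by
      intro x hx hc
      refine h x (Finset.mem_insert_of_mem hx) (closure_mono ?_ hc)
      intro y hy
      exact ⟨by simpa using Or.inr hy.1, hy.2⟩
    have h2 := ih h1
    have h3 : closure (F : Set G) ≤ closure ((insert a F : Finset G) : Set G) :=
      closure_mono (by simp)
    have h4 : a ∉ closure (F : Set G) := by
      intro hc
      refine h a (Finset.mem_insert_self a F) (closure_mono ?_ hc)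
      intro y hy
      refine ⟨by simpa using Or.inr hy, ?_⟩
      rintro rfl
      exact ha hy
    have h5 : a ∈ closure ((insert a F : Finset G) : Set G) := subset_closure (by simp)
    obtain ⟨k, hk⟩ := card_dvd_of_le h3
    have h6 : 0 < Nat.card (closure ((insert a F : Finset G) : Set G)) := Nat.card_pos
    have hk2 : 2 ≤ k := by
      rcases Nat.lt_or_ge k 2 with hk2 | hk2
      · exfalso
        interval_cases k
        · omega
        · rw [mul_one] at hk
          have h7 := Subgroup.eq_of_le_of_card_ge h3 hk.le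
          rw [h7] at h4
          exact h4 h5
      · exact hk2
    rw [Finset.card_insert_of_notMem ha, pow_succ, hk]
    exact Nat.mul_le_mul h2 hk2

/-- the orbit of `a` under `T` -/
theorem card_orbit [Finite G] (T : Subgroup G) (a : G) :
    Nat.card {x : G // ∃ t ∈ T, x = t * a * t⁻¹} = (T ⊓ centralizer {a}).relIndex T := by
  classical
  symm
  rw [relIndex, index]
  have hiff : ∀ s ∈ T, ∀ t ∈ T, (s * a * s⁻¹ = t * a * t⁻¹ ↔ s⁻¹ * t ∈ T ⊓ centralizer {a}) := by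
    intro s hs t ht
    constructor
    · intro h
      refine ⟨T.mul_mem (T.inv_mem hs) ht, mem_centralizer_singleton_iff.2 ?_⟩
      calc s⁻¹ * t * a = s⁻¹ * (t * a * t⁻¹) * t := by group
        _ = s⁻¹ * (s * a * s⁻¹) * t := by rw [h]
        _ = a * (s⁻¹ * t) := by group
    · intro h
      have h2 : s⁻¹ * t * a = a * (s⁻¹ * t) := mem_centralizer_singleton_iff.1 h.2
      calc s * a * s⁻¹ = s * (a * (s⁻¹ * t)) * t⁻¹ := by group
        _ = s * (s⁻¹ * t * a) * t⁻¹ := by rw [h2]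
        _ = t * a * t⁻¹ := by group
  let f : T ⧸ (T ⊓ centralizer {a}).subgroupOf T → {x : G // ∃ t ∈ T, x = t * a * t⁻¹} := Quotient.lift
    (fun t : T => (⟨(t : G) * a * (t : G)⁻¹, t, t.2, rfl⟩ : {x : G // ∃ t ∈ T, x = t * a * t⁻¹})) (by
      rintro ⟨s, hs⟩ ⟨t, ht⟩ hst
      have h1 : (⟨s, hs⟩ : T)⁻¹ * ⟨t, ht⟩ ∈ (T ⊓ centralizer {a}).subgroupOf T := QuotientGroup.leftRel_apply.1 hst
      rw [mem_subgroupOf] at h1
      exact Subtype.ext ((hiff s hs t ht).2 h1))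
  refine Nat.card_congr (Equiv.ofBijective f ⟨?_, ?_⟩)
  · intro u v huv
    induction u using QuotientGroup.induction_on with
    | H s =>
      induction v using QuotientGroup.induction_on with
      | H t =>
        rw [QuotientGroup.eq, mem_subgroupOf]
        exact (hiff s s.2 t t.2).1 (congrArg Subtype.val huv)
  · rintro ⟨x, t, ht, rfl⟩
    exact ⟨QuotientGroup.mk ⟨t, ht⟩, rfl⟩

namespace Base

variable [Finite G] {z : G} {Q K₁ : Subgroup G}

/-- a 2-subgroup of `C(z)` meets `K₁` in a subgroup of index at most 16 -/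
theorem relIndex_le (b : Base z Q K₁) (h8 : Nat.card Q = 8)
    (hout : ¬ 4 ∣ (MulAut.conj : K₁ →* MulAut K₁).range.index) {R : Subgroup G} (hR : IsPGroup 2 R)
    (hRz : R ≤ centralizer {z}) : K₁.relIndex R ≤ 16 := by
  have : Fact (Nat.Prime 2) := ⟨Nat.prime_two⟩
  set J := K₁ ⊔ Q with hJ
  have hQn : Q ≤ normalizer (K₁ : Set G) := b.QC.trans b.Kn
  have h1 : K₁.relIndex J ≤ 8 := by
    rw [hJ, LB.relIndex_sup_of_normalizes hQn, ← h8]
    exact Nat.le_of_dvd Nat.card_pos (relIndex_dvd_card _ _)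
  have h2 : J.relIndex R ≤ 2 := by
    obtain ⟨k, hk⟩ : ∃ k, J.relIndex R = 2 ^ k := by
      obtain ⟨k, hk⟩ := hR.index (J.subgroupOf R)
      exact ⟨k, hk⟩
    by_contra hcon
    apply hout
    have h3 : 4 ∣ J.relIndex R := by
      rw [hk] at hcon ⊢
      have h4 : 2 ≤ k := by
        by_contra h5
        interval_cases k <;> omega
      exact (by norm_num : (4 : ℕ) = 2 ^ 2) ▸ pow_dvd_pow 2 h4
    refine h3.trans ?_
    let φ : R →* MulAut K₁ := (K₁.normalizerMonoidHom).comp (inclusion (hRz.trans b.Kn))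
    have h4 : ((MulAut.conj : K₁ →* MulAut K₁).range).comap φ ≤ J.subgroupOf R := by
      rintro ⟨r, hr⟩ ⟨⟨m, hm⟩, hmr⟩
      rw [mem_subgroupOf]
      have h5 : ∀ x ∈ K₁, m * x * m⁻¹ = r * x * r⁻¹ := by
        intro x hx
        have h6 : (MulAut.conj (⟨m, hm⟩ : K₁)) ⟨x, hx⟩ = φ ⟨r, hr⟩ ⟨x, hx⟩ := by rw [hmr]
        exact congrArg Subtype.val h6
      have h6 : m⁻¹ * r ∈ Q := by
        rw [← b.cent]
        refine ⟨mem_centralizer_iff.2 fun x hx => ?_,
          Subgroup.mul_mem _ (Subgroup.inv_mem _ (b.K₁C hm)) (hRz hr)⟩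
        have h3 := h5 x hx
        calc x * (m⁻¹ * r) = m⁻¹ * (m * x * m⁻¹) * r := by group
          _ = m⁻¹ * (r * x * r⁻¹) * r := by rw [h3]
          _ = m⁻¹ * r * x := by group
      have h7 : r = m * (m⁻¹ * r) := by group
      change r ∈ J
      rw [h7]
      exact J.mul_mem ((le_sup_left : K₁ ≤ J) hm) ((le_sup_right : Q ≤ J) h6)
    have h5 : J.relIndex R ∣ (((MulAut.conj : K₁ →* MulAut K₁).range).comap φ).index := index_dvd_of_le h4
    rw [index_comap] at h5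
    have hn : ((MulAut.conj : K₁ →* MulAut K₁).range).Normal := by
      refine ⟨?_⟩
      rintro _ ⟨k, rfl⟩ β
      refine ⟨β k, ?_⟩
      ext x
      simp
    exact h5.trans (relIndex_dvd_index_of_normal _ _)
  have h3 : K₁.relIndex (J ⊓ R) * J.relIndex R = (K₁ ⊓ J).relIndex R := relIndex_inf_mul_relIndex _ _ _
  rw [inf_eq_left.2 (le_sup_left : K₁ ≤ J)] at h3
  have h4 : K₁.relIndex (J ⊓ R) ≤ K₁.relIndex J :=
    relIndex_le_of_le_right inf_le_left (by
      have : K₁.relIndex J ≠ 0 := index_ne_zero_of_finite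
      exact this)
  calc K₁.relIndex R = K₁.relIndex (J ⊓ R) * J.relIndex R := h3.symm
    _ ≤ 8 * 2 := Nat.mul_le_mul (h4.trans h1) h2
    _ = 16 := by norm_num

theorem relIndex_le' (b : Base z Q K₁) (h8 : Nat.card Q = 8)
    (hout : ¬ 4 ∣ (MulAut.conj : K₁ →* MulAut K₁).range.index) {L : Subgroup G} (hL : L ∈ cls Q)
    {R : Subgroup G} (hR : IsPGroup 2 R) (hRz : R ≤ centralizer {zz L}) : (Kc Q K₁ L).relIndex R ≤ 16 := by
  obtain ⟨g, rfl⟩ := hL
  rw [b.Kc_cj]
  have h1 : (cj g K₁).relIndex R = K₁.relIndex (cj g⁻¹ R) := by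
    rw [← relIndex_cj g⁻¹, cj_inv_cj]
  rw [h1]
  refine b.relIndex_le h8 hout (isPGroup_cj hR) ?_
  intro x hx
  rw [mem_cj, inv_inv] at hx
  have h2 := mem_centralizer_singleton_iff.1 (hRz hx)
  rw [b.hyp.zz_cj (self_mem_cls Q), b.zz_eq] at h2
  rw [mem_centralizer_singleton_iff]
  calc x * z = g⁻¹ * (g * x * g⁻¹ * (g * z * g⁻¹)) * g := by group
    _ = g⁻¹ * (g * z * g⁻¹ * (g * x * g⁻¹)) * g := by rw [h2]
    _ = z * x := by group

/-- **`KTwo`** -/
theorem kill_two (b : Base z Q K₁) (h8 : Nat.card Q = 8) (S : Sylow 2 G) (hQS : Q ≤ (S : Subgroup G))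
    (hne : ∃ L ∈ OmS (cls Q) (S : Subgroup G), L ≠ Q) {V : Subgroup ↥K₁}
    (hK : KTwo (((S : Subgroup G) ⊓ K₁).subgroupOf K₁) V) : False := by
  classical
  have h2p : Fact (Nat.Prime 2) := ⟨Nat.prime_two⟩
  have q := b.qk
  have hKS : Q ∈ OmS (cls Q) (S : Subgroup G) := mem_OmS_of_le (self_mem_cls Q) (syl_self b.two) hQS
  obtain ⟨w, -, hw1, hww, hwK, hwS, hwt, hfix, -, hex⟩ := q.exists_w hKS hne
  rw [b.Kc_self] at hwK
  simp only [b.zz_eq] at hwt hfix
  set T := (S : Subgroup G) ⊓ K₁ with hT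
  have hT2 : IsPGroup 2 T := S.isPGroup'.to_le inf_le_left
  have hTz : ∀ t ∈ T, t * z = z * t := fun t ht => mem_centralizer_singleton_iff.1 (b.K₁C ht.2)
  set U := T.subgroupOf K₁ with hU
  have hmemU : ∀ u : K₁, u ∈ U ↔ (u : G) ∈ T := fun u => mem_subgroupOf
  set V' : Subgroup G := V.map K₁.subtype with hV'
  have hmemV : ∀ (x : G) (hx : x ∈ K₁), x ∈ V' ↔ (⟨x, hx⟩ : K₁) ∈ V := by
    intro x hx
    rw [hV', mem_map]
    constructor
    · rintro ⟨y, hy, rfl⟩; exact hy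
    · intro h; exact ⟨_, h, rfl⟩
  have hVK : V' ≤ K₁ := map_subtype_le _
  have hVT : V' ≤ T := by
    rintro _ ⟨y, hy, rfl⟩
    exact (hmemU y).1 (hK.le hy)
  have hV2 : ∀ x ∈ V', x * x = 1 := by
    rintro _ ⟨y, hy, rfl⟩
    exact congrArg Subtype.val (hK.sq y hy)
  have hVc : ∀ x ∈ V', ∀ y ∈ V', x * y = y * x := by
    intro x hx y hy
    have h1 := hV2 _ (V'.mul_mem hx hy)
    have h2 : x⁻¹ = x := inv_eq_of_mul_eq_one_left (hV2 x hx)
    have h3 : y⁻¹ = y := inv_eq_of_mul_eq_one_left (hV2 y hy)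
    calc x * y = (x * y)⁻¹ := (inv_eq_of_mul_eq_one_left h1).symm
      _ = y⁻¹ * x⁻¹ := mul_inv_rev _ _
      _ = y * x := by rw [h2, h3]
  have hVcard : Nat.card V' ≤ 16 := by
    rw [hV', card_map_of_injective K₁.subtype_injective]
    exact hK.card
  obtain ⟨w₀, hw₀V, hw₀1, hw₀u, r, hrV, hrw⟩ := hK.w
  -- the elements of `Ω₁(Z(T))`
  have hXZ : ∀ x, x ∈ T → x * x = 1 → (∀ t ∈ T, t * x = x * t) → x = 1 ∨ x = w₀ := by
    intro x hx hx2 hxt
    rcases hw₀u ⟨x, hx.2⟩ ⟨(hmemU _).2 hx, Subtype.ext hx2,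
      fun u hu => Subtype.ext (hxt u ((hmemU u).1 hu))⟩ with h | h
    · exact Or.inl (congrArg Subtype.val h)
    · exact Or.inr (congrArg Subtype.val h)
  have hww₀ : w = w₀ := (hXZ w ⟨hwS, hwK⟩ hww fun t ht => hwt t ht.1 (hTz t ht)).resolve_left hw1
  have hwV : w ∈ V' := by rw [hww₀]; exact ⟨w₀, hw₀V, rfl⟩
  have hnT := fun {t : G} (ht : t ∈ (S : Subgroup G)) (htz : t * z = z * t) => b.norm_T ht htz
  -- elements of `S` commuting with `z` normalise `V'`
  have hnV : ∀ t ∈ (S : Subgroup G), t * z = z * t → ∀ x ∈ V', t * x * t⁻¹ ∈ V' := by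
    intro t ht htz x hx
    have h1 := hK.inv (K₁.normalizerMonoidHom ⟨t, b.Kn (mem_centralizer_singleton_iff.2 htz)⟩)
      (fun u hu => (hmemU _).2 (hnT ht htz u ((hmemU u).1 hu))) ⟨x, hVK hx⟩ ((hmemV x (hVK hx)).1 hx)
    exact (hmemV _ _).2 h1
  -- some member acts nontrivially on `V'`
  have hDV : ¬ DD (cls Q) (S : Subgroup G) ≤ centralizer (V' : Set G) := by
    intro hD
    apply hrw
    have h1 := hfix (V' : Set G) hwV hD r (mem_centralizer_singleton_iff.1 (b.K₁C r.2)) (by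
      intro x hx
      have h2 := hrV ⟨x, hVK hx⟩ ((hmemV x (hVK hx)).1 hx)
      exact (hmemV _ (K₁.mul_mem (K₁.mul_mem r.2 (hVK hx)) (K₁.inv_mem r.2))).2 h2)
    rw [hww₀] at h1
    exact Subtype.ext h1
  rw [DD_le_iff] at hDV
  push Not at hDV
  obtain ⟨L, hL, hLV⟩ := hDV
  obtain ⟨y, hy, hyV⟩ := SetLike.not_le_iff_exists.1 hLV
  have hLQ : L ≠ Q := by
    rintro rfl
    apply hyV
    rw [mem_centralizer_iff]
    intro x hx
    exact b.comm (hVK hx) hy.1
  have bL := b.of_mem hL.1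
  have hLS : L ≤ (S : Subgroup G) := q.le_S hL
  have hcz : ∀ M ∈ OmS (cls Q) (S : Subgroup G), M ≠ Q → ∀ x ∈ M, x * z = z * x := fun M hM hMQ x hx =>
    (q.comm_members hKS hM hMQ.symm z b.zQ x hx).symm
  have hLz : ∀ x ∈ L, x * z = z * x := hcz L hL hLQ
  have hLnV : L ≤ normalizer (V' : Set G) := by
    intro x hx
    have h1 : x⁻¹ ∈ L := L.inv_mem hx
    rw [mem_normalizer_iff]
    intro v
    refine ⟨hnV x (hLS hx) (hLz x hx) v, fun hv => ?_⟩
    have h2 := hnV x⁻¹ (hLS h1) (hLz _ h1) _ hv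
    have h3 : x⁻¹ * (x * v * x⁻¹) * x⁻¹⁻¹ = v := by group
    rwa [h3] at h2
  have hLV' : ¬ ∀ v ∈ V', ∀ x ∈ L, v * x = x * v := by
    intro h
    apply hyV
    rw [mem_centralizer_iff]
    exact fun v hv => h v hv y hy.1
  have hzL : zz L ∈ V' := by
    by_contra hz
    apply hLV'
    intro v hv x hx
    exact (b.hyp.lemma_one hL.1 bL.two (hT2.to_le hVT) hLnV hz x hx v hv).symm
  -- the orbit
  set O : Set G := {x | ∃ t ∈ T, x = t * zz L * t⁻¹} with hO
  have hOV : O ⊆ V' := by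
    rintro _ ⟨t, ht, rfl⟩
    exact hnV t ht.1 (hTz t ht) _ hzL
  have hTQ : ∀ t ∈ T, cj t Q = Q := fun t ht =>
    mem_normalizer_iff_cj.1 (b.Qn (mem_centralizer_singleton_iff.2 (hTz t ht)))
  have hOE : O ⊆ Orb.ZE (cls Q) (S : Subgroup G) Q := by
    rintro _ ⟨t, ht, rfl⟩
    refine ⟨cj t L, cj_mem_OmS' b.hyp.conj (le_normalizer ht.1) hL, ?_, (b.hyp.zz_cj hL.1 t).symm⟩
    intro h
    apply hLQ
    rw [← hTQ t ht, cj_inj] at h
    exact h
  have hself : zz L ∈ O := ⟨1, T.one_mem, by group⟩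
  -- independence
  have hind : ∀ x ∈ Orb.ZE (cls Q) (S : Subgroup G) Q, x ∉ closure (Orb.ZE (cls Q) (S : Subgroup G) Q \ {x}) := by
    rintro _ ⟨M, hM, hMQ, rfl⟩ hc
    apply q.ntr M hM.1
    have h3 : closure (Orb.ZE (cls Q) (S : Subgroup G) Q \ {zz M}) ≤ Kc Q K₁ M := by
      rw [Subgroup.closure_le]
      rintro x ⟨⟨N, hN, -, rfl⟩, hx⟩
      have hNM : N ≠ M := fun hh => hx (by rw [hh]; rfl)
      exact q.mem_Kc hM hN hNM.symm
    exact h3 hc
  -- the product of the orbit is `w`, so `O = E`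
  have hEO : Orb.ZE (cls Q) (S : Subgroup G) Q ⊆ O := by
    obtain ⟨u, hu, hufix, huex, -⟩ := exists_prod O (Set.toFinite O)
      (fun x hx y hy => hVc x (hOV hx) y (hOV hy))
    have huV : u ∈ V' := (Subgroup.closure_le V').2 hOV hu
    have hu1 : u ≠ 1 := by
      rintro rfl
      have h1 := huex _ hself
      rw [mul_one] at h1
      have hsub : O \ {zz L} ⊆ Orb.ZE (cls Q) (S : Subgroup G) Q \ {zz L} := Set.diff_subset_diff_left hOE
      have h3 := Subgroup.inv_mem _ h1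
      rw [inv_inv] at h3
      exact hind _ (hOE hself) (Subgroup.closure_mono hsub h3)
    have huw : u = w₀ := by
      refine (hXZ u (hVT huV) (hV2 u huV) fun t ht => ?_).resolve_left hu1
      have h1 := hufix (MulAut.conj t).toMonoidHom (MulAut.conj t).injective (by
        rintro _ ⟨s, hs, rfl⟩
        refine ⟨t * s, T.mul_mem ht hs, ?_⟩
        change t * (s * zz L * s⁻¹) * t⁻¹ = t * s * zz L * (t * s)⁻¹
        group)
      have h2 : t * u * t⁻¹ = u := h1
      exact mul_inv_eq_iff_eq_mul.1 h2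
    intro e he
    by_contra heO
    have h1 := hex e he
    have h2 : w ∈ closure (Orb.ZE (cls Q) (S : Subgroup G) Q \ {e}) := by
      rw [hww₀, ← huw]
      have hsub : O ⊆ Orb.ZE (cls Q) (S : Subgroup G) Q \ {e} := by
        intro x hx
        refine ⟨hOE hx, ?_⟩
        rintro rfl
        exact heO hx
      exact Subgroup.closure_mono hsub hu
    have h3 := Subgroup.mul_mem _ h1 (Subgroup.inv_mem _ h2)
    rw [mul_inv_cancel_right] at h3
    exact hind e he (by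
      have := Subgroup.inv_mem _ h3
      rwa [inv_inv] at this)
  have hOeq : O = Orb.ZE (cls Q) (S : Subgroup G) Q := hOE.antisymm hEO
  -- `|O| ≤ 3`
  set T₀ := T ⊓ centralizer {zz L} with hT₀
  have hcardO : Nat.card O = T₀.relIndex T := card_orbit T (zz L)
  have hle3 : Nat.card O ≤ 3 := by
    have h1 := two_pow_le (Set.toFinite O).toFinset (by
      intro x hx
      rw [Set.Finite.coe_toFinset, hOeq]
      exact hind x (hOE ((Set.Finite.mem_toFinset _).1 hx)))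
    rw [Set.Finite.coe_toFinset] at h1
    have h2 : (Set.toFinite O).toFinset.card = Nat.card O := by
      rw [Nat.card_coe_set_eq, Set.ncard_eq_toFinset_card _ (Set.toFinite O)]
    rw [h2] at h1
    have h3 : closure O ≤ V' := (Subgroup.closure_le V').2 hOV
    by_contra hcon
    have h4 : 2 ^ 4 ≤ Nat.card (closure O) := (Nat.pow_le_pow_right (by norm_num) (by omega)).trans h1
    have h5 : closure O = V' := Subgroup.eq_of_le_of_card_ge h3 (by omega)
    apply hLV'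
    intro v hv x hx
    rw [← h5] at hv
    have h6 : closure O ≤ centralizer {x} := by
      rw [Subgroup.closure_le]
      intro o ho
      obtain ⟨M, hM, -, rfl⟩ := hOE ho
      by_cases hML : M = L
      · subst hML
        exact mem_centralizer_singleton_iff.2 (b.hyp.comm_zz hM.1 (le_normalizer hx)).symm
      · exact mem_centralizer_singleton_iff.2 (q.comm_members hM hL hML _ (q.hyp.zz_mem hM.1) x hx)
    exact mem_centralizer_singleton_iff.1 (h6 hv)
  have hle2 : T₀.relIndex T ≤ 2 := by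
    obtain ⟨k, hk⟩ : ∃ k, T₀.relIndex T = 2 ^ k := by
      obtain ⟨k, hk⟩ := hT2.index (T₀.subgroupOf T)
      exact ⟨k, hk⟩
    rw [hcardO, hk] at hle3
    rw [hk]
    have h4 : k < 2 := by
      by_contra h5
      have : 2 ^ 2 ≤ 2 ^ k := Nat.pow_le_pow_right (by norm_num) (by omega)
      omega
    interval_cases k <;> norm_num
  -- the second member
  obtain ⟨M, hM, hMQ, hcov⟩ : ∃ M ∈ OmS (cls Q) (S : Subgroup G), M ≠ Q ∧
      ∀ N ∈ OmS (cls Q) (S : Subgroup G), N ≠ Q → N = L ∨ N = M := by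
    by_cases hall : ∀ N ∈ OmS (cls Q) (S : Subgroup G), N ≠ Q → N = L
    · exact ⟨L, hL, hLQ, fun N hN hNQ => Or.inl (hall N hN hNQ)⟩
    push Not at hall
    obtain ⟨M, hM, hMQ, hML⟩ := hall
    refine ⟨M, hM, hMQ, fun N hN hNQ => ?_⟩
    by_contra hcon
    push Not at hcon
    have hz : ∀ A ∈ OmS (cls Q) (S : Subgroup G), A ≠ Q → zz A ∈ O := fun A hA hAQ => hEO ⟨A, hA, hAQ, rfl⟩
    have hzne : ∀ A ∈ OmS (cls Q) (S : Subgroup G), ∀ B ∈ OmS (cls Q) (S : Subgroup G), A ≠ B → zz A ≠ zz B :=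
      fun A hA B hB hAB h => hAB (q.one A hA.1 B hB.1 h)
    have h5 : ({zz L, zz M, zz N} : Finset G).card = 3 := by
      rw [Finset.card_eq_three]
      exact ⟨zz L, zz M, zz N, hzne L hL M hM (Ne.symm hML), hzne L hL N hN (Ne.symm hcon.1),
        hzne M hM N hN (Ne.symm hcon.2), rfl⟩
    have h6 : (({zz L, zz M, zz N} : Finset G) : Set G) ⊆ O := by
      intro x hx
      simp only [Finset.coe_insert, Finset.coe_singleton, Set.mem_insert_iff, Set.mem_singleton_iff] at hx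
      rcases hx with rfl | rfl | rfl
      · exact hself
      · exact hz M hM hMQ
      · exact hz N hN hNQ
    have h7 := Set.ncard_le_ncard h6 (Set.toFinite O)
    rw [Set.ncard_coe_finset, h5, ← Nat.card_coe_set_eq, hcardO] at h7
    omega
  have bM := b.of_mem hM.1
  -- `T₀` centralises `zz M`
  have hT₀L : T₀ ≤ centralizer {zz L} := inf_le_right
  have hperm : ∀ t ∈ T, (cj t L = L ∨ cj t L = M) ∧ (cj t M = L ∨ cj t M = M) := by
    intro t ht
    have h1 : ∀ A ∈ OmS (cls Q) (S : Subgroup G), A ≠ Q → cj t A = L ∨ cj t A = M := by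
      intro A hA hAQ
      refine hcov _ (cj_mem_OmS' b.hyp.conj (le_normalizer ht.1) hA) fun h => hAQ ?_
      rw [← hTQ t ht, cj_inj] at h
      exact h
    exact ⟨h1 L hL hLQ, h1 M hM hMQ⟩
  have hT₀cj : ∀ t ∈ T₀, cj t L = L := fun t ht => mem_normalizer_iff_cj.1 (bL.Qn ht.2)
  have hT₀M : T₀ ≤ centralizer {zz M} := by
    intro t ht
    have h1 : cj t M = M := by
      rcases (hperm t ht.1).2 with h | h
      · have h2 := hT₀cj t ht
        rw [← h2, cj_inj] at h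
        rw [h, h2]
      · exact h
    have h2 := b.hyp.zz_cj hM.1 t
    rw [h1, eq_mul_inv_iff_mul_eq] at h2
    exact mem_centralizer_singleton_iff.2 h2.symm
  -- `N`
  set N := Kc Q K₁ L ⊓ Kc Q K₁ M ⊓ T₀ with hN
  have hNT : N ≤ T := inf_le_right.trans inf_le_left
  have hwL : w ∉ Kc Q K₁ L := by
    intro h
    apply q.ntr L hL.1
    have h1 := hex _ ⟨L, hL, hLQ, rfl⟩
    have h3 : closure (Orb.ZE (cls Q) (S : Subgroup G) Q \ {zz L}) ≤ Kc Q K₁ L := by
      rw [Subgroup.closure_le]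
      rintro x ⟨⟨A, hA, -, rfl⟩, hx⟩
      have hAL : A ≠ L := fun hh => hx (by rw [hh]; rfl)
      exact q.mem_Kc hL hA hAL.symm
    have h4 := (Kc Q K₁ L).mul_mem (h3 h1) ((Kc Q K₁ L).inv_mem h)
    rw [mul_inv_cancel_right] at h4
    exact (inv_mem_iff).1 h4
  have hNn : ∀ t ∈ T, ∀ x ∈ N, t * x * t⁻¹ ∈ N := by
    intro t ht x hx
    have h1 : ∀ A ∈ cls Q, x ∈ Kc Q K₁ A → t * x * t⁻¹ ∈ Kc Q K₁ (cj t A) := by
      intro A hA hxA
      rw [b.Kc_conj hA]
      exact conj_mem_cj hxA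
    have h2 := h1 L hL.1 hx.1.1
    have h3 := h1 M hM.1 hx.1.2
    have h4 : ∀ A ∈ cls Q, x * zz A = zz A * x → t * x * t⁻¹ * zz (cj t A) = zz (cj t A) * (t * x * t⁻¹) := by
      intro A hA hxA
      rw [b.hyp.zz_cj hA]
      calc t * x * t⁻¹ * (t * zz A * t⁻¹) = t * (x * zz A) * t⁻¹ := by group
        _ = t * (zz A * x) * t⁻¹ := by rw [hxA]
        _ = _ := by group
    have h5 := h4 L hL.1 (mem_centralizer_singleton_iff.1 (hT₀L hx.2))
    have h6 := h4 M hM.1 (mem_centralizer_singleton_iff.1 (hT₀M hx.2))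
    have h7 : t * x * t⁻¹ ∈ T := T.mul_mem (T.mul_mem ht (hNT hx)) (T.inv_mem ht)
    rcases (hperm t ht).1 with h8 | h8
    · have h9 : cj t M = M := by
        rcases (hperm t ht).2 with h | h
        · rw [← h8, cj_inj] at h
          rw [h, h8]
        · exact h
      rw [h8] at h2 h5
      rw [h9] at h3
      exact ⟨⟨h2, h3⟩, h7, mem_centralizer_singleton_iff.2 h5⟩
    · have h9 : cj t M = L := by
        rcases (hperm t ht).2 with h | h
        · exact h
        · have h10 : cj t L = cj t M := by rw [h8, h]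
          rw [cj_inj] at h10
          rw [← h10, h8, ← h10]
      rw [h8] at h2
      rw [h9] at h3 h6
      exact ⟨⟨h3, h2⟩, h7, mem_centralizer_singleton_iff.2 h6⟩
  have hNbot : N = ⊥ := by
    by_contra hNb
    have hnor : (N.subgroupOf T).Normal := by
      refine ⟨fun x hx t => ?_⟩
      rw [mem_subgroupOf] at hx ⊢
      exact hNn t t.2 x hx
    have hnt : N.subgroupOf T ≠ ⊥ := by
      intro h
      apply hNb
      rw [← map_subgroupOf_eq_of_le hNT, h, Subgroup.map_bot]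
    have : Group.IsNilpotent T := hT2.isNilpotent
    have h2 := Lib.NormalAbelian.normal_inf_center_ne_bot (N.subgroupOf T) hnt
    obtain ⟨⟨⟨x, hxT⟩, hxN, hxc⟩, hx1⟩ := (Subgroup.ne_bot_iff_exists_ne_one).1 h2
    have hx1' : x ≠ 1 := fun h => hx1 (Subtype.ext (Subtype.ext h))
    have hxN' : x ∈ N := hxN
    have hxc' : ∀ t ∈ T, t * x = x * t := fun t ht => congrArg Subtype.val (mem_center_iff.1 hxc ⟨t, ht⟩)
    -- a power of `x` is an involution
    obtain ⟨k, hk⟩ := hT2 ⟨x, hxT⟩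
    have hk' : x ^ 2 ^ k = 1 := congrArg Subtype.val hk
    obtain ⟨k, hk, hmin⟩ : ∃ k, x ^ 2 ^ k = 1 ∧ ∀ j < k, x ^ 2 ^ j ≠ 1 := by
      have hex' : ∃ k, x ^ 2 ^ k = 1 := ⟨k, hk'⟩
      exact ⟨Nat.find hex', Nat.find_spec hex', fun j hj => Nat.find_min hex' hj⟩
    have hk0 : k ≠ 0 := by
      rintro rfl
      apply hx1'
      simpa using hk
    obtain ⟨j, rfl⟩ : ∃ j, k = j + 1 := ⟨k - 1, by omega⟩
    have h3 := hmin j (by omega)
    have h4 : x ^ 2 ^ j * x ^ 2 ^ j = 1 := by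
      rw [← pow_add, ← two_mul, ← pow_succ', hk]
    have h5 := (hXZ (x ^ 2 ^ j) (T.pow_mem hxT _) h4 fun t ht =>
      ((show Commute t x from hxc' t ht).pow_right _)).resolve_left h3
    apply hwL
    rw [hww₀, ← h5]
    exact (Kc Q K₁ L).pow_mem hxN'.1.1 _
  -- the order of `T`
  have h1 : (⊥ : Subgroup G).relIndex T ≤ 512 := by
    rw [← hNbot]
    have h2 : N.relIndex T₀ * T₀.relIndex T = N.relIndex T :=
      relIndex_mul_relIndex _ _ _ inf_le_right inf_le_left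
    have h3 : N.relIndex T₀ ≤ 256 := by
      rw [hN, inf_relIndex_right]
      calc (Kc Q K₁ L ⊓ Kc Q K₁ M).relIndex T₀ ≤ (Kc Q K₁ L).relIndex T₀ * (Kc Q K₁ M).relIndex T₀ :=
            relIndex_inf_le
        _ ≤ 16 * 16 := Nat.mul_le_mul
            (b.relIndex_le' h8 hK.out hL.1 (hT2.to_le inf_le_left) hT₀L)
            (b.relIndex_le' h8 hK.out hM.1 (hT2.to_le inf_le_left) hT₀M)
        _ = 256 := by norm_num
    calc N.relIndex T = N.relIndex T₀ * T₀.relIndex T := h2.symm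
      _ ≤ 256 * 2 := Nat.mul_le_mul h3 hle2
      _ = 512 := by norm_num
  rw [relIndex_bot_left] at h1
  have h2 := hK.big
  have h3 : Nat.card (T.subgroupOf K₁) = Nat.card T :=
    Nat.card_congr (subgroupOfEquivOfLe (inf_le_right : T ≤ K₁)).toEquiv
  have h4 : 512 < Nat.card (T.subgroupOf K₁) := h2
  omega

end Base

end Cfsg.Agent.OddHalf.Quat

end

-- merged: Cfsg.Agent.OddHalf.Quat.KillZ
section

/-!
# Node Q: the kill for `KZ`

An element of order prime to 6 which commutes with `zz L` centralises `L ≅ Q₈`; and `L` acts faithfully on `K₁`.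
-/

set_option autoImplicit false

namespace Cfsg.Agent.OddHalf.Quat

open Subgroup Cfsg Cfsg.Agent.Cit

variable {G : Type*} [Group G]

theorem orderOf_act_dvd {K : Subgroup G} {x : G} (hx : x ∈ normalizer (K : Set G)) :
    orderOf (K.normalizerMonoidHom ⟨x, hx⟩) ∣ orderOf x := by
  have h1 := orderOf_map_dvd K.normalizerMonoidHom ⟨x, hx⟩
  rwa [Subgroup.orderOf_mk] at h1

/-- an element of order prime to `|Aut K|` normalising `K` centralises `K` -/
theorem comm_of_coprime_aut {K : Subgroup G} {x : G} (hx : x ∈ normalizer (K : Set G))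
    (hc : Nat.Coprime (orderOf x) (Nat.card (MulAut K))) : ∀ k ∈ K, x * k = k * x := by
  intro k hk
  have h1 : orderOf (K.normalizerMonoidHom ⟨x, hx⟩) = 1 :=
    Nat.eq_one_of_dvd_coprimes hc (orderOf_act_dvd hx) (orderOf_dvd_natCard _)
  rw [orderOf_eq_one_iff] at h1
  have h2 : K.normalizerMonoidHom ⟨x, hx⟩ ⟨k, hk⟩ = ⟨k, hk⟩ := by rw [h1]; rfl
  have h3 : x * k * x⁻¹ = k := congrArg Subtype.val h2
  exact mul_inv_eq_iff_eq_mul.1 h3

namespace Base

variable [Finite G] {z : G} {Q K₁ : Subgroup G}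

theorem equiv_quat (b : Base z Q K₁) (h8 : Nat.card Q = 8) : Nonempty (Q ≃* QuaternionGroup 2) := by
  obtain ⟨n, ⟨e⟩⟩ := b.gq
  have h1 := Nat.card_congr e.toEquiv
  have : NeZero (2 ^ (n + 1)) := ⟨by positivity⟩
  rw [h8, Nat.card_eq_fintype_card, QuaternionGroup.card] at h1
  have h2 : 2 ^ (n + 1) = 2 := by omega
  have h3 : n = 0 := by
    have h4 : 2 ^ (n + 1) = 2 ^ 1 := by rw [h2]; norm_num
    have := Nat.pow_right_injective (le_refl 2) h4
    omega
  subst h3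
  exact ⟨e⟩

/-- `L ⊓ Q = 1` for different members -/
theorem inf_eq_one (b : Base z Q K₁) {L : Subgroup G} (hL : L ∈ cls Q) (hne : L ≠ Q) {x : G} (hx : x ∈ L)
    (hxQ : x ∈ Q) : x = 1 := by
  have bL := b.of_mem hL
  refine b.hyp.eq_one_of_mem hL bL.two ?_ hx hxQ
  intro h
  have h1 := b.eq_z h bL.mul_self bL.ne_one
  exact hne (b.qk.one L hL Q (self_mem_cls Q) (by rw [h1, b.zz_eq]))

/-- **`KZ`** -/
theorem kill_z (b : Base z Q K₁) (h8 : Nat.card Q = 8)
    (hn : ∃ L ∈ cls Q, L ≠ Q ∧ ∀ x ∈ Q, ∀ y ∈ L, x * y = y * x) (hK : KZ ↥K₁) : False := by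
  obtain ⟨L, hL, hne, hc⟩ := hn
  have q := b.qk
  have bL := b.of_mem hL
  have hzK : zz L ∈ K₁ := by
    have := q.mem Q (self_mem_cls Q) L hL hne.symm hc
    rwa [b.Kc_self] at this
  have hL8 : Nat.card L = 8 := by
    obtain ⟨g, rfl⟩ := hL
    rw [card_cj, h8]
  obtain ⟨e⟩ := bL.equiv_quat hL8
  have ho : orderOf (⟨zz L, hzK⟩ : K₁) = 2 := by
    rw [Subgroup.orderOf_mk]; exact bL.zo
  obtain ⟨⟨x, hx⟩, hxz, hcop, hno⟩ := hK ⟨zz L, hzK⟩ ho
  have hxz' : x * zz L = zz L * x := congrArg Subtype.val hxz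
  rw [Subgroup.orderOf_mk] at hcop
  have hxL : x ∈ normalizer (L : Set G) := bL.Qn (mem_centralizer_singleton_iff.2 hxz')
  have h24 : Nat.card (MulAut L) = 24 := by
    rw [← PermutationGroups.AutQuaternion.card_mulAut]
    exact Nat.card_congr (MulAut.congr e).toEquiv
  have h1 := comm_of_coprime_aut hxL (by
    rw [h24]
    have h2 : Nat.Coprime (orderOf x) 2 := hcop.coprime_dvd_right (by norm_num)
    have h3 : Nat.Coprime (orderOf x) 3 := hcop.coprime_dvd_right (by norm_num)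
    have h4 : (24 : ℕ) = 2 ^ 3 * 3 := by norm_num
    rw [h4]
    exact Nat.Coprime.mul_right (Nat.Coprime.pow_right 3 h2) h3)
  -- `L` acts on `K₁`
  have hLz : L ≤ centralizer {z} := by
    intro y hy
    rw [mem_centralizer_singleton_iff]
    exact (hc z b.zQ y hy).symm
  have hLK : L ≤ normalizer (K₁ : Set G) := hLz.trans b.Kn
  let f : L →* MulAut K₁ := (K₁.normalizerMonoidHom).comp (inclusion hLK)
  have hf : ∀ (y : L) (k : K₁), ((f y k : K₁) : G) = y * k * (y : G)⁻¹ := fun _ _ => rfl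
  have hinj : Function.Injective f := by
    rw [injective_iff_map_eq_one]
    rintro ⟨y, hy⟩ hfy
    have h2 : y ∈ centralizer (K₁ : Set G) := by
      rw [mem_centralizer_iff]
      intro k hk
      have h3 := hf ⟨y, hy⟩ ⟨k, hk⟩
      rw [hfy] at h3
      have h4 : k = y * k * y⁻¹ := h3
      rw [eq_mul_inv_iff_mul_eq] at h4
      exact h4
    have h3 : y ∈ Q := by rw [← b.cent]; exact ⟨h2, hLz hy⟩
    exact Subtype.ext (b.inf_eq_one hL hne hy h3)
  refine hno f.range ?_ ⟨(MonoidHom.ofInjective hinj).symm.trans e⟩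
  rintro _ ⟨⟨y, hy⟩, rfl⟩
  apply Subtype.ext
  rw [hf]
  change y * x * y⁻¹ = x
  rw [← h1 y hy, mul_inv_cancel_right]

end Base

end Cfsg.Agent.OddHalf.Quat

end

-- merged: Cfsg.Agent.OddHalf.Quat.TauUse
section

/-!
# Node Q: `|Q| = 8` and a 3-element of `C(z)` acts nontrivially on `Q` (THEOREM TAU)
-/

set_option autoImplicit false

namespace Cfsg.Agent.OddHalf.Quat

open Subgroup Cfsg Cfsg.Agent.Cit

variable {G : Type*} [Group G]

namespace Base

variable {z : G} {Q K₁ : Subgroup G}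

theorem base0 (b : Base z Q K₁) : Base0 z Q := ⟨b.zo, b.zQ, b.two, b.gq, b.QC, b.Qn⟩

variable [Finite G]

/-- `|Q| = 8` -/
theorem card_eight [IsSimpleGroup G] (hna : ¬ IsMulCommutative G) (b : Base z Q K₁) : Nat.card Q = 8 :=
  b.base0.card_eight hna

/-- a 3-element of `C(z)` acts nontrivially on `Q` -/
theorem exists_three [IsSimpleGroup G] (hna : ¬ IsMulCommutative G) (b : Base z Q K₁) :
    ∃ c ∈ centralizer {z}, (∃ k : ℕ, c ^ 3 ^ k = 1) ∧ ∃ q ∈ Q, c * q ≠ q * c :=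
  b.base0.exists_three hna

end Base

end Cfsg.Agent.OddHalf.Quat

end

-- merged: Cfsg.Agent.OddHalf.Quat.Good
section

/-!
# Node Q: assembly of the kills

`KGood K` : the K-fact; `Base.false` : no simple group `G` with a frame `Base z Q K₁`, `K₁` good, in which `Q` commutes
with another conjugate of `Q`.
-/

set_option autoImplicit false

namespace Cfsg.Agent.OddHalf.Quat

open Subgroup Cfsg Cfsg.Agent.Cit

/-- what node Q needs to know about the simple group `K` -/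
def KGood (K : Type*) [Group K] : Prop :=
  NoThree K ∨ (∃ U : Sylow 2 K, KBig (U : Subgroup K)) ∨ (∃ U : Sylow 2 K, ∃ V, KTwo (U : Subgroup K) V) ∨ KZ K

variable {G : Type*} [Group G]

namespace Base

variable [Finite G] {z : G} {Q K₁ : Subgroup G}

theorem exists_sylow' (b : Base z Q K₁) (U : Sylow 2 K₁) :
    ∃ S : Sylow 2 G, Q ≤ (S : Subgroup G) ∧ ((S : Subgroup G) ⊓ K₁).subgroupOf K₁ = (U : Subgroup K₁) := by
  have : Fact (Nat.Prime 2) := ⟨Nat.prime_two⟩
  have hU : Syl ((U : Subgroup K₁).map K₁.subtype) K₁ := by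
    refine ⟨map_subtype_le _, U.isPGroup'.map _, ?_⟩
    rw [relIndex, subgroupOf, comap_map_eq_self_of_injective K₁.subtype_injective]
    exact U.not_dvd_index
  obtain ⟨S, -, hQS, hS⟩ := b.exists_sylow hU
  refine ⟨S, hQS, ?_⟩
  rw [hS, subgroupOf, comap_map_eq_self_of_injective K₁.subtype_injective]

/-- **Node Q**, frame form -/
theorem false [IsSimpleGroup G] (hna : ¬ IsMulCommutative G) (b : Base z Q K₁)
    (hn : ∃ L ∈ cls Q, L ≠ Q ∧ ∀ x ∈ Q, ∀ y ∈ L, x * y = y * x) (hK : KGood ↥K₁) : False := by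
  have h8 := b.card_eight hna
  rcases hK with h | ⟨U, h⟩ | ⟨U, V, h⟩ | h
  · exact b.kill_three (b.exists_three hna) h
  · obtain ⟨S, hQS, hS⟩ := b.exists_sylow' U
    rw [← hS] at h
    exact b.kill_big h8 S hQS (b.exists_ne hn S) h
  · obtain ⟨S, hQS, hS⟩ := b.exists_sylow' U
    rw [← hS] at h
    exact b.kill_two h8 S hQS (b.exists_ne hn S) h
  · exact b.kill_z h8 hn h

end Base

end Cfsg.Agent.OddHalf.Quat

end
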