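import Cfsg.Agent.OddHalf.Quat.Big
import Cfsg.Agent.OddHalf.Quat.BigMap
import Cfsg.Agent.OddHalf.SpN.SylU
import Cfsg.Agent.OddHalf.SpN.Cent2
import Cfsg.Agent.OddHalf.SpN.Red
import Cfsg.Agent.OddHalf.Quat.BigLoc
import Cfsg.Agent.LieRecognition.SzMatrix
import Cfsg.Agent.KFacts.TwF4.Perf
import Cfsg.Agent.KFacts.TwF4.TorEx
import Cfsg.Agent.OddHalf.Quat.RowHex
import Cfsg.Agent.HexModel.Main
import Cfsg.Agent.KFacts.TwESix.Tor
import Cfsg.Agent.KFacts.TwESix.Faith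
import Cfsg.Agent.KFacts.TwESix.OutTwo
import Cfsg.Agent.KFacts.RgdLieCharP
import Cfsg.Agent.S1070
import Cfsg.Agent.OddHalf.SL.OfDatum
import Cfsg.Agent.KFacts.RgdKap
import Cfsg.Agent.KFacts.RgdOwn
import Cfsg.Agent.KFacts.RgdTor
import Cfsg.Agent.KFacts.SLRow.Chev
import Cfsg.Agent.KFacts.SLRow.Psl
import Cfsg.Agent.KFacts.SLRow.OmegaPlus
import Cfsg.Agent.KFacts.RgdAutCent
import Cfsg.Agent.KFacts.RgdAutFacts
import Cfsg.Agent.KFacts.F4Perf
import Cfsg.Agent.OddHalf.Quat.KTwoOf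
import Cfsg.Agent.TwoESix.SheetD
import Cfsg.Agent.TwoESix.FlagM
import Cfsg.Agent.OddHalf.Quat.NoThreeL
import Cfsg.Agent.S0815
import Cfsg.Agent.S0817
import Cfsg.Agent.S0818
import Cfsg.Agent.S0814
import Cfsg.Agent.OddHalf.Quat.NoThreeCrit
import Cfsg.Agent.Omega.TwoF.TitsAut
import Cfsg.Agent.OddHalf.Quat.Good
import Cfsg.Agent.OddHalf.Quat.RowPSL
import Cfsg.Agent.OddHalf.Quat.RowPSU
import Cfsg.Agent.OddHalf.Quat.RowSpFour
import Cfsg.Agent.OddHalf.Quat.RowL2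
import Cfsg.Agent.OddHalf.Quat.RowOMinus
import Cfsg.Agent.OddHalf.Quat.KTwoU
import Cfsg.Agent.OddHalf.Quat.KTwoTri
import Cfsg.Agent.OddHalf.Quat.NoThreeE
import Cfsg.Agent.OddHalf.D4.Cut
import Cfsg.Agent.OddHalf.Quat.NoThreeSpor.B
import Cfsg.Agent.OddHalf.Quat.NoThreeSpor.Co1
import Cfsg.Agent.OddHalf.Quat.NoThreeSpor.Co2
import Cfsg.Agent.OddHalf.Quat.NoThreeSpor.Co3
import Cfsg.Agent.OddHalf.Quat.NoThreeSpor.Fi22
import Cfsg.Agent.OddHalf.Quat.NoThreeSpor.Fi23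
import Cfsg.Agent.OddHalf.Quat.NoThreeSpor.Fi24
import Cfsg.Agent.OddHalf.Quat.NoThreeSpor.HN
import Cfsg.Agent.OddHalf.Quat.NoThreeSpor.HS
import Cfsg.Agent.OddHalf.Quat.NoThreeSpor.He
import Cfsg.Agent.OddHalf.Quat.NoThreeSpor.J1
import Cfsg.Agent.OddHalf.Quat.NoThreeSpor.J2
import Cfsg.Agent.OddHalf.Quat.NoThreeSpor.J3
import Cfsg.Agent.OddHalf.Quat.NoThreeSpor.J4
import Cfsg.Agent.OddHalf.Quat.NoThreeSpor.Ly
import Cfsg.Agent.OddHalf.Quat.NoThreeSpor.M
import Cfsg.Agent.OddHalf.Quat.NoThreeSpor.M11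
import Cfsg.Agent.OddHalf.Quat.NoThreeSpor.M12
import Cfsg.Agent.OddHalf.Quat.NoThreeSpor.M22
import Cfsg.Agent.OddHalf.Quat.NoThreeSpor.M23
import Cfsg.Agent.OddHalf.Quat.NoThreeSpor.M24
import Cfsg.Agent.OddHalf.Quat.NoThreeSpor.McL
import Cfsg.Agent.OddHalf.Quat.NoThreeSpor.ON
import Cfsg.Agent.OddHalf.Quat.NoThreeSpor.Ru
import Cfsg.Agent.OddHalf.Quat.NoThreeSpor.Suz
import Cfsg.Agent.OddHalf.Quat.NoThreeSpor.Th

-- merged: Cfsg.Agent.OddHalf.Quat.RowSp
section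

/-!
# Node Q: `KBig` for `PSp_2n(q)`, `n ≥ 3`, `q ≥ 4` even
-/

set_option autoImplicit false
set_option linter.unusedSectionVars false

namespace Cfsg.Agent.OddHalf.Quat.SpRow

open Cfsg Cfsg.Agent.ClassicalGeometry.SympBasic Cfsg.Agent.ClassicalGeometry.SympAutSemi Cfsg.Agent.OddHalf.SpN
  Cfsg.Agent.OddHalf.SpN.Frame
open scoped commutatorElement

variable {n : ℕ} {F : Type*} [Field F]

/-- the indices `1, 2, 3` -/
structure Tri (i j k : Ix n) : Prop where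
  ij : Dj i j
  ik : Dj i k
  jk : Dj j k
  pi : 0 < Fd i
  pj : 0 < Fd j
  pk : 0 < Fd k
  oi : ∀ l, Dj i l → 0 < Fd i + Fd l
  oj : ∀ l, Dj i l → Dj j l → 0 < Fd j + Fd l

theorem dj_inl {a b : Fin n} (h : a ≠ b) : Dj (Sum.inl a : Ix n) (Sum.inl b) :=
  ⟨fun e => h (Sum.inl_injective e), fun e => by cases e⟩

theorem ex_le (l : Ix n) : ex l ≤ n := Nat.sub_le _ _

theorem pos_of_ex {i l : Ix n} (hi : Fd i = 5 ^ ex i) (h : ex l < ex i) : 0 < Fd i + Fd l := by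
  have h1 : (5 : ℤ) ^ ex l < 5 ^ ex i := pow_lt_pow_right₀ (by norm_num) h
  have h2 : (0 : ℤ) < 5 ^ ex l := by positivity
  rcases Fd_cases l with h3 | h3 <;> rw [hi, h3] <;> omega

theorem exists_tri (hn : 3 ≤ n) : ∃ i j k : Ix n, Tri i j k ∧ i = Sum.inl ⟨0, by omega⟩ ∧ j = Sum.inl ⟨1, by omega⟩ := by
  have e : ∀ a : Fin n, ex (Sum.inl a : Ix n) = n - a := fun _ => rfl
  have hF : ∀ a : Fin n, Fd (Sum.inl a : Ix n) = 5 ^ ex (Sum.inl a : Ix n) := fun _ => rfl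
  have hp : ∀ a : Fin n, 0 < Fd (Sum.inl a : Ix n) := fun a => by rw [hF]; positivity
  refine ⟨Sum.inl ⟨0, by omega⟩, Sum.inl ⟨1, by omega⟩, Sum.inl ⟨2, by omega⟩, ⟨dj_inl (by simp), dj_inl (by simp),
    dj_inl (by simp), hp _, hp _, hp _, ?_, ?_⟩, rfl, rfl⟩
  · intro l hl
    have h1 := ex_ne hl
    have h2 := ex_le l
    apply pos_of_ex (hF _)
    rw [e] at h1 ⊢
    simp only at h1 ⊢
    omega
  · intro l hl hl'
    have h1 := ex_ne hl
    have h3 := ex_ne hl'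
    have h2 := ex_le l
    apply pos_of_ex (hF _)
    rw [e] at h1 h3 ⊢
    simp only at h1 h3 ⊢
    omega

section two

variable [CharP F 2] {i j k : Ix n} (T : Tri i j k)
include T

theorem ne_neg_i {p q : Ix n} (hd : Dj p q) (h : 0 < Fd p + Fd q) : p ≠ neg i := by
  rintro rfl
  have h1 := T.oi (neg q) (dj_neg_right.2 (dj_neg_left.1 hd))
  rw [Fd_neg] at h h1
  omega

theorem comm_y {u : Sy n F} (hu : u ∈ Upos n F) (a : F) : Commute (sy i a) u := by
  induction hu using Subgroup.closure_induction with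
  | mem x hx =>
    rcases hx with ⟨p, q, hd, h, c, rfl⟩ | ⟨p, h, c, rfl⟩
    · exact sy_sx_comm (ne_neg_i T hd h) (ne_neg_i T hd.symm (by omega)) _ _
    · refine sy_comm ?_ _ _
      rintro rfl
      have := T.pi
      rw [Fd_neg] at h
      omega
  | one => exact Commute.one_right _
  | mul x y _ _ hx hy => exact hx.mul_right hy
  | inv x _ hx => exact hx.inv_right

theorem comm_x {u : Sy n F} (hu : u ∈ Upos n F) (a : F) : Commute (sx i j a) u := by
  have key : ∀ (p q : Ix n) (c : F), Dj p q → 0 < Fd p + Fd q → p = neg j → Commute (sx i j a) (sx p q c) := by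
    rintro p q c hd h rfl
    have hq : q = i := by
      by_contra hne
      have h1 := ne_neg_i T hd.symm (by omega)
      have h2 : Dj i q := ⟨fun e => hne e.symm, fun e => h1 (by rw [e, neg_neg])⟩
      have h3 := T.oj (neg q) (dj_neg_right.2 h2) (dj_neg_right.2 (dj_neg_left.1 hd))
      rw [Fd_neg] at h h3
      omega
    rw [hq, sx_symm i j]
    exact sx_comm' _ _
  induction hu using Subgroup.closure_induction with
  | mem x hx =>
    rcases hx with ⟨p, q, hd, h, c, rfl⟩ | ⟨p, h, c, rfl⟩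
    · by_cases h1 : p = neg j
      · exact key p q c hd h h1
      by_cases h2 : q = neg j
      · rw [sx_symm p q]
        exact key q p c hd.symm (by omega) h2
      exact sx_comm (ne_neg_i T hd h) h1 (ne_neg_i T hd.symm (by omega)) h2 _ _
    · refine (sy_sx_comm ?_ ?_ _ _).symm
      · intro e
        have := T.pi
        rw [e, Fd_neg] at this
        omega
      · intro e
        have := T.pj
        rw [e, Fd_neg] at this
        omega
  | one => exact Commute.one_right _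
  | mul x y _ _ hx hy => exact hx.mul_right hy
  | inv x _ hx => exact hx.inv_right

theorem ij_pos : 0 < Fd i + Fd j := by
  have := T.pi
  have := T.pj
  omega

/-- the centre -/
theorem mem_iff {A : Sy n F} : A ∈ XZ (Upos n F) ↔ ∃ a b, A = sy i a * sx i j b := by
  constructor
  · rintro ⟨-, -, hc⟩
    have hc' : ∀ u ∈ Upos n F, Commute A u := fun u hu => (hc u hu).symm
    have hy := hc' _ (sy_mem_Upos (n := n) T.pi (1 : F))
    have hx : ∀ l, Dj i l → Commute A (sx i l 1) := fun l hl => hc' _ (sx_mem_Upos hl (T.oi l hl) 1)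
    obtain ⟨a, b, d, e⟩ := FQ_Sy T.ij hy hx (fun l hl hl' =>
      (cx_of_comm hl' (hc' _ (sx_mem_Upos hl' (T.oj l hl hl') 1))).colj i T.ij.1 hl.1)
    have h1 : ent A i j = 0 := (cy_of_comm (hc' _ (sy_mem_Upos (n := n) T.pj (1 : F)))).col i T.ij.1
    have h2 : ent A i j = d := by
      have e1 : neg j ≠ i := fun e => T.ij.2 e.symm
      have e2 : neg i ≠ j := fun e => T.ij.2 (by rw [← e, neg_neg])
      have e3 : i ≠ j := T.ij.1
      have hd' : Dj i (neg j) := dj_neg_right.2 T.ij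
      rw [e, ent, map_mul, map_mul, Equiv.Perm.mul_apply, Equiv.Perm.mul_apply]
      simp only [rho_sx T.ij, rho_sx hd', rho_sy, Pi.add_apply, Pi.smul_apply, smul_eq_mul, be_apply, neg_neg,
        if_true, e1, e2, e3, e3.symm, neg_ne, ne_neg, if_false, e1.symm, e2.symm]
      ring
    rw [h2] at h1
    rw [h1, sx_zero, mul_one] at e
    exact ⟨a, b, e⟩
  · rintro ⟨a, b, rfl⟩
    have h1 : sy i a ∈ Upos n F := sy_mem_Upos T.pi a
    have h2 : sx i j b ∈ Upos n F := sx_mem_Upos T.ij (ij_pos T) b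
    refine ⟨mul_mem h1 h2, ?_, fun u hu => ?_⟩
    · have h3 := (comm_y T h2 a).eq
      calc sy i a * sx i j b * (sy i a * sx i j b) = sy i a * (sx i j b * sy i a) * sx i j b := by group
        _ = sy i a * (sy i a * sx i j b) * sx i j b := by rw [h3]
        _ = (sy i a * sy i a) * (sx i j b * sx i j b) := by group
        _ = 1 := by rw [sy_sq, sx_sq, one_mul]
    · exact ((comm_y T hu a).mul_left (comm_x T hu b)).symm.eq

theorem inj {a b a' b' : F} (h : sy i a * sx i j b = sy i a' * sx i j b') : a = a' ∧ b = b' := by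
  have e1 : neg j ≠ i := fun e => T.ij.2 e.symm
  have e2 : neg i ≠ j := fun e => T.ij.2 (by rw [← e, neg_neg])
  have e3 : i ≠ j := T.ij.1
  have e4 : neg i ≠ neg j := fun e => e3 (neg_inj.1 e)
  have key : ∀ a b : F, rho n F (sy i a * sx i j b) (be n F (neg i)) i = a ∧
      rho n F (sy i a * sx i j b) (be n F (neg i)) j = b := by
    intro a b
    rw [map_mul, Equiv.Perm.mul_apply]
    constructor <;>
    · simp only [rho_sx T.ij, rho_sy, Pi.add_apply, Pi.smul_apply, smul_eq_mul, be_apply, neg_neg,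
        if_true, e1, e2, e3, e3.symm, neg_ne, ne_neg, if_false, e1.symm, e2.symm, e4, e4.symm]
      ring
  have h1 := key a b
  have h2 := key a' b'
  rw [h] at h1
  exact ⟨h1.1.symm.trans h2.1, h1.2.symm.trans h2.2⟩

end two

section comm

variable [CharP F 2]

theorem cm_x {i j k : Ix n} (hij : Dj i j) (hjk : Dj j k) (hik : Dj i k) (a b : F) :
    ⁅sx i j a, sx (neg j) k b⁆ = sx i k (a * b) := by
  rw [commutatorElement_def, mul_inv_eq_iff_eq_mul, mul_inv_eq_iff_eq_mul, mul_assoc]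
  exact sx_rel hij hjk hik a b

theorem cm_y {i j : Ix n} (hij : Dj i j) (a b : F) :
    ⁅sy i a, sx (neg i) j b⁆ = sx i j (a * b) * sy j (a * b ^ 2) := by
  rw [commutatorElement_def, mul_inv_eq_iff_eq_mul, mul_inv_eq_iff_eq_mul, mul_assoc (sx i j (a * b) * sy j (a * b ^ 2))]
  exact sy_rel hij a b

/-- `X ≤ [U,U,U]` -/
theorem three {i j k : Ix n} (T : Tri i j k) {θ : F} (h0 : θ ≠ 0) (h1 : θ ≠ 1) {x : Sy n F} (hx : x ∈ XZ (Upos n F)) :
    x ∈ ⁅⁅Upos n F, Upos n F⁆, Upos n F⁆ := by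
  obtain ⟨a, b, rfl⟩ := (mem_iff T).1 hx
  set U := Upos n F
  have oi := T.oi
  have oj := T.oj
  have pi := T.pi
  have pj := T.pj
  have pk := T.pk
  -- `e₁ - e₃`
  have s1 : ∀ c : F, sx i (neg k) c ∈ ⁅U, U⁆ := by
    intro c
    have hij' : Dj i (neg j) := dj_neg_right.2 T.ij
    have h2 := cm_x hij' (dj_neg_left.2 (dj_neg_right.2 T.jk)) (dj_neg_right.2 T.ik) c (1 : F)
    rw [mul_one, neg_neg] at h2
    rw [← h2]
    exact Subgroup.commutator_mem_commutator (sx_mem_Upos hij' (oi _ hij') c)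
      (sx_mem_Upos (dj_neg_right.2 T.jk) (oj _ (dj_neg_right.2 T.ik) (dj_neg_right.2 T.jk)) 1)
  -- `e₁ + e₂`
  have s2 : ∀ c : F, sx i j c ∈ ⁅⁅U, U⁆, U⁆ := by
    intro c
    have h2 := cm_x (dj_neg_right.2 T.ik) (dj_neg_left.2 T.jk.symm) T.ij c (1 : F)
    rw [mul_one, neg_neg] at h2
    rw [← h2]
    exact Subgroup.commutator_mem_commutator (s1 c) (sx_mem_Upos T.jk.symm (by omega) 1)
  -- `2 e₂`
  have s3 : ∀ c : F, sy j c ∈ ⁅U, U⁆ := by
    intro c
    have hkj : Dj (neg k) j := dj_neg_left.2 T.jk.symm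
    have hp : 0 < Fd (neg k) + Fd j := by
      have := oj (neg k) (dj_neg_right.2 T.ik) (dj_neg_right.2 T.jk)
      omega
    have h2 : ∀ a b : F, sx k j (a * b) * sy j (a * b ^ 2) ∈ ⁅U, U⁆ := by
      intro a b
      rw [← cm_y T.jk.symm a b]
      exact Subgroup.commutator_mem_commutator (sy_mem_Upos pk a) (sx_mem_Upos hkj hp b)
    have h3 : (1 : F) + θ ≠ 0 := by
      intro h
      apply h1
      have := CharTwo.add_self_eq_zero (1 : F)
      linear_combination h - this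
    set s := c * (1 + θ)⁻¹ with hs
    have h4 := mul_mem (inv_mem (h2 s 1)) (h2 (s * θ⁻¹) θ)
    have h5 : s * θ⁻¹ * θ = s := by field_simp
    have h6 : s * θ⁻¹ * θ ^ 2 = s * θ := by field_simp
    rw [h5, h6, mul_one, one_pow, mul_one, mul_inv_rev, inv_eq_of_mul_eq_one_left (sy_sq j s), mul_assoc,
      inv_mul_cancel_left, ← sy_add] at h4
    have h7 : s + s * θ = c := by rw [hs]; field_simp
    rwa [h7] at h4
  -- `2 e₁`
  have s4 : ∀ c : F, sy i c ∈ ⁅⁅U, U⁆, U⁆ := by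
    intro c
    have hji : Dj (neg j) i := dj_neg_left.2 T.ij.symm
    have hp : 0 < Fd (neg j) + Fd i := by
      have := oi (neg j) (dj_neg_right.2 T.ij)
      omega
    have h2 := cm_y T.ij.symm c (1 : F)
    rw [mul_one, one_pow, mul_one] at h2
    have h3 : ⁅sy j c, sx (neg j) i (1 : F)⁆ ∈ ⁅⁅U, U⁆, U⁆ :=
      Subgroup.commutator_mem_commutator (s3 c) (sx_mem_Upos hji hp 1)
    rw [h2] at h3
    have h4 := mul_mem (inv_mem (s2 c)) h3
    rwa [sx_symm i j, inv_mul_cancel_left] at h4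
  exact mul_mem (s4 a) (s2 b)

theorem sh_mem (lam : Fin n → Fˣ) {u : Sy n F} (hu : u ∈ Upos n F) : sh lam * u * (sh lam)⁻¹ ∈ Upos n F := by
  have h1 : Upos n F ≤ (Upos n F).comap (MulAut.conj (sh lam)).toMonoidHom := by
    conv_lhs => rw [Upos]
    rw [Subgroup.closure_le]
    rintro _ (⟨p, q, hd, h, c, rfl⟩ | ⟨p, h, c, rfl⟩)
    · change sh lam * sx p q c * (sh lam)⁻¹ ∈ Upos n F
      rw [sh_sx]
      exact sx_mem_Upos hd h _
    · change sh lam * sy p c * (sh lam)⁻¹ ∈ Upos n F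
      rw [sh_sy]
      exact sy_mem_Upos h _
  exact h1 hu

theorem sh_norm (lam : Fin n → Fˣ) : sh lam ∈ Subgroup.normalizer (Upos n F : Set (Sy n F)) := by
  rw [Subgroup.mem_normalizer_iff]
  intro u
  refine ⟨fun h => sh_mem lam h, fun h => ?_⟩
  have h1 := sh_mem lam⁻¹ h
  rw [map_inv] at h1
  have h2 : (sh lam)⁻¹ * (sh lam * u * (sh lam)⁻¹) * (sh lam)⁻¹⁻¹ = u := by group
  rwa [h2] at h1

theorem mv (hn : 3 ≤ n) {θ : F} (h0 : θ ≠ 0) (h1 : θ ≠ 1) {w : Sy n F} (hw : w ∈ XZ (Upos n F)) (hw1 : w ≠ 1) :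
    ∃ r ∈ Subgroup.normalizer (Upos n F : Set (Sy n F)), r * w ≠ w * r := by
  obtain ⟨i, j, k, T, hi, hj⟩ := exists_tri (n := n) hn
  obtain ⟨a, b, rfl⟩ := (mem_iff T).1 hw
  set lam : Fin n → Fˣ := Function.update 1 ⟨0, by omega⟩ (Units.mk0 θ h0) with hlam
  have e1 : ev lam i = Units.mk0 θ h0 := by
    rw [hi]
    change lam ⟨0, by omega⟩ = _
    rw [hlam, Function.update_self]
  have e2 : ev lam j = 1 := by
    rw [hj]
    change lam ⟨1, by omega⟩ = _
    rw [hlam, Function.update_of_ne (by simp)]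
    rfl
  refine ⟨sh lam, sh_norm lam, fun h => ?_⟩
  have h2 : sh lam * (sy i a * sx i j b) * (sh lam)⁻¹ = sy i a * sx i j b := by rw [h, mul_inv_cancel_right]
  have h3 : sh lam * (sy i a * sx i j b) * (sh lam)⁻¹ =
      (sh lam * sy i a * (sh lam)⁻¹) * (sh lam * sx i j b * (sh lam)⁻¹) := by group
  rw [h3, sh_sy, sh_sx, e1, e2, Units.val_mk0, Units.val_one, mul_one] at h2
  obtain ⟨h4, h5⟩ := inj T h2
  apply hw1
  have hb : b = 0 := by
    by_contra hb
    exact h1 (mul_right_cancel₀ hb (by rw [one_mul]; exact h5))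
  have ha : a = 0 := by
    by_contra ha
    have h6 : θ ^ 2 = 1 := mul_right_cancel₀ ha (by rw [one_mul]; exact h4)
    have h7 : (θ - 1) * (θ - 1) = 0 := by
      have := two0 (F := F)
      linear_combination h6 + (1 - θ) * this
    exact h1 (sub_eq_zero.1 (mul_self_eq_zero.1 h7))
  rw [ha, hb, sy_zero, sx_zero, one_mul]

variable [Finite F]

theorem kbig (hn : 3 ≤ n) {θ : F} (h0 : θ ≠ 0) (h1 : θ ≠ 1) : KBig (Upos n F) := by
  obtain ⟨i, j, k, T, -, -⟩ := exists_tri (n := n) hn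
  exact KBig.of_three isPGroup_Upos (fun x hx => three T h0 h1 hx) (fun w hw hw1 => mv hn h0 h1 hw hw1)

end comm

/-- **the groups `PSp_2n(q)`** -/
theorem row {F : Type*} [Field F] [Fintype F] {n a : ℕ} (hF : Fintype.card F = 2 ^ a) (ha : 2 ≤ a) (hn : 3 ≤ n) :
    ∃ U : Sylow 2 (Cfsg.PSp n F), KBig (U : Subgroup (Cfsg.PSp n F)) := by
  have hp2 : Fact (Nat.Prime 2) := ⟨Nat.prime_two⟩
  have hc2 : CharP F 2 := charP_of_card_eq_prime_pow hF
  obtain ⟨θ, h0, h1⟩ : ∃ θ : F, θ ≠ 0 ∧ θ ≠ 1 := by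
    classical
    by_contra hcon
    push Not at hcon
    have : (Finset.univ : Finset F) ⊆ {0, 1} := by
      intro x _
      by_cases hx : x = 0
      · simp [hx]
      · simp [hcon x hx]
    have h3 := Finset.card_le_card this
    rw [Finset.card_univ, hF] at h3
    have h4 : ({0, 1} : Finset F).card ≤ 2 := Finset.card_le_two
    have h5 : 2 ^ 2 ≤ 2 ^ a := Nat.pow_le_pow_right (by norm_num) ha
    omega
  have e : Cfsg.PSp n F ≃* Sy n F :=
    (QuotientGroup.quotientMulEquivOfEq (center_Sy (by omega))).trans QuotientGroup.quotientBot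
  apply exists_kbig_of_equiv e.symm
  have hodd : ¬ 2 ∣ (Upos n F).index := by
    have := odd_index_Upos (n := n) (F := F)
    rwa [← Nat.not_even_iff_odd, even_iff_two_dvd] at this
  exact ⟨isPGroup_Upos.toSylow hodd, kbig hn h0 h1⟩

end Cfsg.Agent.OddHalf.Quat.SpRow

end

-- merged: Cfsg.Agent.OddHalf.Quat.RowSz
section

/-!
# Node Q: `KBig` for the Suzuki groups
-/

set_option autoImplicit false

namespace Cfsg.Agent.OddHalf.Quat.SzRow

open Cfsg Cfsg.Agent.LieRecognition.SzMatrix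

variable {F : Type*} [Field F] {θ : F →+* F} {e : ℕ}

/-- The subgroup of the elements `u 0 b`. -/
def zen (H : Good F θ e) : Subgroup ↥(Cfsg.Lie.Sz F e) where
  carrier := {g | ∃ b : F, g = H.u 0 b}
  mul_mem' := by
    rintro _ _ ⟨b, rfl⟩ ⟨c, rfl⟩
    exact ⟨b + c, by rw [H.u_mul]; simp⟩
  one_mem' := ⟨0, H.u_zero.symm⟩
  inv_mem' := by
    rintro _ ⟨b, rfl⟩
    exact ⟨b, by rw [H.u_inv]; simp⟩

theorem conj_u (H : Good F θ e) (a b c d : F) (k : Fˣ) :
    H.u a b * H.d k * H.u c d * (H.u a b * H.d k)⁻¹ =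
      H.u (c * k ^ 2 * (θ k)⁻¹) (d * θ k + a * θ (c * k ^ 2 * (θ k)⁻¹) + (c * k ^ 2 * (θ k)⁻¹) * θ a) := by
  rw [mul_inv_eq_iff_eq_mul, mul_assoc, H.d_mul_u, ← mul_assoc, ← mul_assoc, H.u_mul, H.u_mul]
  congr 2
  · ring
  · linear_combination (-(c * (k : F) ^ 2 * (θ k)⁻¹ * θ a)) * H.two

theorem conj_zen (H : Good F θ e) (a b d : F) (k : Fˣ) :
    H.u a b * H.d k * H.u 0 d * (H.u a b * H.d k)⁻¹ = H.u 0 (θ k * d) := by
  rw [conj_u]
  simp only [zero_mul, map_zero, mul_zero, add_zero]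
  rw [mul_comm]

/-- an element which maps an element of `zen#` into `zen` lies in the Borel subgroup -/
theorem mem_borel (H : Good F θ e) {g : ↥(Cfsg.Lie.Sz F e)} {b c : F} (hb : b ≠ 0)
    (h : g * H.u 0 b * g⁻¹ = H.u 0 c) : g ∈ H.borel := by
  by_contra hcon
  obtain ⟨s, hs, hβ⟩ := H.bruhat_sz g hcon
  obtain ⟨a', b', k, hk⟩ := (H.mem_borel_iff' _).1 hβ
  have hg : g = s * H.w * ((s * H.w)⁻¹ * g) := by group
  rw [hk] at hg
  have h1 : H.w * H.u 0 (θ k * b) * H.w⁻¹ = s⁻¹ * H.u 0 c * s := by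
    rw [← conj_zen H a' b', ← h, hg]; group
  have h2 : H.w * H.u 0 (θ k * b) * H.w⁻¹ ∈ H.unip := by
    rw [h1]; exact mul_mem (mul_mem (inv_mem hs) (H.u_mem_unip _ _)) hs
  have h3 := H.inter_trivial _ h2 (by
    have : H.w⁻¹ * (H.w * H.u 0 (θ k * b) * H.w⁻¹) * H.w = H.u 0 (θ k * b) := by group
    rw [this]; exact H.u_mem_borel _ _)
  have h4 : H.u 0 (θ k * b) = 1 := by
    have : H.u 0 (θ k * b) = H.w⁻¹ * (H.w * H.u 0 (θ k * b) * H.w⁻¹) * H.w := by group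
    rw [this, h3]; group
  rw [← H.u_zero] at h4
  rcases mul_eq_zero.mp (H.u_inj h4).2 with h5 | h5
  · exact theta_ne_zero θ k h5
  · exact hb h5

theorem loc [Finite F] (H : Good F θ e) (hF : ∃ c : F, c ≠ 0 ∧ c ≠ 1) : Loc (zen H) H.unip where
  sq := by
    rintro _ ⟨b, rfl⟩
    rw [H.u_mul, ← H.u_zero]
    congr 1
    · simp
    · rw [zero_mul, add_zero, H.add_self]
  two := by
    obtain ⟨c, hc0, hc1⟩ := hF
    refine ⟨H.u 0 1, ⟨1, rfl⟩, H.u 0 c, ⟨c, rfl⟩, ?_, ?_, ?_⟩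
    · rw [← H.u_zero]; exact fun h => one_ne_zero (H.u_inj h).2
    · rw [← H.u_zero]; exact fun h => hc0 (H.u_inj h).2
    · exact fun h => hc1 (H.u_inj h).2.symm
  le := by rintro _ ⟨b, rfl⟩; exact H.u_mem_unip 0 b
  pgr := by
    rintro ⟨g, hg⟩
    obtain ⟨a, b, rfl⟩ := (H.mem_unip_iff g).1 hg
    refine ⟨2, Subtype.ext ?_⟩
    change H.u a b ^ 2 ^ 2 = 1
    have h1 : H.u a b * H.u a b = H.u 0 (a * θ a) := by
      rw [H.u_mul]; congr 1
      · exact H.add_self a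
      · rw [H.add_self, zero_add]
    have h2 : H.u a b ^ 2 ^ 2 = (H.u a b * H.u a b) * (H.u a b * H.u a b) := by
      rw [show (2 : ℕ) ^ 2 = 4 from rfl]; simp only [pow_succ, pow_zero, one_mul, mul_assoc]
    rw [h2, h1, H.u_mul, ← H.u_zero]
    congr 1
    · simp
    · rw [zero_mul, add_zero, H.add_self]
  cent := by
    intro g hg
    have h1 := hg _ (H.u_mem_unip 0 1)
    have hb : g ∈ H.borel := mem_borel H one_ne_zero (c := 1) (by rw [h1]; group)
    obtain ⟨a, b, k, rfl⟩ := (H.mem_borel_iff' _).1 hb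
    have h2 : H.u a b * H.d k * H.u 0 1 * (H.u a b * H.d k)⁻¹ = H.u 0 1 := by rw [h1]; group
    rw [conj_zen, mul_one] at h2
    have hk : k = 1 := Units.ext (θ.injective (by rw [(H.u_inj h2).2, Units.val_one, map_one]))
    subst hk
    have key : ∀ c : F, a * θ c + c * θ a = 0 := by
      intro c
      have h3 := hg _ (H.u_mem_unip c 0)
      have h4 : H.u a b * H.d 1 * H.u c 0 * (H.u a b * H.d 1)⁻¹ = H.u c 0 := by rw [h3]; group
      rw [conj_u] at h4
      have h5 := (H.u_inj h4).2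
      simpa using h5
    have ha : a = 0 := by
      by_contra ha
      have h6 : θ a = a := by
        have := key 1
        rw [map_one, mul_one, one_mul] at this
        calc θ a = (a + θ a) + a := by rw [add_comm a, add_assoc, H.add_self, add_zero]
          _ = a := by rw [this, zero_add]
      have h7 : ∀ c : F, θ c = c := by
        intro c
        have := key c
        rw [h6, mul_comm c a, ← mul_add] at this
        have h8 := (mul_eq_zero.mp this).resolve_left ha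
        calc θ c = (θ c + c) + c := by rw [add_assoc, H.add_self, add_zero]
          _ = c := by rw [h8, zero_add]
      obtain ⟨c, hc0, hc1⟩ := hF
      have h9 := H.sq c
      rw [h7, h7, pow_two] at h9
      apply hc1
      exact (mul_left_cancel₀ hc0 (by rw [mul_one]; exact h9)).symm
    subst ha
    exact ⟨b, by rw [H.d_one, mul_one]⟩
  ti := by
    rintro g _ ⟨b, rfl⟩ hb ⟨c, hc⟩ _ ⟨d, rfl⟩
    have hb0 : b ≠ 0 := by rintro rfl; exact hb H.u_zero
    obtain ⟨a, b', k, rfl⟩ := (H.mem_borel_iff' _).1 (mem_borel H hb0 hc)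
    exact ⟨_, conj_zen H a b' d k⟩
  tr := by
    rintro _ ⟨b, rfl⟩ _ ⟨c, rfl⟩ hb hc
    have hb0 : b ≠ 0 := by rintro rfl; exact hb H.u_zero
    have hc0 : c ≠ 0 := by rintro rfl; exact hc H.u_zero
    obtain ⟨k, hk⟩ := (Finite.surjective_of_injective θ.injective) (c / b)
    have hk0 : k ≠ 0 := by
      rintro rfl
      rw [map_zero] at hk
      exact div_ne_zero hc0 hb0 hk.symm
    refine ⟨H.u 0 0 * H.d (Units.mk0 k hk0), ?_⟩
    rw [conj_zen]
    congr 1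
    rw [Units.val_mk0, hk, div_mul_cancel₀ _ hb0]
  ab := by
    rintro g h hg hh _ ⟨d, rfl⟩
    obtain ⟨c, hc⟩ := hg _ ⟨1, rfl⟩
    obtain ⟨c', hc'⟩ := hh _ ⟨1, rfl⟩
    obtain ⟨a, b, k, rfl⟩ := (H.mem_borel_iff' _).1 (mem_borel H one_ne_zero hc)
    obtain ⟨a', b', k', rfl⟩ := (H.mem_borel_iff' _).1 (mem_borel H one_ne_zero hc')
    rw [conj_zen, conj_zen, conj_zen, conj_zen]
    congr 1
    ring

theorem card_zen [Finite F] (H : Good F θ e) : Nat.card (zen H) = Nat.card F := by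
  refine (Nat.card_eq_of_bijective (fun b : F => (⟨H.u 0 b, b, rfl⟩ : zen H)) ⟨?_, ?_⟩).symm
  · intro b c h; exact (H.u_inj (congrArg Subtype.val h)).2
  · rintro ⟨_, b, rfl⟩; exact ⟨b, rfl⟩

theorem row {m : ℕ} (hm : 1 ≤ m) [Fintype F] (hF : Fintype.card F = 2 ^ (2 * m + 1)) :
    ∃ U : Sylow 2 ↥(Cfsg.Lie.Sz F (2 ^ (m + 1))), KBig (U : Subgroup ↥(Cfsg.Lie.Sz F (2 ^ (m + 1)))) := by
  classical
  set H := good hF
  have h8 : 2 < Fintype.card F := by
    rw [hF]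
    calc 2 < 2 ^ 3 := by norm_num
      _ ≤ 2 ^ (2 * m + 1) := Nat.pow_le_pow_right (by norm_num) (by omega)
  obtain ⟨c, hc⟩ : ∃ c : F, c ∉ ({0, 1} : Finset F) := by
    by_contra hcon
    push Not at hcon
    have h1 : (Finset.univ : Finset F) ⊆ {0, 1} := fun x _ => hcon x
    have h2 := Finset.card_le_card h1
    have h3 : ({0, 1} : Finset F).card ≤ 2 := Finset.card_le_two
    rw [Finset.card_univ] at h2
    omega
  simp only [Finset.mem_insert, Finset.mem_singleton, not_or] at hc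
  have : Finite ↥(Cfsg.Lie.Sz F (2 ^ (m + 1))) := inferInstance
  exact exists_kbig_odd (loc H ⟨c, hc.1, hc.2⟩) ⟨m, rfl⟩
    (by rw [card_zen, Nat.card_eq_fintype_card, hF])

end Cfsg.Agent.OddHalf.Quat.SzRow

end

-- merged: Cfsg.Agent.OddHalf.Quat.RowTwF4
section

/-!
# Node Q: `KBig` for `²F₄(q)`, `q ≥ 8`
-/

set_option autoImplicit false

namespace Cfsg.Agent.OddHalf.Quat.TwF4Row

open Cfsg Cfsg.Lie Cfsg.Agent.KFacts.TwF4 Cfsg.Agent.SplitTwo Cfsg.Agent.SplitTwo.ZS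

universe u

section

variable {F : Type*} [Field F] {σ : F →+* F} {G : Type u} [Group G] (S : Full σ G)

theorem T_z (c d : Fˣ) (u : F) : S.h c d * S.e 2 0 u * (S.h c d)⁻¹ =
    S.e 2 0 ((chE σ 2 c d : F) * σ (chE σ 2 c d : F) * u) := by
  rw [S.h_e, mul_zero]

theorem exists_T [Finite F] (v : Fˣ) : ∃ c : Fˣ, ∀ u, S.h c 1 * S.e 2 0 u * (S.h c 1)⁻¹ = S.e 2 0 (v * u) := by
  obtain ⟨w, hw⟩ := Cfsg.Agent.KFacts.TwF4.TorEx.exists_pw S (e := (1, 1)) (by decide) v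
  refine ⟨w⁻¹, fun u => ?_⟩
  rw [T_z]
  congr 2
  rw [← hw]
  simp [Cfsg.Agent.KFacts.TwF4.TorEx.pw, chE_two]

/-- an element which maps an element of `Z#` into `Z` acts as an element of the torus -/
theorem act [Finite F] {g x : G} (hx : x ∈ S.Zc 2) (hx1 : x ≠ 1) (hg : g * x * g⁻¹ ∈ S.Zc 2) :
    ∃ k : F, ∀ u, g * S.e 2 0 u * g⁻¹ = S.e 2 0 (k * u) := by
  obtain ⟨p, hp, t, ht, rfl⟩ := S.mem_of_conj hx hx1 hg
  obtain ⟨c, d, rfl⟩ := S.mem_T.1 ht
  refine ⟨(chE σ 2 c d : F) * σ (chE σ 2 c d : F), fun u => ?_⟩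
  have e1 : p * S.h c d * S.e 2 0 u * (p * S.h c d)⁻¹ = p * (S.h c d * S.e 2 0 u * (S.h c d)⁻¹) * p⁻¹ := by group
  rw [e1, T_z, S.comm_PL hp ⟨_, rfl⟩, mul_assoc, mul_inv_cancel, mul_one]

theorem loc [Finite F] [Finite G] (hF : ∃ c : Fˣ, c ≠ 1) (hR : S.R.p = 2) : Loc (S.Zc 2) S.Q where
  sq := by
    rintro _ ⟨u, rfl⟩
    rw [S.e_mul, add_zero, zero_mul, add_zero, ← two_mul, S.two, zero_mul, S.e_zero]
  two := by
    obtain ⟨c, hc⟩ := hF
    refine ⟨S.e 2 0 1, ⟨1, rfl⟩, S.e 2 0 c, ⟨c, rfl⟩, ?_, ?_, ?_⟩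
    · exact fun h => one_ne_zero (S.e_eq_one h).2
    · exact fun h => c.ne_zero (S.e_eq_one h).2
    · exact fun h => hc (Units.ext ((S.injE _ _ _ _ _ h).2.symm.trans Units.val_one.symm))
  le := by
    intro x hx
    have h1 := S.Zc_le 2 (by exact_mod_cast hx)
    exact X_le_J (by norm_num) (by norm_num) h1
  pgr := Cfsg.Agent.KFacts.TwF4.Perf.two_Q S hR
  cent := by
    intro g hg
    rw [← S.centralizer_Q, Subgroup.mem_centralizer_iff]
    exact fun x hx => (hg x hx).symm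
  ti := by
    rintro g x hx hx1 hg _ ⟨u, rfl⟩
    obtain ⟨k, hk⟩ := act S hx hx1 hg
    exact ⟨_, (hk u).symm⟩
  tr := by
    rintro _ ⟨u, rfl⟩ _ ⟨v, rfl⟩ hu hv
    have hu0 : u ≠ 0 := by rintro rfl; exact hu (S.e_zero _)
    have hv0 : v ≠ 0 := by rintro rfl; exact hv (S.e_zero _)
    obtain ⟨c, hc⟩ := exists_T S (Units.mk0 (v / u) (div_ne_zero hv0 hu0))
    refine ⟨S.h c 1, ?_⟩
    rw [hc, Units.val_mk0, div_mul_cancel₀ _ hu0]
  ab := by
    rintro g h hg hh _ ⟨d, rfl⟩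
    have h1 : S.e 2 0 1 ≠ 1 := fun h => one_ne_zero (S.e_eq_one h).2
    obtain ⟨k, hk⟩ := act S (g := g) ⟨1, rfl⟩ h1 (hg _ ⟨1, rfl⟩)
    obtain ⟨l, hl⟩ := act S (g := h) ⟨1, rfl⟩ h1 (hh _ ⟨1, rfl⟩)
    rw [hk, hl, hk, hl]
    congr 1
    ring

theorem card_Zc : Nat.card (S.Zc 2) = Nat.card F := by
  refine (Nat.card_eq_of_bijective (fun u : F => (⟨S.e 2 0 u, u, rfl⟩ : S.Zc 2)) ⟨?_, ?_⟩).symm
  · intro b c h; exact (S.injE _ _ _ _ _ (congrArg Subtype.val h)).2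
  · rintro ⟨_, b, rfl⟩; exact ⟨b, rfl⟩

end

theorem row {K : Type u} [Field K] [Fintype K] {m : ℕ} (hm : 1 ≤ m) (hK : Fintype.card K = 2 ^ (2 * m + 1)) :
    ∃ U : Sylow 2 ↥(twistedF4 K (2 ^ m)), KBig (U : Subgroup ↥(twistedF4 K (2 ^ m))) := by
  classical
  obtain ⟨φ, hφ⟩ := Cfsg.Agent.ChevalleyStructure.TwF4.TwistedFix.exists_rln hK
  have := Cfsg.Agent.ChevalleyStructure.TwF4.Twisted.charP_two hK
  have h8 : 2 < Fintype.card K := by
    rw [hK]
    calc 2 < 2 ^ 3 := by norm_num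
      _ ≤ 2 ^ (2 * m + 1) := Nat.pow_le_pow_right (by norm_num) (by omega)
  obtain ⟨c, hc⟩ : ∃ c : K, c ∉ ({0, 1} : Finset K) := by
    by_contra hcon
    push Not at hcon
    have h1 : (Finset.univ : Finset K) ⊆ {0, 1} := fun x _ => hcon x
    have h2 := Finset.card_le_card h1
    have h3 : ({0, 1} : Finset K).card ≤ 2 := Finset.card_le_two
    rw [Finset.card_univ] at h2
    omega
  simp only [Finset.mem_insert, Finset.mem_singleton, not_or] at hc
  set S := Cfsg.Agent.KFacts.TwF4.Inst.full hK hφ with hS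
  have hU : ∃ c : Kˣ, c ≠ 1 := ⟨Units.mk0 c hc.1, fun h => hc.2 (congrArg Units.val h)⟩
  have : Finite ↥(twistedF4 K (2 ^ m)) := inferInstance
  exact exists_kbig_odd (loc S hU rfl) ⟨m, rfl⟩ (by rw [card_Zc, Nat.card_eq_fintype_card, hK])

end Cfsg.Agent.OddHalf.Quat.TwF4Row

end

-- merged: Cfsg.Agent.OddHalf.Quat.RowHexBig
section

/-!
# Node Q: `KBig` for `G₂(q)` and `³D₄(q)`, `q ≥ 4` even
-/

set_option autoImplicit false
set_option maxHeartbeats 400000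

namespace Cfsg.Agent.OddHalf.Quat.RowHex

open Subgroup Cfsg.Lie Cfsg.Agent.StdRank2.Hex Cfsg.Agent.StdRank2.Hex.HexTwo

variable {E : Type*} [Field E] {σ : E ≃+* E} {K : Type*} [Group K] {x : ZMod 12 → E → K}

theorem kBig [Finite E] [Finite K] (h : HexTwo σ x) (htop : AA σ x = ⊤) (h4 : 4 ≤ Nat.card {a : E // σ a = a}) :
    KBig (UU σ x) := by
  have hE : 4 ≤ Nat.card E := h4.trans (Nat.card_le_card_of_injective _ Subtype.val_injective)
  refine KBig.of_trans h.isPGroup_U ?_ ⟨?_, fun y hy z hz hy1 hz1 => trans h hy hz hy1 hz1, ?_⟩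
  · rw [UU, h.card_U]
    calc 64 < 4 ^ 3 * 4 ^ 3 := by norm_num
      _ ≤ _ := Nat.mul_le_mul (Nat.pow_le_pow_left hE 3) (Nat.pow_le_pow_left h4 3)
  · have hc := card_XZ h
    have hfin : Finite (XZ (UU σ x)) := inferInstance
    have h1 : (1 : K) ∈ XZ (UU σ x) := ⟨one_mem _, mul_one 1, fun u _ => by rw [mul_one, one_mul]⟩
    have : Fintype (XZ (UU σ x)) := Fintype.ofFinite _
    rw [Nat.card_eq_fintype_card] at hc
    obtain ⟨y, hy⟩ := Fintype.exists_ne_of_one_lt_card (show 1 < Fintype.card (XZ (UU σ x)) by omega) ⟨1, h1⟩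
    classical
    have h3 : ∃ z : XZ (UU σ x), z ≠ ⟨1, h1⟩ ∧ z ≠ y := by
      by_contra hcon
      push Not at hcon
      have : (Finset.univ : Finset (XZ (UU σ x))) ⊆ {⟨1, h1⟩, y} := by
        intro z _
        rw [Finset.mem_insert, Finset.mem_singleton]
        by_cases hz : z = ⟨1, h1⟩
        · exact Or.inl hz
        · exact Or.inr (hcon z hz)
      have := Finset.card_le_card this
      rw [Finset.card_univ] at this
      have := this.trans Finset.card_le_two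
      omega
    obtain ⟨z, hz1, hz2⟩ := h3
    exact ⟨y.1, y.2, z.1, z.2, fun e => hy (Subtype.ext e), fun e => hz1 (Subtype.ext e), fun e => hz2 (Subtype.ext e.symm)⟩
  · intro r hr s hs y hy
    have := comm_XZ h htop hr hs hy
    rw [mul_inv_rev, mul_inv_rev] at this
    calc r * (s * y * s⁻¹) * r⁻¹ = r * s * y * (s⁻¹ * r⁻¹) := by group
      _ = s * (r * y * r⁻¹) * s⁻¹ := by rw [this]; group

theorem exists_kBig [Finite E] [Finite K] (h : HexTwo σ x) (htop : AA σ x = ⊤)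
    (h4 : 4 ≤ Nat.card {a : E // σ a = a}) : ∃ U : Sylow 2 K, KBig (U : Subgroup K) := by
  have : Fact (Nat.Prime 2) := ⟨Nat.prime_two⟩
  obtain ⟨y, hy, hytop, hP⟩ := exists_sylow h htop default
  exact ⟨default, by rw [hP]; exact kBig hy hytop h4⟩

theorem exists_kBig_equiv [Finite E] [Finite K] (h : HexTwo σ x) (htop : AA σ x = ⊤)
    (h4 : 4 ≤ Nat.card {a : E // σ a = a}) {X : Type*} [Group X] (e : X ≃* K) :
    ∃ U : Sylow 2 X, KBig (U : Subgroup X) := by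
  have : Finite X := Finite.of_equiv _ e.symm.toEquiv
  refine exists_kBig (x := fun k a => e.symm (x k a)) (h.map e.symm.toMonoidHom e.symm.injective fun _ _ _ => rfl) ?_ h4
  unfold AA at htop ⊢
  rw [map_gen (x := x) (y := fun k a => e.symm (x k a)) e.symm.toMonoidHom (fun _ _ _ => rfl), htop,
    ← MonoidHom.range_eq_map]
  exact MonoidHom.range_eq_top.2 e.symm.surjective

/-- **`KBig` for `G₂(q)`, `q ≥ 4` even.** -/
theorem g2 {F : Type*} [Field F] [Fintype F] {a : ℕ} (ha : 2 ≤ a) (hF : Fintype.card F = 2 ^ a) {X : Type*} [Group X]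
    (e : X ≃* ↥(chevG2.group F)) : ∃ U : Sylow 2 X, KBig (U : Subgroup X) := by
  refine exists_kBig_equiv (σ := RingEquiv.refl F) (HexModel.G2.hexTwo (HexModel.Main.two_eq_zero hF))
    HexModel.Main.g2_top ?_ e
  have h1 : Nat.card {c : F // (RingEquiv.refl F) c = c} = Nat.card F :=
    Nat.card_congr (Equiv.subtypeUnivEquiv fun c => rfl)
  rw [h1, Nat.card_eq_fintype_card, hF]
  calc 4 = 2 ^ 2 := by norm_num
    _ ≤ 2 ^ a := Nat.pow_le_pow_right (by norm_num) ha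

/-- **`KBig` for `³D₄(q)`, `q ≥ 4` even.** -/
theorem d4 {F : Type*} [Field F] [Fintype F] {a : ℕ} (ha : 2 ≤ a) (hF : Fintype.card F = 8 ^ a) {X : Type*} [Group X]
    (e : X ≃* ↥(twistedD4 F (2 ^ a))) : ∃ U : Sylow 2 X, KBig (U : Subgroup X) := by
  obtain ⟨σ, hσ, h3, hne, hf⟩ := HexModel.Main.exists_sigma (by omega) hF
  have h2 : (2 : F) = 0 := by
    apply HexModel.Main.two_eq_zero (n := 3 * a)
    rw [hF, pow_mul]
    norm_num
  refine exists_kBig_equiv (HexModel.Main.d4_hexTwo hσ h2 h3) (HexModel.Main.d4_top hσ h2) ?_ e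
  rw [hf]
  calc 4 = 2 ^ 2 := by norm_num
    _ ≤ 2 ^ a := Nat.pow_le_pow_right (by norm_num) ha

end Cfsg.Agent.OddHalf.Quat.RowHex

end

-- merged: Cfsg.Agent.OddHalf.Quat.RowTwE6
section

/-!
# Node Q: `KBig` for `²E₆(q)`, `q ≥ 4` even (helper661)

`kbig` : from the root group datum of type `F₄` (`Facts.Dat`). `ρ = e + f`, `e = e₁ + e₂`, all of them positive long
roots, so `X ρ ≤ [U, U, U]`; `C(Q_ρ) = X ρ`; the torus moves the elements of `X ρ`.
-/

set_option autoImplicit false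
set_option linter.unusedSectionVars false

namespace Cfsg.Agent.OddHalf.Quat.RowTwE6

open CoxeterSystem Cfsg.Agent.ChevalleyStructure.CoxeterGeom Cfsg.Agent.Tits.Roots Cfsg.Agent.Tits.Core
  Cfsg.Agent.Tits.RootComb Cfsg.Agent.Tits.Exchange Cfsg.Agent.Nodes.Reps Cfsg.Agent.Nodes.BNOf
  Cfsg.Agent.Nodes.Coroot Cfsg.Agent.Nodes.Bruhat Cfsg.Agent.Nodes.OppDec
  Cfsg.Agent.KFacts.RgdSL Cfsg.Agent.KFacts.RgdTI Cfsg.Agent.KFacts.RgdCent Cfsg.Agent.KFacts.RgdOdd
  Cfsg.Agent.Nodes.RGDTwE6 Cfsg.Agent.KFacts.TwESix.Comb Cfsg.Agent.KFacts.TwESix.CombRho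
  Cfsg.Agent.KFacts.TwESix.Facts Cfsg.Agent.KFacts.TwESix.QRho
open scoped commutatorElement

section

variable {W Y : Type*} [Group W] [Group Y] {cs : CoxeterSystem CoxeterMatrix.F₄ W} {T : Subgroup Y} {n : Fin 4 → Y}
  {X : (Fin 4 → ℤ) → Subgroup Y}

theorem le_comm (R : RGD cs isCartan 2 T n X) {x y : Fin 4 → ℤ} (hx : x ∈ rts) (hy : y ∈ rts)
    (hl : bf x x = bf y y) (h : 2 * bf x y = - bf x x) {P Q : Subgroup Y} (hP : X x ≤ P) (hQ : X y ≤ Q) :
    X (x + y) ≤ ⁅P, Q⁆ := by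
  have : Finite W := finiteW cs
  have hA := a2 cs ((mem_rts cs).2 hx) ((mem_rts cs).2 hy) hl h
  intro w hw
  obtain ⟨u, hu, hu1⟩ := exists_ne_one R ((mem_rts cs).2 hx)
  obtain ⟨v, hv, rfl⟩ := hA.comm_surj R hu hu1 hw
  exact Subgroup.commutator_mem_commutator (hP hu) (hQ hv)

theorem rad_pos {b : Fin 4 → ℤ} (hb : IsRoot cs isCartan b) (h : 1 ≤ b 0) : b ∈ RGD.Pos cs isCartan := by
  obtain ⟨h1, h2, h3⟩ := Cfsg.Agent.KFacts.TwESix.Faith.pos_of_zero b ((mem_rts cs).1 hb) h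
  refine ⟨hb, fun i => ?_⟩
  fin_cases i
  · exact (show (0 : ℤ) ≤ b 0 by omega)
  · exact h1
  · exact h2
  · exact h3

/-- **`KBig` from the root group datum.** -/
theorem kbig [Finite Y] {R : RGD cs isCartan 2 T n X} (D : Dat R) (hNC : NoCent cs isCartan T X)
    (hGG : GG cs isCartan T X = ⊤) (hmv : ∀ w ∈ X rho, w ≠ 1 → ∃ t ∈ T, t * w * t⁻¹ ≠ w) :
    KBig (RGD.Sup X (RGD.Pos cs isCartan)) := by
  have : Finite W := finiteW cs
  set U : Subgroup Y := RGD.Sup X (RGD.Pos cs isCartan) with hU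
  have hXU : ∀ x ∈ RGD.Pos cs isCartan, X x ≤ U := fun x hx => RGD.le_Sup hx
  have hp : ∀ x : Fin 4 → ℤ, x ∈ rts → (∀ i, 0 ≤ x i) → X x ≤ U := fun x hx h0 =>
    hXU x ⟨(mem_rts cs).2 hx, h0⟩
  have hXρ : X rho ≤ ⁅⁅U, U⁆, U⁆ := by
    have e1 : rho = ![1, 3, 4, 2] + ![1, 0, 0, 0] := by decide +kernel
    have e2 : (![1, 3, 4, 2] : Fin 4 → ℤ) = ![0, 1, 0, 0] + ![1, 2, 4, 2] := by decide +kernel
    rw [e1]
    refine le_comm R (by decide +kernel) (by decide +kernel) (by decide +kernel) (by decide +kernel) ?_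
      (hp _ (by decide +kernel) (by decide +kernel))
    rw [e2]
    exact le_comm R (by decide +kernel) (by decide +kernel) (by decide +kernel) (by decide +kernel)
      (hp _ (by decide +kernel) (by decide +kernel)) (hp _ (by decide +kernel) (by decide +kernel))
  have hQU : QQ cs X ≤ U := QQ_le fun b hb h1 => hXU b (rad_pos hb h1)
  -- the centre
  have hcen : ∀ x ∈ XZ U, x ∈ X rho := by
    rintro x ⟨hx, -, hxc⟩
    exact Cfsg.Agent.KFacts.TwESix.Faith.cent_Q D hNC (by rw [hGG]; exact Subgroup.mem_top x)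
      fun v hv => (hxc v (hQU hv)).symm
  refine KBig.of_three R.isPGroup_Upos (fun x hx => hXρ (hcen x hx)) ?_
  intro w hw hw1
  obtain ⟨t, ht, h1⟩ := hmv w (hcen w hw) hw1
  refine ⟨t, ?_, fun h2 => h1 (by rw [h2, mul_inv_cancel_right])⟩
  apply Subgroup.mem_normalizer_fintype
  intro y hy
  have h2 : U ≤ U.comap (MulAut.conj t).toMonoidHom := by
    refine RGD.Sup_le fun a ha v hv => ?_
    exact hXU a ha (tor_mem R ha.1 ht hv)
  exact h2 hy

end

open Cfsg.Lie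

universe u

/-- **The row `²E₆(q)`, `q ≥ 4` even.** -/
theorem row {F : Type u} [Field F] [Fintype F] {q a : ℕ} (hF : Fintype.card F = q ^ 2) (hqa : q = 2 ^ a)
    (ha : 2 ≤ a) : ∃ U : Sylow 2 ↥(twistedE6 F q), KBig (U : Subgroup ↥(twistedE6 F q)) := by
  have : Fact (Nat.Prime 2) := ⟨Nat.prime_two⟩
  have hq2 : 2 < q := by
    rw [hqa]
    calc 2 < 2 ^ 2 := by norm_num
      _ ≤ 2 ^ a := Nat.pow_le_pow_right (by norm_num) ha
  have hq : IsPrimePow q := by
    rw [hqa]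
    exact Nat.prime_two.isPrimePow.pow (by omega)
  have : CharP F 2 := by
    have h1 : Fintype.card F = 2 ^ (a * 2) := by rw [hF, hqa, pow_mul]
    exact charP_of_card_eq_prime_pow h1
  obtain ⟨φ, hφ, hqq⟩ := Cfsg.Agent.ChevalleyStructure.TwE6Basic.exists_frob hq hF
  let cs := CoxeterMatrix.F₄.toCoxeterSystem
  obtain ⟨h1, h2⟩ := Cfsg.Agent.S1070.result (K := F) hq hF
  have : Finite CoxeterMatrix.F₄.Group := finiteW cs
  have hG1 := Cfsg.Agent.KFacts.TwESix.OutTwo.G1_top cs hφ hqq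
  have hc : Subgroup.center ↥(twistedE6 F q) = ⊥ := by
    refine Cfsg.Agent.KFacts.RgdLieCharP.center_eq_bot ?_
    by_contra hcon
    push Not at hcon
    exact h2 ⟨⟨hcon⟩⟩
  have hNC : NoCent cs isCartan (Cfsg.Agent.Nodes.RGDTwE6.T F q) (Cfsg.Agent.Nodes.RGDTwE6.X φ q) :=
    Cfsg.Agent.KFacts.RgdLieCharP.noCent_of_center hG1 hc
  have hD : Dat (rgd cs hφ hqq 2) := Cfsg.Agent.KFacts.TwESix.Dat.dat cs hφ hqq hF hq.one_lt
  have hK : KBig (RGD.Sup (Cfsg.Agent.Nodes.RGDTwE6.X φ q) (RGD.Pos cs isCartan)) := by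
    refine kbig hD hNC (Cfsg.Agent.KFacts.RgdRigid.GG_eq_top hG1) fun w hw hw1 => ?_
    obtain ⟨t, ht, h⟩ := Cfsg.Agent.KFacts.TwESix.Tor.hne cs hφ hqq hF hq2 (rho_root cs) rho_long
    exact ⟨t, (Subgroup.mem_inf.1 ht).1, h w hw hw1⟩
  have hodd := Cfsg.Agent.KFacts.TwESix.OutTwo.not_dvd_index hφ hqq cs 2
  exact ⟨IsPGroup.toSylow (RGD.isPGroup_Upos (rgd cs hφ hqq 2)) hodd, hK⟩

/-- the row in the form of `Lie2`-type hypotheses: `|F| = 4 ^ a` -/
theorem row_equiv {F : Type u} [Field F] [Fintype F] {a : ℕ} (hF : Fintype.card F = 4 ^ a) (ha : 2 ≤ a)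
    {K : Type*} [Group K] (e : K ≃* ↥(twistedE6 F (2 ^ a))) : ∃ U : Sylow 2 K, KBig (U : Subgroup K) :=
  exists_kbig_of_equiv e.symm (row (by
    rw [hF, ← pow_mul, show (4 : ℕ) = 2 ^ 2 from rfl, ← pow_mul, mul_comm 2 a]) rfl ha)

end Cfsg.Agent.OddHalf.Quat.RowTwE6

end

-- merged: Cfsg.Agent.OddHalf.Quat.RowSL
section

/-!
# Node Q: `KBig` for the simply laced groups of rank at least 3 over fields of order `q ≥ 4` (helper341)

`kbig_of_isSL : IsSL q l K → 4 ≤ q → ∃ U : Sylow 2 K, KBig U`; rows `PSL_n(q)` (`n ≥ 4`), `PΩ⁺_{2n}(q)` (`n ≥ 3`),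
`E_6(q)`, `E_7(q)`, `E_8(q)`.
-/

set_option autoImplicit false
set_option linter.unusedSectionVars false
set_option linter.style.haveILetI false

namespace Cfsg.Agent.OddHalf.Quat.RowSL

open CoxeterSystem Cfsg.Agent.ChevalleyStructure.CoxeterGeom Cfsg.Agent.Tits.Roots Cfsg.Agent.Tits.Core
  Cfsg.Agent.Tits.RootComb Cfsg.Agent.Tits.Exchange Cfsg.Agent.Nodes.Comb Cfsg.Agent.Nodes.Reps
  Cfsg.Agent.Nodes.BNOf Cfsg.Agent.Nodes.NormalForm Cfsg.Agent.Nodes.Coroot Cfsg.Agent.Nodes.NormX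
  Cfsg.Agent.Nodes.StabComb Cfsg.Agent.Nodes.Bruhat Cfsg.Agent.Nodes.OppDec Cfsg.Agent.Nodes.LeviDec
  Cfsg.Agent.OddHalf.SL.Index Cfsg.Agent.OddHalf.SL.OfRGD Cfsg.Agent.KFacts.RgdSL Cfsg.Agent.KFacts.RgdTI
  Cfsg.Agent.KFacts.RgdCent Cfsg.Agent.KFacts.RgdOdd Cfsg.Agent.KFacts.SLRow.Def
open scoped commutatorElement

variable {I W : Type*} [Fintype I] [DecidableEq I] [Group W] {M : CoxeterMatrix I}
  {cs : CoxeterSystem M W} {A : I → I → ℤ} {h : IsCartan M A}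

section Comb

variable [Finite W] {ρ : I → ℤ} (hρ : IsRoot cs h ρ) (hd : ∀ i, 0 ≤ cpr cs h (sr i) ρ)

include hρ hd

/-- positive roots are not at an obtuse angle with the dominant root -/
theorem dom_nonneg {a : I → ℤ} (ha : 0 ≤ a) : 0 ≤ cpr cs h a ρ := by
  have e : a = ∑ i, a i • (sr i : I → ℤ) := by
    funext j
    rw [Finset.sum_apply]
    rw [Finset.sum_eq_single j]
    · rw [Pi.smul_apply, sr_self, smul_eq_mul, mul_one]
    · intro i _ hi
      rw [Pi.smul_apply, sr_ne (Ne.symm hi), smul_zero]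
    · intro hj; exact absurd (Finset.mem_univ j) hj
  have h1 : ell cs h hρ a = ∑ i, a i * ell cs h hρ (sr i) := by
    conv_lhs => rw [e]
    rw [map_sum]
    exact Finset.sum_congr rfl fun i _ => by rw [map_zsmul, smul_eq_mul]
  have h2 : cpr cs h a ρ = ell cs h hρ a := rfl
  rw [h2, h1]
  exact Finset.sum_nonneg fun i _ => mul_nonneg (ha i) (hd i)

theorem rad_pos {a : I → ℤ} (ha : IsRoot cs h a) (ha0 : 0 < cpr cs h a ρ) : a ∈ RGD.Pos cs h := by
  refine ⟨ha, ?_⟩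
  rcases ha.pos_or_neg with h1 | h1
  · exact h1
  exfalso
  have h2 := dom_nonneg hρ hd (a := -a) (neg_nonneg.2 h1)
  rw [cpr_neg_left _ hρ] at h2
  omega

end Comb

variable {Y : Type*} [Group Y] {T : Subgroup Y} {n : I → Y} {X : (I → ℤ) → Subgroup Y} {q : ℕ}

theorem le_comm {p : ℕ} [Finite W] (R : RGD cs h p T n X) {x y : I → ℤ} (hA : A2 cs h x y) {P Q : Subgroup Y} (hx : X x ≤ P)
    (hy : X y ≤ Q) : X (x + y) ≤ ⁅P, Q⁆ := by
  intro w hw
  obtain ⟨⟨u, hu⟩, hu1⟩ := (Subgroup.ne_bot_iff_exists_ne_one).1 (Cfsg.Agent.OddHalf.SL.OfRGD.X_ne_bot R hA.rx)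
  obtain ⟨v, hv, rfl⟩ := hA.comm_surj R hu (fun h0 => hu1 (Subtype.ext h0)) hw
  exact Subgroup.commutator_mem_commutator (hx hu) (hy hv)

/-- **`KBig` from a simply laced root group datum.** -/
theorem kbig [Finite W] [Finite Y] (D : Datum (⊤ : Subgroup Y) q cs h T n X) (hq : 4 ≤ q) :
    KBig (RGD.Sup X (RGD.Pos cs h)) := by
  have hs : SL cs h := Cfsg.Agent.OddHalf.SL.PreOf.sl D.h4 D.h6
  have hL := Cfsg.Agent.OddHalf.SL.OfDatum.lr D
  have hGG := D.GG_eq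
  obtain ⟨i0⟩ : Nonempty I := Fintype.card_pos_iff.1 (by have := D.three; omega)
  obtain ⟨w, hd⟩ := (hL _ (isRoot_sr cs h i0)).exists_dominant
  set ρ : I → ℤ := rep cs h w (sr i0) with hρdef
  have hρ : IsRoot cs h ρ := (isRoot_sr cs h i0).act w
  have hpos := @rad_pos I W _ _ _ M cs A h _ ρ hρ hd
  -- `ρ = a + b`, `a` and `b` positive
  obtain ⟨a0, ha0, hρa0⟩ := Cfsg.Agent.KFacts.RgdKap.nb_of D.h4 D.h6 D.irr D.three hρ
  obtain ⟨c, hc, hcρ, hca⟩ := Cfsg.Agent.KFacts.RgdKap.three_of D.h4 D.h6 D.irr D.three hρ ha0 hρa0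
  have ha0ρ : cpr cs h a0 ρ = 1 := by rw [hs a0 ρ ha0 hρ, hρa0]
  have hρc : cpr cs h ρ c = 1 := by rw [hs ρ c hρ hc, hcρ]
  -- for every root `a` with `⟨a, ρ⟩ = 1` : `ρ = a + (ρ - a)`
  have key : ∀ a, IsRoot cs h a → cpr cs h a ρ = 1 → A2 cs h a (ρ - a) ∧ a ∈ RGD.Pos cs h ∧
      (ρ - a) ∈ RGD.Pos cs h := by
    intro a ha haρ
    have hρa : cpr cs h ρ a = 1 := by rw [hs ρ a hρ ha, haρ]
    have h1 : IsRoot cs h (ρ - a) := isRoot_sub hρ ha hρa
    refine ⟨hs.a2 ha h1 ?_, hpos ha (by omega), hpos h1 ?_⟩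
    · rw [hs a _ ha h1, cpr_sub_left hs hρ ha ha, cpr_self cs h ha, hρa]; norm_num
    · rw [cpr_sub_left hs hρ ha hρ, cpr_self cs h hρ, haρ]; norm_num
  -- a root `e` with `⟨e, ρ⟩ = 1` which is a sum of two positive roots
  obtain ⟨e, he, heρ, e1, e2, hA12, he1, he2, hsum⟩ : ∃ e, IsRoot cs h e ∧ cpr cs h e ρ = 1 ∧
      ∃ e1 e2, A2 cs h e1 e2 ∧ e1 ∈ RGD.Pos cs h ∧ e2 ∈ RGD.Pos cs h ∧ e = e1 + e2 := by
    have hac : cpr cs h a0 c = 1 := by rw [hs a0 c ha0 hc, hca]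
    have hd1 : IsRoot cs h (a0 - c) := isRoot_sub ha0 hc hac
    rcases hd1.pos_or_neg with h1 | h1
    · refine ⟨a0, ha0, ha0ρ, c, a0 - c, hs.a2 hc hd1 ?_, hpos hc (by omega), ⟨hd1, h1⟩, by abel⟩
      rw [hs c _ hc hd1, cpr_sub_left hs ha0 hc hc, cpr_self cs h hc, hac]; norm_num
    · have hd2 : IsRoot cs h (c - a0) := by
        have := hd1.neg
        rwa [neg_sub] at this
      refine ⟨c, hc, hcρ, a0, c - a0, hs.a2 ha0 hd2 ?_, hpos ha0 (by omega), ⟨hd2, ?_⟩, by abel⟩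
      · rw [hs a0 _ ha0 hd2, cpr_sub_left hs hc ha0 ha0, cpr_self cs h ha0, hca]; norm_num
      · rw [← neg_sub]; exact neg_nonneg.2 h1
  obtain ⟨hAe, hepos, hepos'⟩ := key e he heρ
  set U : Subgroup Y := RGD.Sup X (RGD.Pos cs h) with hU
  have hXU : ∀ x ∈ RGD.Pos cs h, X x ≤ U := fun x hx => RGD.le_Sup hx
  have hρe : e + (ρ - e) = ρ := by abel
  have hXρ : X ρ ≤ ⁅⁅U, U⁆, U⁆ := by
    rw [← hρe]
    refine le_comm D.rgd hAe ?_ (hXU _ hepos')
    rw [hsum]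
    exact le_comm D.rgd hA12 (hXU _ he1) (hXU _ he2)
  -- the centre
  have hcen : ∀ x ∈ XZ U, x ∈ X ρ := by
    rintro x ⟨hx, -, hxc⟩
    refine f3_rad hs hρ (Cfsg.Agent.OddHalf.SL.OfDatum.orth' D hρ) D.rgd hL D.cent (by rw [hGG]; trivial) ?_
    intro a ha v hv
    exact (hxc v (hXU a (hpos ha.1 (by have := ha.2; omega)) hv)).symm
  refine KBig.of_three D.rgd.isPGroup_Upos (fun x hx => hXρ (hcen x hx)) ?_
  intro w hw hw1
  have hwρ := hcen w hw
  -- two nontrivial elements of `X e`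
  obtain ⟨u, hu, hu1, u', hu', hu1', huu⟩ : ∃ u ∈ X e, u ≠ 1 ∧ ∃ u' ∈ X e, u' ≠ 1 ∧ u ≠ u' := by
    have h1 : 2 < Nat.card ↥(X e) := by rw [D.card e he]; omega
    have h2 : ∃ x y : ↥(X e), x ≠ 1 ∧ y ≠ 1 ∧ x ≠ y := by
      by_contra hcon
      push Not at hcon
      obtain ⟨x, hx⟩ : ∃ x : ↥(X e), x ≠ 1 := by
        by_contra hcon'
        push Not at hcon'
        have : Subsingleton ↥(X e) := ⟨fun a b => by rw [hcon' a, hcon' b]⟩
        have := Nat.card_of_subsingleton (1 : ↥(X e))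
        omega
      have h3 : ∀ y : ↥(X e), y = 1 ∨ y = x := by
        intro y
        by_contra hy
        push Not at hy
        exact hy.2 (hcon x y hx hy.1).symm
      have h4 : Nat.card ↥(X e) ≤ 2 := by
        have hsurj : Function.Surjective (fun b : Bool => if b then (1 : ↥(X e)) else x) := by
          intro y
          rcases h3 y with rfl | rfl
          · exact ⟨true, rfl⟩
          · exact ⟨false, rfl⟩
        have := Nat.card_le_card_of_surjective _ hsurj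
        simpa using this
      omega
    obtain ⟨x, y, h3, h4, h5⟩ := h2
    exact ⟨x, x.2, fun e => h3 (Subtype.ext e), y, y.2, fun e => h4 (Subtype.ext e), fun e => h5 (Subtype.ext e)⟩
  obtain ⟨t, ht, -, hact⟩ := hAe.own D.rgd hu hu1 hu' hu1'
  rw [← hρe] at hwρ
  obtain ⟨v, hv, hvw⟩ := hAe.comm_surj D.rgd hu' hu1' hwρ
  have hv1 : v ≠ 1 := by
    rintro rfl
    apply hw1
    rw [← hvw]; simp [commutatorElement_def]
  refine ⟨t, ?_, ?_⟩
  · apply Subgroup.mem_normalizer_fintype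
    intro y hy
    have h1 : U ≤ U.comap (MulAut.conj t).toMonoidHom := by
      refine RGD.Sup_le fun a ha v hv => ?_
      exact hXU a ha (Cfsg.Agent.KFacts.RgdTor.tor_mem D.rgd ha.1 ht.1 hv)
    exact h1 hy
  · intro h1
    have h2 := hact v hv
    rw [hvw, h1, mul_inv_cancel_right, ← hvw] at h2
    apply huu
    refine hAe.symm.comm_inj D.rgd hv hv1 hu hu' ?_
    rw [← commutatorElement_inv, ← commutatorElement_inv u', h2]

theorem kbig_of_isSL {l : ℕ} {K : Type*} [Group K] [Finite K] (hK : IsSL q l K) (hq : 4 ≤ q) :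
    ∃ U : Sylow 2 K, KBig (U : Subgroup K) := by
  obtain ⟨M, A, h, T, n, X, hW, D⟩ := hK
  haveI := hW
  haveI : Fact (Nat.Prime 2) := ⟨Nat.prime_two⟩
  have hU : IsPGroup 2 ↥(RGD.Sup X (RGD.Pos M.toCoxeterSystem h)) := D.rgd.isPGroup_Upos
  have hodd : ¬ 2 ∣ (RGD.Sup X (RGD.Pos M.toCoxeterSystem h)).index := by
    rw [← Subgroup.relIndex_top_right]
    have := D.odd
    rw [Nat.odd_iff] at this
    omega
  exact ⟨hU.toSylow hodd, kbig D hq⟩

/-! ### The rows -/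

section Rows

open Cfsg Cfsg.Lie

universe u

variable (F : Type u) [Field F] [Finite F] [CharP F 2]

/-- `PSL_m(q)`, `m ≥ 4`, `q ≥ 4` even -/
theorem psl {m : ℕ} (hm : 4 ≤ m) (hq : 4 ≤ Nat.card F) :
    ∃ U : Sylow 2 (Matrix.ProjectiveSpecialLinearGroup (Fin m) F), KBig U.1 :=
  kbig_of_isSL (Cfsg.Agent.KFacts.SLRow.Psl.isSL_PSL' hm F) hq

/-- `PΩ⁺_{2m}(q)`, `m ≥ 3`, `q ≥ 4` even -/
theorem oplus {m : ℕ} (hm : 3 ≤ m) (hq : 4 ≤ Nat.card F) :
    ∃ U : Sylow 2 (POmega F (quadFormPlus m F)), KBig U.1 :=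
  kbig_of_isSL (Cfsg.Agent.KFacts.SLRow.OmegaPlus.isSL_POmega' hm F) hq

/-- `E₆(q)`, `q ≥ 4` even -/
theorem e6 (hq : 4 ≤ Nat.card F) : ∃ U : Sylow 2 ↥(chevE6.group F), KBig U.1 :=
  kbig_of_isSL (Cfsg.Agent.KFacts.SLRow.Chev.isSL_E6 F) hq

/-- `E₇(q)`, `q ≥ 4` even -/
theorem e7 (hq : 4 ≤ Nat.card F) : ∃ U : Sylow 2 ↥(chevE7.group F), KBig U.1 :=
  kbig_of_isSL (Cfsg.Agent.KFacts.SLRow.Chev.isSL_E7 F) hq

/-- `E₈(q)`, `q ≥ 4` even -/
theorem e8 (hq : 4 ≤ Nat.card F) : ∃ U : Sylow 2 ↥(chevE8.group F), KBig U.1 :=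
  kbig_of_isSL (Cfsg.Agent.KFacts.SLRow.Chev.isSL_E8 F) hq

end Rows

end Cfsg.Agent.OddHalf.Quat.RowSL

end

-- merged: Cfsg.Agent.OddHalf.Quat.OfRgd
section

/-!
# Node Q: `KBig U` over a root group datum of characteristic 2

`U = Sup X Pos`. If no root group has an element `≠ 1` centralised by `T` and the central involutions of `U` lie in
`[U,U,U]`, then `KBig U`.
-/

set_option autoImplicit false
set_option linter.unusedSectionVars false

namespace Cfsg.Agent.OddHalf.Quat.OfRgd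

open CoxeterSystem Cfsg.Agent.ChevalleyStructure.CoxeterGeom Cfsg.Agent.Tits.Roots Cfsg.Agent.Tits.Core
  Cfsg.Agent.Tits.RootComb Cfsg.Agent.Tits.Exchange Cfsg.Agent.Nodes.Reps Cfsg.Agent.Nodes.BNOf
  Cfsg.Agent.Nodes.StabComb Cfsg.Agent.Nodes.Bruhat Cfsg.Agent.Nodes.OppDec Cfsg.Agent.Nodes.LeviDec
  Cfsg.Agent.Nodes.NormX Cfsg.Agent.Nodes.Coroot Cfsg.Agent.KFacts.RgdPar Cfsg.Agent.KFacts.RgdSL
  Cfsg.Agent.KFacts.RgdTI Cfsg.Agent.KFacts.RgdCent Cfsg.Agent.KFacts.RgdOdd Cfsg.Agent.KFacts.RgdEx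
  Cfsg.Agent.KFacts.RgdVJ Cfsg.Agent.KFacts.RgdCharP Cfsg.Agent.KFacts.RgdAutFacts Cfsg.Agent.KFacts.RgdAutCent
open scoped commutatorElement

variable {I W Y : Type*} [Fintype I] [DecidableEq I] [Group W] [Group Y] {M : CoxeterMatrix I}
  {cs : CoxeterSystem M W} {A : I → I → ℤ} {h : IsCartan M A} {T : Subgroup Y} {n : I → Y}
  {X : (I → ℤ) → Subgroup Y}

theorem kbig (R : RGD cs h 2 T n X) [Finite W] [Finite Y] (hG : GG cs h T X = ⊤)
    (hCT : ∀ x, IsRoot cs h x → ∀ z ∈ X x, (∀ t ∈ T, t * z = z * t) → z = 1)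
    (h3 : ∀ x ∈ RGD.Sup X (RGD.Pos cs h), x * x = 1 → (∀ u ∈ RGD.Sup X (RGD.Pos cs h), u * x = x * u) →
      x ∈ ⁅⁅RGD.Sup X (RGD.Pos cs h), RGD.Sup X (RGD.Pos cs h)⁆, RGD.Sup X (RGD.Pos cs h)⁆) :
    ∃ U : Sylow 2 Y, KBig (U : Subgroup Y) := by
  have : Fact (Nat.Prime 2) := ⟨Nat.prime_two⟩
  obtain ⟨S, hS⟩ := exists_sylow R hG
  refine ⟨S, ?_⟩
  rw [hS]
  refine KBig.of_three R.isPGroup_Upos (fun x hx => h3 x hx.1 hx.2.1 hx.2.2) fun w hw hw1 => ?_
  by_contra hcon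
  push Not at hcon
  refine hw1 (cent_U_T R hCT hw.1 fun t ht => ?_)
  exact (hcon t (R.T_le_normalizer_U ht)).symm

end Cfsg.Agent.OddHalf.Quat.OfRgd

end

-- merged: Cfsg.Agent.OddHalf.Quat.RowF4
section

/-!
# Node Q: `KBig U` for `F₄(q)`, `q ≥ 4` even

`Z(U) ≤ X_ρ X_σ`; `ρ = a + b`, `a = c + d` with all of `a, b, c, d` positive and long, `σ` likewise with short roots.
-/

set_option autoImplicit false

namespace Cfsg.Agent.OddHalf.Quat.RowF4

open CoxeterSystem Cfsg.Agent.ChevalleyStructure.CoxeterGeom Cfsg.Agent.Tits.Roots Cfsg.Agent.Tits.Core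
open Cfsg.Lie Cfsg.Agent.ChevalleyStructure Cfsg.Agent.ChevalleyStructure.Elts
  Cfsg.Agent.ChevalleyStructure.RootVec Cfsg.Agent.ChevalleyStructure.CoxeterGeomTypes
open Cfsg.Agent.Nodes Cfsg.Agent.Nodes.Reps Cfsg.Agent.Nodes.BNOf Cfsg.Agent.Nodes.RGDChev Cfsg.Agent.Nodes.Coroot
  Cfsg.Agent.Nodes.KindF Cfsg.Agent.Nodes.Bruhat Cfsg.Agent.KFacts.ChevTwo Cfsg.Agent.KFacts.ChevTwoTab
  Cfsg.Agent.KFacts.ChevTwoInst Cfsg.Agent.KFacts.RgdTI
  Cfsg.Agent.KFacts.F4Star Cfsg.Agent.KFacts.F4Cent Cfsg.Agent.KFacts.F4Pair Cfsg.Agent.KFacts.F4Torus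
  Cfsg.Agent.KFacts.F4Perf
open scoped commutatorElement

universe u

variable {K : Type u} [Field K] [Finite K] [CharP K 2] {W : Type*} [Group W]
  (cs : CoxeterSystem CoxeterMatrix.F₄ W)

/-- `c = a + b`, `a, b` positive, of the same length as `c` -/
def good (c a b : ℕ) : Bool := Nat.ble 24 a && Nat.blt a 48 && Nat.ble 24 b && Nat.blt b 48 &&
  decide (carB chevF4 a b = -1) && decide (carB chevF4 b a = -1) && lin 1 c 1 a 1 b

theorem good_ok : (good 44 34 39 && good 34 27 33 && good 47 26 45 && good 26 24 25) = true := by decide +kernel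

theorem eq_comm_of_good {c a b : ℕ} (h : good c a b = true) :
    v a ∈ RGD.Pos cs isType.isCartan ∧ v b ∈ RGD.Pos cs isType.isCartan ∧ ∀ t : K, eF K (v c) t = ⁅eF K (v a) t, eF K (v b) 1⁆ := by
  have hW : Finite W := finite_W isType cs
  simp only [good, Bool.and_eq_true, Nat.ble_eq, Nat.blt_eq, decide_eq_true_eq] at h
  obtain ⟨⟨⟨⟨⟨⟨h1, h2⟩, h3⟩, h4⟩, h5⟩, h6⟩, h7⟩ := h
  refine ⟨(mem_pos_iff cs h2).2 h1, (mem_pos_iff cs h4).2 h3, fun t => ?_⟩
  have D := (sysF (K := K) cs).data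
  rw [D.comm1 (v a) (v b) (isRoot_v cs h2) (isRoot_v cs h4) (by rw [cpr_v cs h4 h2]; exact h6)
    (by rw [cpr_v cs h2 h4]; exact h5), mul_one, ← lin_one h7]

theorem mem_three {c a b a' b' : ℕ} (h : good c a b = true) (h' : good a a' b' = true) (t : K) :
    eF K (v c) t ∈ ⁅⁅RGD.Sup (XF K) (RGD.Pos cs isType.isCartan), RGD.Sup (XF K) (RGD.Pos cs isType.isCartan)⁆,
      RGD.Sup (XF K) (RGD.Pos cs isType.isCartan)⁆ := by
  obtain ⟨-, h2, h3⟩ := eq_comm_of_good (K := K) cs h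
  obtain ⟨h4, h5, h6⟩ := eq_comm_of_good (K := K) cs h'
  rw [h3 t, h6 t]
  exact Subgroup.commutator_mem_commutator
    (Subgroup.commutator_mem_commutator (e_mem cs h4.1 h4 t) (e_mem cs h5.1 h5 1)) (e_mem cs h2.1 h2 1)

include cs in
theorem tor_cent (hK : 4 ≤ Nat.card K) {x : Fin 4 → ℤ} (hx : IsRoot cs isType.isCartan x) {z : ↥(chevF4.group K)}
    (hz : z ∈ XF K x) (ht : ∀ t ∈ TF K, t * z = z * t) : z = 1 := by
  classical
  have hW : Finite W := finite_W isType cs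
  have := Fintype.ofFinite K
  obtain ⟨u, rfl⟩ := (mem_XF_iff cs hx).1 hz
  have D := (sysF (K := K) cs).data
  obtain ⟨c, hc0, hc1⟩ : ∃ c : K, c ≠ 0 ∧ c ≠ 1 := by
    have h1 : 2 < Fintype.card K := by rw [← Nat.card_eq_fintype_card]; omega
    obtain ⟨c, hc⟩ := Finset.exists_mem_notMem_of_card_lt_card
      (s := ({0, 1} : Finset K)) (t := Finset.univ) (lt_of_le_of_lt Finset.card_le_two (by rwa [Finset.card_univ]))
    simp only [Finset.mem_insert, Finset.mem_singleton, not_or] at hc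
    exact ⟨c, hc.2.1, hc.2.2⟩
  have h1 := ht _ (hel_mem cs hx hc0)
  have h2 : hel (eF K) x c * eF K x u * (hel (eF K) x c)⁻¹ = eF K x u := by rw [h1]; group
  rw [D.hel_conj hx hx hc0, cpr_self cs _ hx] at h2
  have h3 := D.injective hx h2
  have h4 : u = 0 := by
    by_contra h0
    have h5 : c ^ (2 : ℤ) = 1 := mul_right_cancel₀ h0 (by rw [one_mul]; exact h3)
    have h6 : (c - 1) * (c - 1) = 0 := by
      have h7 : c * c = 1 := by rw [← h5, zpow_two]
      have h8 : (2 : K) = 0 := CharTwo.two_eq_zero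
      linear_combination h7 - (c - 1) * h8
    rcases mul_eq_zero.1 h6 with h7 | h7 <;> exact hc1 (sub_eq_zero.1 h7)
  rw [h4]
  have h5 := D.add x hx 0 0
  rw [add_zero] at h5
  exact left_eq_mul.1 h5

theorem exists_kbig (hK : 4 ≤ Nat.card K) : ∃ U : Sylow 2 ↥(chevF4.group K), KBig (U : Subgroup ↥(chevF4.group K)) := by
  obtain cs : CoxeterSystem CoxeterMatrix.F₄ CoxeterMatrix.F₄.Group := CoxeterMatrix.F₄.toCoxeterSystem
  have hW : Finite CoxeterMatrix.F₄.Group := finite_W isType cs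
  have hgood := good_ok
  simp only [Bool.and_eq_true] at hgood
  obtain ⟨⟨⟨g1, g2⟩, g3⟩, g4⟩ := hgood
  have hGG : GG cs isType.isCartan (TF K) (XF K) = ⊤ := by
    rw [eq_top_iff, ← (G1_eq_top isType cs : RGDLib.G1 cs isType.isCartan (XF K) = ⊤)]
    exact RGD.Sup_le fun x hx => X_le_GG (X := XF K) hx
  refine OfRgd.kbig (rgd (K := K) isType cs 2) hGG (fun x hx z hz => tor_cent cs hK hx hz) ?_
  intro x hx _ hxc
  have h1 : x ∈ RGD.Sup (XF K) {v 47, v 44} := by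
    refine cent_pos cs fun c hc => ?_
    have D := (sysF (K := K) cs).data
    have hm : eF K c 1 ∈ XF K c := (mem_XF_iff cs hc.1).2 ⟨1, rfl⟩
    exact ⟨eF K c 1, hm, fun h => one_ne_zero (D.inj c hc.1 1 h), (hxc _ (RGD.le_Sup hc hm)).symm⟩
  have h2 : RGD.Sup (XF K) {v 47, v 44} ≤ ⁅⁅RGD.Sup (XF K) (RGD.Pos cs isType.isCartan),
      RGD.Sup (XF K) (RGD.Pos cs isType.isCartan)⁆, RGD.Sup (XF K) (RGD.Pos cs isType.isCartan)⁆ := by
    refine RGD.Sup_le fun c hc z hz => ?_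
    rcases hc with rfl | hc
    · obtain ⟨t, rfl⟩ := (mem_XF_iff cs (isRoot_v cs (by norm_num))).1 hz
      exact mem_three cs g3 g4 t
    · rw [Set.mem_singleton_iff] at hc
      subst hc
      obtain ⟨t, rfl⟩ := (mem_XF_iff cs (isRoot_v cs (by norm_num))).1 hz
      exact mem_three cs g1 g2 t
  exact h2 h1

/-- `KBig` for `F₄(2^a)`, `a ≥ 2`, in the form of `D9.Cut` -/
theorem main {F : Type u} {L : Type*} [Field F] [Fintype F] [Group L] {r : ℕ} (hr : 2 ≤ r)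
    (hF : Fintype.card F = 2 ^ r) (e : L ≃* ↥(chevF4.group F)) : ∃ U : Sylow 2 L, KBig (U : Subgroup L) := by
  have : Fact (Nat.Prime 2) := ⟨Nat.prime_two⟩
  have : CharP F 2 := charP_of_card_eq_prime_pow (f := r) hF
  refine exists_kbig_of_equiv e.symm (exists_kbig (K := F) ?_)
  rw [Nat.card_eq_fintype_card, hF]
  exact Nat.pow_le_pow_right (n := 2) (by norm_num) hr

end Cfsg.Agent.OddHalf.Quat.RowF4

end

-- merged: Cfsg.Agent.OddHalf.Quat.KTwoE6
section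

/-!
# `KTwo` for `²E₆(2)`
-/

set_option autoImplicit false
set_option linter.unusedSectionVars false
set_option linter.unusedVariables false

namespace Cfsg.Agent.OddHalf.Quat.KTwoE6

open Cfsg Cfsg.Lie
open Cfsg.Agent.ChevalleyStructure
open Cfsg.Agent.ChevalleyStructure.Elts hiding x_add x_zero x_eq_one_iff
open Cfsg.Agent.ChevalleyStructure.TwE6Basic
open Cfsg.Agent.ChevalleyStructure.TwE6BN
open Cfsg.Agent.TwoESix
open Cfsg.Agent.TwoESix.LeviA
open Cfsg.Agent.TwoESix.LeviB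
open Cfsg.Agent.TwoESix.LeviC
open Cfsg.Agent.TwoESix.LeviD
open Cfsg.Agent.TwoESix.LongPairs
open Cfsg.Agent.TwoESix.LongCard
open Cfsg.Agent.TwoESix.FlagH
open Cfsg.Agent.TwoESix.FlagI
open Cfsg.Agent.TwoESix.KeyExtra
open Cfsg.Agent.TwoESix.SheetA
open Cfsg.Agent.TwoESix.SheetD

universe u

variable {K : Type u} [Field K] [Fintype K] {φ : K →+* K} (F : Four K φ)
include F

theorem we_zero' : we F [0] * c0 F * (we F [0])⁻¹ = r0 F := by
  have := F.charP
  have h2 := wn_conj (K := K) [0] 70 1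
  have hw : wpm [0] 70 = 71 := by decide +kernel
  rw [hw] at h2
  exact Subtype.ext h2

theorem kTwo : ∃ V : Subgroup ↥(twistedE6 K 2), KTwo (SE K) V := by
  have := F.charP
  have := finite_E (K := K)
  refine kTwo_of_large (large F) (irr F) (S_two F) (R_le F) (S_cent F) (FlagM.S_cen F) (c_R F) ?_ (c0_ne F) ?_
    (c0_uni F) (c0_fix F) (we_zero F) (we_zero' F) ?_ ?_
  · exact root_sq F (xe_T F 70 (by decide +kernel))
  · intro h
    exact x_ne (K := K) (r := 70) (s := 71) (by norm_num) (by norm_num) (by norm_num) (congrArg Subtype.val h)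
  · intro h4
    have h6 := h4.trans (index_out F)
    norm_num at h6
  · rw [card_SE F]; norm_num

omit F [Fintype K] in
/-- **`KTwo` for `²E₆(2)`.** -/
theorem main [Fintype K] (hK : Fintype.card K = 4) {X : Type*} [Group X] (e : X ≃* ↥(twistedE6 K 2)) :
    ∃ (S : Sylow 2 X) (V : Subgroup X), KTwo (S : Subgroup X) V := by
  obtain ⟨_, φ', F⟩ := exists_four K hK
  have := finite_E (K := K)
  have hp : Fact (Nat.Prime 2) := ⟨Nat.prime_two⟩
  obtain ⟨V, hV⟩ := kTwo F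
  have h1 : IsPGroup 2 ((SE K).map e.symm.toMonoidHom) := (S_two F).map _
  have h2 : ¬ 2 ∣ ((SE K).map e.symm.toMonoidHom).index := by
    have h3 := Subgroup.index_map_equiv (SE K) e.symm
    have h4 : ((SE K).map e.symm.toMonoidHom).index = (SE K).index := h3
    rw [h4]
    exact S_odd F
  exact ⟨h1.toSylow h2, V.map e.symm.toMonoidHom, hV.map_equiv e.symm⟩

end Cfsg.Agent.OddHalf.Quat.KTwoE6

end

-- merged: Cfsg.Agent.OddHalf.Quat.NoThreeU
section

/-!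
# Node Q: `NoThree` for `Uₙ(2)` (`3 ∤ n`), `Ω⁺₂ₘ(2)` (`m ≥ 5`), `Ω⁻₂ₘ(2)` (`m ≥ 4`)
-/

set_option autoImplicit false

namespace Cfsg.Agent.OddHalf.Quat.NoThreeU

open Subgroup NoThreeL

variable {K : Type*} [Group K]

/-- **`Uₙ(2)`, `3 ∤ n`** -/
theorem unitary {F : Type*} [Field F] [Fintype F] (hF : Fintype.card F = 4) {n : ℕ} (hn : 3 ≤ n) (h3 : ¬ 3 ∣ n)
    (hcen : center K = ⊥) (e : K ≃* Cfsg.PSU n F 2) : NoThree K := by
  have : Finite K := Finite.of_equiv _ e.symm.toEquiv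
  have : Fact (Nat.Prime 2) := ⟨Nat.prime_two⟩
  have h1 := Cfsg.Agent.S0815.result (F := F) 2 1 le_rfl (q := 2) (by norm_num) (by rw [hF]; norm_num) n hn
    (by rintro ⟨rfl, -⟩; exact h3 dvd_rfl)
  rw [← card_mulAut_congr e, ← Nat.card_congr e.toEquiv] at h1
  have h4 : Nat.gcd n (2 + 1) = 1 := by
    rw [Nat.gcd_comm]
    exact (Nat.Prime.coprime_iff_not_dvd Nat.prime_three).2 h3
  rw [h4] at h1
  exact noThree_of_card hcen (m := 1 * (2 * 1)) (by norm_num) h1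

/-- **`Ω⁺₂ₘ(2)`, `m ≥ 5`** -/
theorem plus {F : Type*} [Field F] [Fintype F] (hF : Fintype.card F = 2) {m : ℕ} (hm : 5 ≤ m)
    (hcen : center K = ⊥) (e : K ≃* Cfsg.POmega F (Cfsg.quadFormPlus m F)) : NoThree K := by
  have : Finite K := Finite.of_equiv _ e.symm.toEquiv
  have : Fact (Nat.Prime 2) := ⟨Nat.prime_two⟩
  have h1 := Cfsg.Agent.S0817.result (F := F) 2 1 le_rfl (by rw [hF, pow_one]) m (by omega)
  rw [if_neg (by omega), if_pos rfl, ← card_mulAut_congr e, ← Nat.card_congr e.toEquiv] at h1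
  exact noThree_of_card hcen (m := 1 * 2 * 1) (by norm_num) h1

/-- **`Ω⁻₂ₘ(2)`, `m ≥ 4`** -/
theorem minus {F : Type*} [Field F] [Fintype F] (hF : Fintype.card F = 2) {m : ℕ} (hm : 4 ≤ m) (a b : F)
    (hab : ∀ z₁ z₂ : F, z₁ ^ 2 + a * z₁ * z₂ + b * z₂ ^ 2 = 0 → z₁ = 0 ∧ z₂ = 0)
    (hcen : center K = ⊥) (e : K ≃* Cfsg.POmega F (Cfsg.quadFormMinus (m - 1) F a b)) : NoThree K := by
  have : Finite K := Finite.of_equiv _ e.symm.toEquiv
  have : Fact (Nat.Prime 2) := ⟨Nat.prime_two⟩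
  have h1 := Cfsg.Agent.S0818.result (F := F) 2 1 le_rfl (by rw [hF, pow_one]) m hm a b hab
  rw [if_pos rfl, ← card_mulAut_congr e, ← Nat.card_congr e.toEquiv] at h1
  exact noThree_of_card hcen (m := 2 * 1) (by norm_num) h1

end Cfsg.Agent.OddHalf.Quat.NoThreeU

end

-- merged: Cfsg.Agent.OddHalf.Quat.NoThreeSp
section

/-!
# Node Q: `NoThree` for `PSp₂ₘ(p^f)` with `3 ∤ f`, in particular `Sp₂ₘ(2)`, `m ≥ 3`
-/

set_option autoImplicit false

namespace Cfsg.Agent.OddHalf.Quat.NoThreeSp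

open Subgroup NoThreeL

variable {K : Type*} [Group K]

/-- **`PSp₂ₘ(p^f)`, `3 ∤ f`** -/
theorem symplectic {F : Type*} [Field F] [Fintype F] (p f : ℕ) [Fact p.Prime] (hf : 1 ≤ f)
    (hF : Fintype.card F = p ^ f) {m : ℕ} (hm : 2 ≤ m) (h22 : m = 2 → 3 ≤ p ^ f) (h3 : ¬ 3 ∣ f)
    (hcen : center K = ⊥) (e : K ≃* Cfsg.PSp m F) : NoThree K := by
  have : Finite (Matrix (Fin m ⊕ Fin m) (Fin m ⊕ Fin m) F) := inferInstance
  have : Finite (Matrix.symplecticGroup (Fin m) F) := Subtype.finite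
  have : Finite (Cfsg.PSp m F) := Quotient.finite _
  have : Finite K := Finite.of_equiv _ e.symm.toEquiv
  have h1 := Cfsg.Agent.S0814.result (F := F) p f hf hF m hm h22
  rw [← card_mulAut_congr e, ← Nat.card_congr e.toEquiv] at h1
  refine noThree_of_card hcen ?_ h1
  intro hd
  rcases (Nat.Prime.dvd_mul Nat.prime_three).mp hd with hd | hd
  · rcases (Nat.Prime.dvd_mul Nat.prime_three).mp hd with hd | hd
    · split_ifs at hd <;> exact absurd hd (by norm_num)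
    · have h4 : Nat.gcd 2 (p ^ f - 1) ≤ 2 := Nat.le_of_dvd (by norm_num) (Nat.gcd_dvd_left _ _)
      have h5 := Nat.le_of_dvd (Nat.gcd_pos_of_pos_left _ (by norm_num)) hd
      omega
  · exact h3 hd

/-- **`Sp₂ₘ(2)`, `m ≥ 3`** -/
theorem sp {F : Type*} [Field F] [Fintype F] (hF : Fintype.card F = 2) {m : ℕ} (hm : 3 ≤ m)
    (hcen : center K = ⊥) (e : K ≃* Cfsg.PSp m F) : NoThree K := by
  have : Fact (Nat.Prime 2) := ⟨Nat.prime_two⟩
  exact symplectic 2 1 le_rfl (by rw [hF, pow_one]) (by omega) (fun h => by omega) (by norm_num) hcen e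

end Cfsg.Agent.OddHalf.Quat.NoThreeSp

end

-- merged: Cfsg.Agent.OddHalf.Quat.NoThreeT.Abs
section

/-!
# Node Q: `NoThree` for the Tits group, abstract part

`K` simple, `S` a Sylow 2-subgroup, `R i` subgroups which contain `S` and generate `K`, invariant under the
automorphisms which fix `S`; `S` acts on `R i / S` with two orbits, on the second one as a cyclic group of order
`q i = 2` or `4`. An automorphism of 3-power order which fixes `S` fixes all cosets `r S`, `r ∈ R i`; each of them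
contains a fixed element, therefore `[R i, γ] = [S, γ]` is normal in `K`, and `γ = 1`.
-/

set_option autoImplicit false

namespace Cfsg.Agent.OddHalf.Quat.NoThreeT

open Subgroup

variable {K : Type*} [Group K]

/-- an invariant coset of a group of order prime to 3 contains a fixed element -/
theorem exists_fix [Finite K] {S : Subgroup K} (h3 : ¬ 3 ∣ Nat.card S) {γ : MulAut K} {k : ℕ} (hk : γ ^ 3 ^ k = 1)
    (hS : ∀ s ∈ S, γ s ∈ S) {r : K} (hr : r⁻¹ * γ r ∈ S) : ∃ s ∈ S, γ (r * s) = r * s := by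
  classical
  have : Fintype S := Fintype.ofFinite S
  have : Fact (Nat.Prime 3) := ⟨Nat.prime_three⟩
  let f : S → S := fun s => ⟨r⁻¹ * γ r * γ s, S.mul_mem hr (hS _ s.2)⟩
  have hf : Function.Injective f := by
    intro a b hab
    have h1 : r⁻¹ * γ r * γ a = r⁻¹ * γ r * γ b := congrArg Subtype.val hab
    exact Subtype.ext (γ.injective (mul_left_cancel h1))
  let σ : Equiv.Perm S := Equiv.ofBijective f (Finite.injective_iff_bijective.1 hf)
  have hσ : ∀ n : ℕ, ∀ s : S, (((σ ^ n) s : S) : K) = r⁻¹ * (γ ^ n) (r * s) := by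
    intro n
    induction n with
    | zero => intro s; simp
    | succ n ih =>
      intro s
      rw [pow_succ', Equiv.Perm.mul_apply]
      show r⁻¹ * γ r * γ (((σ ^ n) s : S) : K) = _
      rw [ih, pow_succ', MulAut.mul_apply, map_mul γ r⁻¹, map_inv]
      group
  have hσk : σ ^ 3 ^ k = 1 := by
    ext s
    rw [hσ, hk]
    simp
  obtain ⟨s, hs⟩ := Equiv.Perm.exists_fixed_point_of_prime (p := 3) (by rwa [← Nat.card_eq_fintype_card]) hσk
  refine ⟨s, s.2, ?_⟩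
  have h1 : r⁻¹ * γ r * γ s = s := congrArg Subtype.val hs
  rw [map_mul]
  calc γ r * γ s = r * (r⁻¹ * γ r * γ s) := by group
    _ = _ := by rw [h1]

theorem mem_of_map [Finite K] {S : Subgroup K} {γ : MulAut K} (hS : ∀ s ∈ S, γ s ∈ S) {x : K} (h : γ x ∈ S) : x ∈ S := by
  have h1 : S.map γ.toMonoidHom = S := by
    apply Subgroup.eq_of_le_of_card_ge
    · rintro _ ⟨u, hu, rfl⟩
      exact hS u hu
    · exact (Nat.card_congr (S.equivMapOfInjective γ.toMonoidHom γ.injective).toEquiv).le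
  rw [← h1] at h
  obtain ⟨y, hy, hyx⟩ := h
  rw [← γ.injective hyx]
  exact hy

/-- the elements of `S` all whose conjugates under `R` are in `S` -/
def cor (S R : Subgroup K) : Subgroup K where
  carrier := {x | ∀ r ∈ R, r * x * r⁻¹ ∈ S}
  mul_mem' := by
    intro a b ha hb r hr
    have h : r * (a * b) * r⁻¹ = (r * a * r⁻¹) * (r * b * r⁻¹) := by group
    rw [h]
    exact S.mul_mem (ha r hr) (hb r hr)
  one_mem' := by
    intro r _
    rw [mul_one, mul_inv_cancel]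
    exact S.one_mem
  inv_mem' := by
    intro a ha r hr
    have h : r * a⁻¹ * r⁻¹ = (r * a * r⁻¹)⁻¹ := by group
    rw [h]
    exact S.inv_mem (ha r hr)

theorem mem_cor {S R : Subgroup K} {x : K} : x ∈ cor S R ↔ ∀ r ∈ R, r * x * r⁻¹ ∈ S := Iff.rfl

theorem cor_le {S R : Subgroup K} : cor S R ≤ S := by
  intro x hx
  have := hx 1 R.one_mem
  rwa [one_mul, inv_one, mul_one] at this

theorem cor_conj {S R : Subgroup K} {x r : K} (hx : x ∈ cor S R) (hr : r ∈ R) : r * x * r⁻¹ ∈ cor S R := by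
  intro t ht
  have h : t * (r * x * r⁻¹) * t⁻¹ = (t * r) * x * (t * r)⁻¹ := by group
  rw [h]
  exact hx _ (R.mul_mem ht hr)

theorem cor_conj' {S R : Subgroup K} {x r : K} (hx : x ∈ cor S R) (hr : r ∈ R) : r⁻¹ * x * r ∈ cor S R := by
  have := cor_conj hx (R.inv_mem hr)
  rwa [inv_inv] at this

theorem cor_map [Finite K] {S R : Subgroup K} {γ : MulAut K} (hS : ∀ s ∈ S, γ s ∈ S) (hR : ∀ r ∈ R, γ r ∈ R) {x : K}
    (hx : x ∈ cor S R) : γ x ∈ cor S R := by
  intro r hr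
  obtain ⟨t, rfl⟩ := γ.surjective r
  have ht := mem_of_map hR hr
  have h := hS _ (hx t ht)
  rwa [map_mul, map_mul, map_inv] at h

theorem rel_mul {S R : Subgroup K} {a b c d : K} (hc : c ∈ R) (h1 : a⁻¹ * b ∈ cor S R)
    (h2 : c⁻¹ * d ∈ cor S R) : (a * c)⁻¹ * (b * d) ∈ cor S R := by
  have h : (a * c)⁻¹ * (b * d) = (c⁻¹ * (a⁻¹ * b) * c) * (c⁻¹ * d) := by group
  rw [h]
  exact mul_mem (cor_conj' h1 hc) h2

theorem rel_pow {S R : Subgroup K} {a b : K} (ha : a ∈ R) (h : a⁻¹ * b ∈ cor S R) (j : ℕ) :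
    (a ^ j)⁻¹ * b ^ j ∈ cor S R := by
  induction j with
  | zero => simp [one_mem]
  | succ j ih =>
    rw [pow_succ, pow_succ]
    exact rel_mul ha ih h

theorem arith {q i k : ℕ} (hq : q = 2 ∨ q = 4) (h : i ^ 3 ^ k ≡ 1 [MOD q]) : i ≡ 1 [MOD q] := by
  obtain ⟨t, ht⟩ : Odd (3 ^ k) := Odd.pow (by decide)
  rw [ht, pow_succ, pow_mul] at h
  have h2 : i ^ 2 % 4 = if i % 2 = 0 then 0 else 1 := by
    have h4 : i % 4 < 4 := Nat.mod_lt _ (by norm_num)
    rw [pow_two, Nat.mul_mod]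
    have h5 : i % 2 = i % 4 % 2 := (Nat.mod_mod_of_dvd i (by norm_num)).symm
    rw [h5]
    interval_cases i % 4 <;> rfl
  have hodd : i % 2 = 1 := by
    by_contra hcon
    have h0 : i % 2 = 0 := by omega
    have h6 : ((i ^ 2) ^ t * i) % 2 = 0 := by rw [Nat.mul_mod, h0, mul_zero, Nat.zero_mod]
    have h7 : ((i ^ 2) ^ t * i) % 2 = 1 % 2 := by
      rcases hq with rfl | rfl
      · exact h
      · exact Nat.ModEq.of_dvd (by norm_num : 2 ∣ 4) h
    omega
  rw [if_neg (by omega)] at h2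
  have h8 : (i ^ 2) ^ t ≡ 1 ^ t [MOD 4] := Nat.ModEq.pow t h2
  rw [one_pow] at h8
  have h9 : (i ^ 2) ^ t * i ≡ 1 * i [MOD 4] := Nat.ModEq.mul_right i h8
  rw [one_mul] at h9
  have h10 : (i ^ 2) ^ t * i ≡ i [MOD q] := by
    rcases hq with rfl | rfl
    · exact Nat.ModEq.of_dvd (by norm_num : 2 ∣ 4) h9
    · exact h9
  exact h10.symm.trans h

/-- **an automorphism of 3-power order fixes the cosets of `S` in `R`** -/
theorem coset_inv [Finite K] {S R : Subgroup K} (hSR : S ≤ R) {q : ℕ} (hq : q = 2 ∨ q = 4) {c n : K} (hc : c ∈ S)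
    (hn : n ∈ R) (h1 : ∀ s ∈ S, ∃ i : ℕ, (c ^ i)⁻¹ * s ∈ cor S R)
    (h2 : ∀ r ∈ R, r ∈ S ∨ ∃ i : ℕ, ∃ s ∈ S, r = c ^ i * n * s)
    (h3 : ∀ i : ℕ, n⁻¹ * c ^ i * n ∈ S → q ∣ i) (h4 : c ^ q ∈ cor S R)
    {γ : MulAut K} {k : ℕ} (hk : γ ^ 3 ^ k = 1) (hS : ∀ s ∈ S, γ s ∈ S) (hR : ∀ r ∈ R, γ r ∈ R) :
    ∀ r ∈ R, r⁻¹ * γ r ∈ S := by
  have hq1 : ¬ q ∣ 1 := by rcases hq with rfl | rfl <;> norm_num
  have hcR : c ∈ R := hSR hc
  have h3' : ∀ i : ℕ, c ^ i ∈ cor S R → q ∣ i := fun i hi => h3 i (cor_le (cor_conj' hi hn))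
  have h4' : ∀ i : ℕ, q ∣ i → c ^ i ∈ cor S R := by
    rintro _ ⟨j, rfl⟩
    rw [pow_mul]
    exact pow_mem h4 j
  -- the action on `c`
  obtain ⟨i, hi⟩ := h1 _ (hS c hc)
  have hb : ∀ m : ℕ, (c ^ i ^ m)⁻¹ * (γ ^ m) c ∈ cor S R := by
    intro m
    induction m with
    | zero => simp [one_mem]
    | succ m ih =>
      have e1 := cor_map hS hR ih
      rw [map_mul, map_inv, map_pow] at e1
      have e2 := rel_pow (pow_mem hcR i) hi (i ^ m)
      rw [← pow_mul, ← pow_succ'] at e2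
      have e3 : (c ^ i ^ (m + 1))⁻¹ * (γ ^ (m + 1)) c =
          ((c ^ i ^ (m + 1))⁻¹ * γ c ^ i ^ m) * ((γ c ^ i ^ m)⁻¹ * γ ((γ ^ m) c)) := by
        rw [pow_succ' γ, MulAut.mul_apply]; group
      rw [e3]
      exact mul_mem e2 e1
  have hi1 : i ≡ 1 [MOD q] := by
    apply arith hq (k := k)
    have e1 := hb (3 ^ k)
    rw [hk, MulAut.one_apply] at e1
    have e2 := inv_mem e1
    rw [mul_inv_rev, inv_inv] at e2
    rcases Nat.eq_zero_or_pos (i ^ 3 ^ k) with h0 | h0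
    · exfalso
      rw [h0, pow_zero, mul_one] at e2
      apply hq1
      apply h3'
      rw [pow_one]
      have := inv_mem e2
      rwa [inv_inv] at this
    · obtain ⟨a, ha⟩ : ∃ a, i ^ 3 ^ k = a + 1 := ⟨i ^ 3 ^ k - 1, by omega⟩
      rw [ha, pow_succ', inv_mul_cancel_left] at e2
      rw [ha]
      have h5 := (Nat.modEq_zero_iff_dvd).2 (h3' a e2)
      exact Nat.ModEq.add_right 1 h5
  have hcc : c⁻¹ * γ c ∈ cor S R := by
    have e1 : c⁻¹ * γ c = (c⁻¹ * c ^ i) * ((c ^ i)⁻¹ * γ c) := by group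
    rw [e1]
    refine mul_mem ?_ hi
    rcases Nat.eq_zero_or_pos i with h0 | h0
    · exfalso
      rw [h0] at hi1
      exact hq1 ((Nat.modEq_zero_iff_dvd).1 hi1.symm)
    · obtain ⟨a, rfl⟩ : ∃ a, i = a + 1 := ⟨i - 1, by omega⟩
      rw [pow_succ', inv_mul_cancel_left]
      apply h4'
      apply (Nat.modEq_zero_iff_dvd).1
      exact Nat.ModEq.add_right_cancel' 1 (by rw [zero_add]; exact hi1)
  have hcj : ∀ j : ℕ, (c ^ j)⁻¹ * (γ c) ^ j ∈ cor S R := rel_pow hcR hcc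
  -- the action on `n`
  have hnS : n ∉ S := by
    intro h
    apply hq1
    apply h3
    rw [pow_one]
    exact S.mul_mem (S.mul_mem (S.inv_mem h) hc) h
  obtain ⟨m, s0, hs0, hm⟩ : ∃ m : ℕ, ∃ s ∈ S, γ n = c ^ m * n * s := by
    rcases h2 _ (hR n hn) with h | h
    · exact absurd (mem_of_map hS h) hnS
    · exact h
  have he : ∀ t : ℕ, ∃ s ∈ S, (γ ^ t) n = c ^ (t * m) * n * s := by
    intro t
    induction t with
    | zero => exact ⟨1, S.one_mem, by simp⟩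
    | succ t ih =>
      obtain ⟨s, hs, e⟩ := ih
      obtain ⟨o, ho⟩ : ∃ o, o = (c ^ (t * m))⁻¹ * (γ c) ^ (t * m) := ⟨_, rfl⟩
      have ho' : o ∈ cor S R := ho ▸ hcj (t * m)
      refine ⟨(n⁻¹ * ((c ^ m)⁻¹ * o * c ^ m) * n) * s0 * γ s,
        S.mul_mem (S.mul_mem (cor_le (cor_conj' (cor_conj' ho' (pow_mem hcR m)) hn)) hs0) (hS s hs), ?_⟩
      have e1 : γ c ^ (t * m) = c ^ (t * m) * o := by rw [ho]; group
      rw [pow_succ', MulAut.mul_apply, e, map_mul, map_mul, map_pow, e1, hm, add_mul, one_mul, pow_add]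
      group
  have hqm : q ∣ m := by
    obtain ⟨s, hs, e⟩ := he (3 ^ k)
    rw [hk, MulAut.one_apply] at e
    have e1 : n⁻¹ * c ^ (3 ^ k * m) * n = s⁻¹ := by
      rw [eq_inv_iff_mul_eq_one]
      calc n⁻¹ * c ^ (3 ^ k * m) * n * s = n⁻¹ * (c ^ (3 ^ k * m) * n * s) := by group
        _ = 1 := by rw [← e, inv_mul_cancel]
    have e2 := h3 _ (by rw [e1]; exact S.inv_mem hs)
    refine Nat.Coprime.dvd_of_dvd_mul_left ?_ e2
    rcases hq with rfl | rfl
    · exact Nat.Coprime.pow_right k (by norm_num)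
    · exact Nat.Coprime.pow_right k (by norm_num)
  intro r hr
  rcases h2 r hr with h | ⟨j, s, hs, rfl⟩
  · exact S.mul_mem (S.inv_mem h) (hS r h)
  · have e : (c ^ j * n * s)⁻¹ * γ (c ^ j * n * s) =
        s⁻¹ * (n⁻¹ * (((c ^ j)⁻¹ * (γ c) ^ j) * c ^ m) * n) * s0 * γ s := by
      rw [map_mul, map_mul, map_pow, hm]; group
    rw [e]
    exact S.mul_mem (S.mul_mem (S.mul_mem (S.inv_mem hs) (cor_le (cor_conj' (mul_mem (hcj j) (h4' m hqm)) hn))) hs0)
      (hS s hs)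

/-- **the automorphism is trivial** -/
theorem eq_one [Finite K] [IsSimpleGroup K] {S : Subgroup K} (hne : S ≠ ⊤) (h3 : ¬ 3 ∣ Nat.card S) {I : Type*}
    {R : I → Subgroup K} (hSR : ∀ i, S ≤ R i) (hgen : ⨆ i, R i = ⊤) {γ : MulAut K} {k : ℕ} (hk : γ ^ 3 ^ k = 1)
    (hS : ∀ s ∈ S, γ s ∈ S) (hR : ∀ i, ∀ r ∈ R i, r⁻¹ * γ r ∈ S) : γ = 1 := by
  set D : Subgroup K := closure {x | ∃ s ∈ S, x = s⁻¹ * γ s} with hD
  have h1 : ∀ i, ∀ r ∈ R i, r⁻¹ * γ r ∈ D := by
    intro i r hr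
    obtain ⟨s, hs, e⟩ := exists_fix h3 hk hS (hR i r hr)
    rw [map_mul] at e
    refine subset_closure ⟨s⁻¹, S.inv_mem hs, ?_⟩
    rw [map_inv, inv_inv, eq_mul_inv_iff_mul_eq]
    calc r⁻¹ * γ r * γ s = r⁻¹ * (γ r * γ s) := by group
      _ = s := by rw [e]; group
  have h2 : ∀ i, ∀ r ∈ R i, ∀ x ∈ D, r⁻¹ * x * r ∈ D := by
    intro i r hr x hx
    rw [hD] at hx
    induction hx using closure_induction with
    | mem x hx =>
      obtain ⟨s, hs, rfl⟩ := hx
      have e : r⁻¹ * (s⁻¹ * γ s) * r = ((s * r)⁻¹ * γ (s * r)) * (r⁻¹ * γ r)⁻¹ := by rw [map_mul]; group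
      rw [e]
      exact mul_mem (h1 i _ ((R i).mul_mem (hSR i hs) hr)) (inv_mem (h1 i r hr))
    | one => simp [one_mem]
    | mul a b _ _ ha hb =>
      have e : r⁻¹ * (a * b) * r = (r⁻¹ * a * r) * (r⁻¹ * b * r) := by group
      rw [e]
      exact mul_mem ha hb
    | inv a _ ha =>
      have e : r⁻¹ * a⁻¹ * r = (r⁻¹ * a * r)⁻¹ := by group
      rw [e]
      exact inv_mem ha
  have hN : normalizer (D : Set K) = ⊤ := by
    rw [eq_top_iff, ← hgen, iSup_le_iff]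
    intro i r hr
    rw [mem_normalizer_iff]
    intro x
    constructor
    · intro hx
      have := h2 i r⁻¹ ((R i).inv_mem hr) x hx
      rwa [inv_inv] at this
    · intro hx
      have := h2 i r hr _ hx
      have e : r⁻¹ * (r * x * r⁻¹) * r = x := by group
      rw [← e]
      exact this
  have hDn : D.Normal := normalizer_eq_top_iff.1 hN
  have hDS : D ≤ S := by
    rw [hD, closure_le]
    rintro _ ⟨s, hs, rfl⟩
    exact S.mul_mem (S.inv_mem hs) (hS s hs)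
  have hD1 : D = ⊥ := by
    rcases hDn.eq_bot_or_eq_top with h | h
    · exact h
    · exact absurd (top_le_iff.1 (h ▸ hDS)) hne
  have hfix : (⊤ : Subgroup K) ≤ (γ : K ≃* K).toMonoidHom.eqLocus (MonoidHom.id K) := by
    rw [← hgen, iSup_le_iff]
    intro i r hr
    have h4 := h1 i r hr
    rw [hD1, mem_bot, inv_mul_eq_one] at h4
    exact h4.symm
  ext x
  exact hfix (mem_top x)

/-- **The criterion** -/
theorem noThree [Finite K] [IsSimpleGroup K] (S : Sylow 2 K) (hne : (S : Subgroup K) ≠ ⊤) {I : Type*}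
    (R : I → Subgroup K) (hSR : ∀ i, (S : Subgroup K) ≤ R i) (hgen : ⨆ i, R i = ⊤)
    (hinv : ∀ γ : MulAut K, (∀ s ∈ (S : Subgroup K), γ s ∈ (S : Subgroup K)) → ∀ i, ∀ r ∈ R i, γ r ∈ R i)
    (q : I → ℕ) (hq : ∀ i, q i = 2 ∨ q i = 4) (c n : I → K) (hc : ∀ i, c i ∈ (S : Subgroup K)) (hn : ∀ i, n i ∈ R i)
    (h1 : ∀ i, ∀ s ∈ (S : Subgroup K), ∃ j : ℕ, (c i ^ j)⁻¹ * s ∈ cor (S : Subgroup K) (R i))
    (h2 : ∀ i, ∀ r ∈ R i, r ∈ (S : Subgroup K) ∨ ∃ j : ℕ, ∃ s ∈ (S : Subgroup K), r = c i ^ j * n i * s)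
    (h3 : ∀ i, ∀ j : ℕ, (n i)⁻¹ * c i ^ j * n i ∈ (S : Subgroup K) → q i ∣ j)
    (h4 : ∀ i, c i ^ q i ∈ cor (S : Subgroup K) (R i)) : NoThree K := by
  have : Fact (Nat.Prime 2) := ⟨Nat.prime_two⟩
  have hS3 : ¬ 3 ∣ Nat.card (S : Subgroup K) := by
    obtain ⟨m, hm⟩ := IsPGroup.iff_card.1 S.isPGroup'
    rw [hm]
    intro h
    have := Nat.prime_three.dvd_of_dvd_pow h
    norm_num at this
  have key : ∀ γ : MulAut K, (∀ s ∈ (S : Subgroup K), γ s ∈ (S : Subgroup K)) → (∃ k : ℕ, γ ^ 3 ^ k = 1) → γ = 1 := by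
    rintro γ hS ⟨k, hk⟩
    exact eq_one hne hS3 hSR hgen hk hS fun i =>
      coset_inv (hSR i) (hq i) (hc i) (hn i) (h1 i) (h2 i) (h3 i) (h4 i) hk hS (hinv γ hS i)
  intro α hα
  obtain ⟨g, hg⟩ := MulAction.exists_smul_eq K (α • S) S
  have hgS : ∀ s ∈ (S : Subgroup K), (MulAut.conj g * α) s ∈ (S : Subgroup K) := by
    intro s hs
    have e := congrArg (fun P : Sylow 2 K => (P : Subgroup K)) hg
    have e2 : (MulAut.conj g * α) s ∈ ((g • (α • S) : Sylow 2 K) : Subgroup K) :=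
      ⟨_, ⟨s, hs, rfl⟩, rfl⟩
    rw [← e]
    exact e2
  have hαβ : α = MulAut.conj g⁻¹ * (MulAut.conj g * α) := by rw [map_inv, inv_mul_cancel_left]
  rw [hαβ]
  apply NoThreeCrit.mem_of_mul
  refine NoThreeCrit.mem_of_three_part (NoThreeCrit.cube_mem ⟨g⁻¹, hαβ⟩ hα) fun m hm => ?_
  have hmS : ∀ m : ℕ, ∀ s ∈ (S : Subgroup K), ((MulAut.conj g * α) ^ m) s ∈ (S : Subgroup K) := by
    intro m
    induction m with
    | zero => intro s hs; simpa using hs
    | succ m ih =>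
      intro s hs
      rw [pow_succ, MulAut.mul_apply]
      exact ih _ (hgS s hs)
  rw [key _ (hmS m) hm]
  exact one_mem _

end Cfsg.Agent.OddHalf.Quat.NoThreeT

end

-- merged: Cfsg.Agent.OddHalf.Quat.NoThreeT.Main
section

/-!
# Node Q: `NoThree` for the Tits group

`T = [Γ, Γ]` has index 2 in `Γ = ²F₄(2)`, `U` the Sylow 2-subgroup of `Γ`, `P s` the minimal parabolic subgroups;
`S = U ∩ T`, `R s = P s ∩ T` are as in `NoThreeT.Abs`.
-/

set_option autoImplicit false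
set_option linter.unusedSectionVars false

namespace Cfsg.Agent.OddHalf.Quat.NoThreeT

open Subgroup Cfsg.Agent.ChevalleyStructure.Tits.Data Cfsg.Agent.ChevalleyStructure.Tits.Rank2
  Cfsg.Agent.ChevalleyStructure.Tits.Sat Cfsg.Agent.ChevalleyStructure.Tits.Final Cfsg.Agent.Omega.TwoF.TitsAut

section letters

variable {Γ : Type*} [Group Γ] {y : ℕ → Γ} (hy : Sat y)

/-- the simple root elements -/
def ys (y : ℕ → Γ) (s : Bool) : Γ := y (if s then 7 else 0)
/-- a correction in `K s` -/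
def zs (y : ℕ → Γ) (s : Bool) : Γ := if s then y 3 else 1
/-- generators of `S` modulo `K s` -/
def cs (y : ℕ → Γ) (s : Bool) : Γ := ys y s * zs y s
/-- the order of the root groups -/
def qs (s : Bool) : ℕ := if s then 4 else 2
/-- the involutions in the root groups -/
def xs (y : ℕ → Γ) (s : Bool) : Γ := if s then y 7 * y 7 else y 0

include hy

theorem ys_pow (s : Bool) : ys y s ^ qs s = 1 := by
  cases s
  · exact pow_od hy (i := 0) (by norm_num)
  · exact pow_od hy (i := 7) (by norm_num)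

theorem ys_mem (s : Bool) : ys y s ∈ (rd hy).X s := mem_zpowers _

theorem zs_mem (s : Bool) : zs y s ∈ (rd hy).K s := by
  cases s
  · exact one_mem _
  · exact mem_V' y (by norm_num)

theorem cs_mem (s : Bool) : cs y s ∈ (rd hy).U := mul_mem ((rd hy).XU s (ys_mem hy s)) ((rd hy).KU s (zs_mem hy s))

theorem xs_mem (s : Bool) : xs y s ∈ (rd hy).X s := by
  cases s
  · exact mem_zpowers _
  · exact mul_mem (mem_zpowers _) (mem_zpowers _)

theorem exists_pow {s : Bool} {x : Γ} (hx : x ∈ (rd hy).X s) : ∃ j : ℕ, x = ys y s ^ j := by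
  obtain ⟨k, -, hk⟩ := mem_zpowers_cases (m := qs s) (by cases s <;> decide) (ys_pow hy s) hx
  exact ⟨k, hk⟩

theorem conj_K (s : Bool) {u k : Γ} (hu : u ∈ (rd hy).U) (hk : k ∈ (rd hy).K s) : u * k * u⁻¹ ∈ (rd hy).K s := by
  obtain ⟨x, hx, k', hk', rfl⟩ := (rd hy).fac s u hu
  have h1 : k' * k * k'⁻¹ ∈ (rd hy).K s := mul_mem (mul_mem hk' hk) (inv_mem hk')
  have e : (x * k') * k * (x * k')⁻¹ = x * (k' * k * k'⁻¹) * x⁻¹ := by group
  rw [e]
  cases s
  · exact V_norm hy (by norm_num) x hx _ h1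
  · exact V'_norm hy x hx _ h1

theorem conj_K' (s : Bool) {u k : Γ} (hu : u ∈ (rd hy).U) (hk : k ∈ (rd hy).K s) : u⁻¹ * k * u ∈ (rd hy).K s := by
  have := conj_K hy s (inv_mem hu) hk
  rwa [inv_inv] at this

theorem conj_K_P (s : Bool) {r k : Γ} (hr : r ∈ Pp (rd hy) s) (hk : k ∈ (rd hy).K s) : r * k * r⁻¹ ∈ (rd hy).K s := by
  rcases P_cases (rd hy) hr with h | ⟨x, hx, v, hv, rfl⟩
  · exact conj_K hy s h hk
  · have e : x * (rd hy).n s * v * k * (x * (rd hy).n s * v)⁻¹ =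
        x * ((rd hy).n s * (v * k * v⁻¹) * ((rd hy).n s)⁻¹) * x⁻¹ := by group
    rw [e, (rd hy).ninv]
    exact conj_K hy s ((rd hy).XU s hx) ((rd hy).nK s _ (conj_K hy s hv hk))

/-- `c ^ j` and `x ^ j` are congruent modulo `K s` -/
theorem cj (s : Bool) (j : ℕ) : (ys y s ^ j)⁻¹ * cs y s ^ j ∈ (rd hy).K s := by
  induction j with
  | zero => simp [one_mem]
  | succ j ih =>
    have e : (ys y s ^ (j + 1))⁻¹ * cs y s ^ (j + 1) =
        ((ys y s ^ j)⁻¹ * zs y s * ys y s ^ j) * ((ys y s ^ j)⁻¹ * cs y s ^ j) := by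
      have h : (ys y s)⁻¹ * cs y s = zs y s := inv_mul_cancel_left _ _
      calc (ys y s ^ (j + 1))⁻¹ * cs y s ^ (j + 1) = (ys y s ^ j)⁻¹ * ((ys y s)⁻¹ * cs y s) * cs y s ^ j := by
            rw [pow_succ' (ys y s), pow_succ' (cs y s), mul_inv_rev]
            simp only [mul_assoc]
        _ = _ := by rw [h]; simp only [mul_assoc, mul_inv_cancel_left]
    rw [e]
    exact mul_mem (conj_K' hy s ((rd hy).XU s (pow_mem (ys_mem hy s) j)) (zs_mem hy s)) ih

theorem cj' (s : Bool) (j : ℕ) : (cs y s ^ j)⁻¹ * ys y s ^ j ∈ (rd hy).K s := by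
  have := inv_mem (cj hy s j)
  rwa [mul_inv_rev, inv_inv] at this

theorem c_pow (s : Bool) : cs y s ^ qs s ∈ (rd hy).K s := by
  have := cj hy s (qs s)
  rwa [ys_pow hy, inv_one, one_mul] at this

theorem U_cases (s : Bool) {u : Γ} (hu : u ∈ (rd hy).U) : ∃ j : ℕ, (cs y s ^ j)⁻¹ * u ∈ (rd hy).K s := by
  obtain ⟨x, hx, k, hk, rfl⟩ := (rd hy).fac s u hu
  obtain ⟨j, rfl⟩ := exists_pow hy hx
  refine ⟨j, ?_⟩
  rw [← mul_assoc]
  exact mul_mem (cj' hy s j) hk

theorem P_cases' {s : Bool} {r : Γ} (hr : r ∈ Pp (rd hy) s) :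
    r ∈ (rd hy).U ∨ ∃ j : ℕ, ∃ v ∈ (rd hy).U, r = cs y s ^ j * (rd hy).n s * v := by
  rcases P_cases (rd hy) hr with h | ⟨x, hx, v, hv, rfl⟩
  · exact Or.inl h
  · right
    obtain ⟨j, rfl⟩ := exists_pow hy hx
    refine ⟨j, ((rd hy).n s * ((cs y s ^ j)⁻¹ * ys y s ^ j) * (rd hy).n s) * v,
      mul_mem ((rd hy).KU s ((rd hy).nK s _ (cj' hy s j))) hv, ?_⟩
    calc ys y s ^ j * (rd hy).n s * v = cs y s ^ j * (1 * ((cs y s ^ j)⁻¹ * ys y s ^ j) * (rd hy).n s) * v := by group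
      _ = cs y s ^ j * (((rd hy).n s * (rd hy).n s) * ((cs y s ^ j)⁻¹ * ys y s ^ j) * (rd hy).n s) * v := by
        rw [(rd hy).nn]
      _ = _ := by group

end letters

/-! ### the sign -/

section sign

variable {Γ : Type*} [Group Γ] [Finite Γ] {y : ℕ → Γ} (hy : Sat y)
  (hgen : closure (y '' {i | i < 10}) = ⊤) (hcard : Nat.card Γ = 35942400)

include hy

theorem mem_T {g : Γ} (h : Abelianization.of (G := Γ) g = 1) : g ∈ commutator Γ := by
  rw [← Abelianization.ker_of]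
  exact h

theorem y0_mem : y 0 ∈ commutator Γ := mem_T hy (comm_image hy Abelianization.of).1

theorem n_mem (s : Bool) : (rd hy).n s ∈ commutator Γ := by
  cases s
  · exact mem_T hy (comm_image hy Abelianization.of).2.1
  · exact mem_T hy (comm_image hy Abelianization.of).2.2.1

theorem w_mem (s : Bool) (k : ℕ) : w (rd hy).n s k ∈ commutator Γ := by
  induction k generalizing s with
  | zero => rw [w_zero]; exact one_mem _
  | succ k ih => rw [w_succ]; exact mul_mem (n_mem hy s) (ih _)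

include hgen hcard

theorem index_T : (commutator Γ).index = 2 := index_commutator hy hgen hcard

theorem y7_not_mem : y 7 ∉ commutator Γ := by
  obtain ⟨χ, hχ⟩ := exists_sign hy hgen hcard
  intro h
  have h3 := Abelianization.commutator_subset_ker χ h
  rw [MonoidHom.mem_ker, hχ] at h3
  exact absurd h3 (by decide)

theorem y3_not_mem : y 3 ∉ commutator Γ := by
  intro h
  apply y7_not_mem hy hgen hcard
  have e1 := n1_conj hy (j := 7) (by norm_num) (by norm_num)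
  have e2 := n2_conj hy (j := 1) (by norm_num)
  have e3 := n1_conj hy (j := 5) (by norm_num) (by norm_num)
  rw [show 8 - 7 = 1 from rfl] at e1
  rw [show 6 - 1 = 5 from rfl] at e2
  rw [show 8 - 5 = 3 from rfl] at e3
  have m8 : y 8 ∈ commutator Γ := n_mem hy false
  have m9 : y 9 ∈ commutator Γ := n_mem hy true
  have n8 := n1n1 hy
  have n9 := n2n2 hy
  have e : y 7 = y 8 * (y 9 * (y 8 * y 3 * y 8) * y 9) * y 8 := by
    rw [← e3, ← e2, ← e1]
    have a8 : ∀ x : Γ, y 8 * (y 8 * x) = x := fun x => by rw [← mul_assoc, n8, one_mul]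
    have a9 : ∀ x : Γ, y 9 * (y 9 * x) = x := fun x => by rw [← mul_assoc, n9, one_mul]
    simp only [mul_assoc, a8, a9, n8, n9, mul_one]
  rw [e]
  exact mul_mem (mul_mem m8 (mul_mem (mul_mem m9 (mul_mem (mul_mem m8 h) m8)) m9)) m8

theorem cs_mem_T (s : Bool) : cs y s ∈ commutator Γ := by
  cases s
  · show y 0 * 1 ∈ _
    rw [mul_one]; exact y0_mem hy
  · show y 7 * y 3 ∈ _
    rw [Subgroup.mul_mem_iff_of_index_two (index_T hy hgen hcard)]
    exact iff_of_false (y7_not_mem hy hgen hcard) (y3_not_mem hy hgen hcard)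

theorem xs_mem_T (s : Bool) : xs y s ∈ commutator Γ := by
  cases s
  · exact y0_mem hy
  · exact Subgroup.mul_self_mem_of_index_two (index_T hy hgen hcard) _

/-- the order of the intersection with `T` -/
theorem card_inf {P : Subgroup Γ} (hP : y 7 ∈ P) : 2 * Nat.card (P.subgroupOf (commutator Γ)) = Nat.card P := by
  have h1 := (commutator Γ).relIndex_dvd_index_of_normal P
  rw [index_T hy hgen hcard, Nat.dvd_prime Nat.prime_two] at h1
  have h2 : (commutator Γ).relIndex P = 2 := by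
    rcases h1 with h | h
    · exact absurd (Subgroup.relIndex_eq_one.1 h hP) (y7_not_mem hy hgen hcard)
    · exact h
  have h3 : Nat.card (P.subgroupOf (commutator Γ)) = Nat.card ((commutator Γ).subgroupOf P) := by
    rw [Nat.card_congr ((P.subgroupOf (commutator Γ)).equivMapOfInjective _
      (commutator Γ).subtype_injective).toEquiv, Nat.card_congr (((commutator Γ).subgroupOf P).equivMapOfInjective _
      P.subtype_injective).toEquiv, subgroupOf_map_subtype, subgroupOf_map_subtype, inf_comm]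
  rw [h3, ← ((commutator Γ).subgroupOf P).index_mul_card]
  show _ = (commutator Γ).relIndex P * _
  rw [h2]

end sign

/-! ### the parabolic subgroups -/

section main

variable {Γ : Type*} [Group Γ] [Finite Γ] {y : ℕ → Γ} (hy : Sat y)
  (hgen : closure (y '' {i | i < 10}) = ⊤) (hcard : Nat.card Γ = 35942400) (hU : Nat.card (V y 0) = 4096)
  (h0 : y 0 ≠ 1) (h7 : y 7 ^ 2 ≠ 1)

include hy hgen hcard hU h0 h7

theorem xs_ne (s : Bool) : xs y s ≠ 1 := by
  cases s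
  · exact h0
  · intro h
    apply h7
    rw [pow_two]; exact h

theorem q_dvd (s : Bool) (j : ℕ) (h : ((rd hy).n s)⁻¹ * cs y s ^ j * (rd hy).n s ∈ (rd hy).U) : qs s ∣ j := by
  have hX := card_X hy h0 h7
  have hG : (rd hy).G = ⊤ := by rw [rd_G hy, hgen]
  rw [(rd hy).ninv] at h
  have h1 : (rd hy).n s * ys y s ^ j * (rd hy).n s ∈ (rd hy).U := by
    have e : (rd hy).n s * ys y s ^ j * (rd hy).n s =
        ((rd hy).n s * cs y s ^ j * (rd hy).n s) * ((rd hy).n s * ((cs y s ^ j)⁻¹ * ys y s ^ j) * (rd hy).n s) := by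
      calc (rd hy).n s * ys y s ^ j * (rd hy).n s =
          ((rd hy).n s * cs y s ^ j) * 1 * (((cs y s ^ j)⁻¹ * ys y s ^ j) * (rd hy).n s) := by group
        _ = ((rd hy).n s * cs y s ^ j) * ((rd hy).n s * (rd hy).n s) *
            (((cs y s ^ j)⁻¹ * ys y s ^ j) * (rd hy).n s) := by rw [(rd hy).nn]
        _ = _ := by group
    rw [e]
    exact mul_mem h ((rd hy).KU s ((rd hy).nK s _ (cj' hy s j)))
  have h2 := neg_mem_U (rd hy) hX hU hG hcard (pow_mem (ys_mem hy s) j) h1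
  have h3 : orderOf (ys y s) = qs s := by
    have h4 : Nat.card (zpowers (ys y s)) = qs s := hX s
    rw [← h4, Nat.card_zpowers]
  rw [← h3]
  exact orderOf_dvd_of_pow_eq_one h2

/-- the overgroups of `S` -/
theorem overgroup {H : Subgroup Γ} (hH : ∀ u ∈ (rd hy).U, u ∈ commutator Γ → u ∈ H) {g : Γ} (hg : g ∈ H)
    (hgT : g ∈ commutator Γ) (hgU : g ∉ (rd hy).U) :
    ∃ s, ∀ r ∈ Pp (rd hy) s, r ∈ commutator Γ → r ∈ H := by
  have hX := card_X hy h0 h7
  have hG : (rd hy).G = ⊤ := by rw [rd_G hy, hgen]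
  have hTn : (commutator Γ).Normal := inferInstance
  -- products of two elements outside `T`
  have hab : ∀ a b n : Γ, n ∈ commutator Γ → a * n * b ∈ commutator Γ → a * b ∈ commutator Γ := by
    intro a b n hn h
    have e : a * b = (a * n * a⁻¹)⁻¹ * (a * n * b) := by group
    rw [e]
    exact mul_mem (inv_mem (hTn.conj_mem _ hn _)) h
  obtain ⟨s, k, hk, u, hu, v, hv, rfl⟩ := mem_All (rd hy) hX hU hG hcard g
  rcases k with _ | k
  · exfalso
    apply hgU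
    rw [w_zero, mul_one]
    exact mul_mem hu hv
  refine ⟨s, ?_⟩
  have huv := hab _ _ _ (w_mem hy s (k + 1)) hgT
  have h1 : u * w (rd hy).n s (k + 1) * u⁻¹ ∈ H := by
    have e : u * w (rd hy).n s (k + 1) * u⁻¹ = (u * w (rd hy).n s (k + 1) * v) * (u * v)⁻¹ := by group
    rw [e]
    exact mul_mem hg (inv_mem (hH _ (mul_mem hu hv) huv))
  have h2 := (rd hy).wX s k (by omega) _ (xs_mem hy s)
  have h3 : (w (rd hy).n (!s) k)⁻¹ * xs y s * w (rd hy).n (!s) k ∈ commutator Γ :=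
    mul_mem (mul_mem (inv_mem (w_mem hy _ _)) (xs_mem_T hy hgen hcard s)) (w_mem hy _ _)
  have h4 : u * ((w (rd hy).n (!s) k)⁻¹ * xs y s * w (rd hy).n (!s) k) * u⁻¹ ∈ H :=
    hH _ (mul_mem (mul_mem hu h2) (inv_mem hu)) (hTn.conj_mem _ h3 _)
  have h5 := mul_mem (mul_mem h1 h4) (inv_mem h1)
  have h6 : u * w (rd hy).n s (k + 1) * u⁻¹ * (u * ((w (rd hy).n (!s) k)⁻¹ * xs y s * w (rd hy).n (!s) k) * u⁻¹) *
      (u * w (rd hy).n s (k + 1) * u⁻¹)⁻¹ = u * ((rd hy).n s * xs y s * (rd hy).n s) * u⁻¹ := by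
    rw [w_succ]
    nth_rewrite 4 [← (rd hy).ninv s]
    group
  rw [h6] at h5
  obtain ⟨a, ha, b, hb, h7'⟩ := (rd hy).rk1 s _ (xs_mem hy s) (xs_ne hy hgen hcard hU h0 h7 s)
  have h8 : a * (rd hy).n s * b ∈ commutator Γ := by
    rw [← h7']
    exact mul_mem (mul_mem (n_mem hy s) (xs_mem_T hy hgen hcard s)) (n_mem hy s)
  have hab' := hab _ _ _ (n_mem hy s) h8
  rw [h7'] at h5
  have haU := (rd hy).XU s ha
  have hbU := (rd hy).XU s hb
  -- `p n p⁻¹ ∈ H`
  have hp : u * a ∈ (rd hy).U := mul_mem hu haU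
  have h9 : (u * a) * (rd hy).n s * (u * a)⁻¹ ∈ H := by
    have e : (u * a) * (rd hy).n s * (u * a)⁻¹ = (u * (a * (rd hy).n s * b) * u⁻¹) * (u * (a * b) * u⁻¹)⁻¹ := by group
    rw [e]
    exact mul_mem h5 (inv_mem (hH _ (mul_mem (mul_mem hu (mul_mem haU hbU)) (inv_mem hu)) (hTn.conj_mem _ hab' _)))
  set p := u * a with hpdef
  intro r hr hrT
  have hr' : p⁻¹ * r * p ∈ Pp (rd hy) s := mul_mem (mul_mem (inv_mem (U_le_P (rd hy) s hp)) hr) (U_le_P (rd hy) s hp)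
  have hrT' : p⁻¹ * r * p ∈ commutator Γ := by
    have := hTn.conj_mem _ hrT p⁻¹
    rwa [inv_inv] at this
  rcases P_cases' hy hr' with h | ⟨j, v', hv', e⟩
  · apply hH _ _ hrT
    have e : r = p * (p⁻¹ * r * p) * p⁻¹ := by group
    rw [e]
    exact mul_mem (mul_mem hp h) (inv_mem hp)
  · have hcT : cs y s ^ j ∈ commutator Γ := pow_mem (cs_mem_T hy hgen hcard s) j
    have hvT : v' ∈ commutator Γ := by
      have e2 : v' = ((rd hy).n s)⁻¹ * (cs y s ^ j)⁻¹ * (p⁻¹ * r * p) := by rw [e]; group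
      rw [e2]
      exact mul_mem (mul_mem (inv_mem (n_mem hy s)) (inv_mem hcT)) hrT'
    have e3 : r = (p * cs y s ^ j * p⁻¹) * (p * (rd hy).n s * p⁻¹) * (p * v' * p⁻¹) := by
      have e4 : r = p * (p⁻¹ * r * p) * p⁻¹ := by group
      rw [e4, e]; group
    rw [e3]
    refine mul_mem (mul_mem (hH _ ?_ (hTn.conj_mem _ hcT _)) h9) (hH _ ?_ (hTn.conj_mem _ hvT _))
    · exact mul_mem (mul_mem hp (pow_mem (cs_mem hy s) j)) (inv_mem hp)
    · exact mul_mem (mul_mem hp hv') (inv_mem hp)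

theorem card_R (s : Bool) : Nat.card ((Pp (rd hy) s).subgroupOf (commutator Γ)) = (if s then 5 else 3) * 2048 := by
  have h1 := card_P (rd hy) (card_X hy h0 h7) hU (by rw [rd_G hy, hgen]) hcard s
  have h2 := card_inf hy hgen hcard (P := Pp (rd hy) s) (U_le_P (rd hy) s (mem_V y (by norm_num) (by norm_num)))
  rw [h1] at h2
  cases s
  · have h3 : 2 * Nat.card ((Pp (rd hy) false).subgroupOf (commutator Γ)) = 3 * 4096 := h2
    show _ = 3 * 2048
    omega
  · have h3 : 2 * Nat.card ((Pp (rd hy) true).subgroupOf (commutator Γ)) = 5 * 4096 := h2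
    show _ = 5 * 2048
    omega

theorem card_S : Nat.card ((rd hy).U.subgroupOf (commutator Γ)) = 2048 := by
  have h2 := card_inf hy hgen hcard (P := (rd hy).U) (mem_V y (by norm_num) (by norm_num))
  have h3 : Nat.card (rd hy).U = 4096 := hU
  omega

/-- **the parabolic subgroups are invariant** -/
theorem map_R (γ : MulAut (commutator Γ))
    (hγ : ∀ u ∈ (rd hy).U.subgroupOf (commutator Γ), γ u ∈ (rd hy).U.subgroupOf (commutator Γ)) (s : Bool)
    {r : commutator Γ} (hr : r ∈ (Pp (rd hy) s).subgroupOf (commutator Γ)) :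
    γ r ∈ (Pp (rd hy) s).subgroupOf (commutator Γ) := by
  set R := fun t => (Pp (rd hy) t).subgroupOf (commutator Γ) with hR
  set H : Subgroup (commutator Γ) := (R s).map γ.toMonoidHom with hH
  have hcH : Nat.card H = Nat.card (R s) :=
    (Nat.card_congr ((R s).equivMapOfInjective γ.toMonoidHom γ.injective).toEquiv).symm
  have hSH : (rd hy).U.subgroupOf (commutator Γ) ≤ H := by
    intro x hx
    obtain ⟨z, rfl⟩ := γ.surjective x
    exact ⟨z, U_le_P (rd hy) s (mem_of_map hγ hx), rfl⟩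
  have hnle : ¬ H ≤ (rd hy).U.subgroupOf (commutator Γ) := by
    intro h
    have h2 := Subgroup.card_le_of_le h
    rw [hcH, card_R hy hgen hcard hU h0 h7, card_S hy hgen hcard hU h0 h7] at h2
    cases s <;> norm_num at h2
  obtain ⟨g, hg, hgU⟩ := SetLike.not_le_iff_exists.mp hnle
  obtain ⟨t, ht⟩ := overgroup hy hgen hcard hU h0 h7 (H := H.map (commutator Γ).subtype)
    (fun u hu huT => ⟨⟨u, huT⟩, hSH hu, rfl⟩) (g := (g : Γ)) ⟨g, hg, rfl⟩ g.2 hgU
  have hRt : R t ≤ H := by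
    intro x hx
    obtain ⟨x', hx', e⟩ := ht x hx x.2
    rw [← Subtype.ext e]
    exact hx'
  have hts : t = s := by
    by_contra hne
    have h4 := Subgroup.card_dvd_of_le hRt
    rw [hcH, card_R hy hgen hcard hU h0 h7, card_R hy hgen hcard hU h0 h7] at h4
    cases s <;> cases t <;> first | exact hne rfl | norm_num at h4
  subst hts
  have hEq : R t = H := Subgroup.eq_of_le_of_card_ge hRt hcH.le
  show γ r ∈ R t
  rw [hEq]
  exact ⟨r, hr, rfl⟩

theorem iSup_R : ⨆ s, (Pp (rd hy) s).subgroupOf (commutator Γ) = ⊤ := by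
  have hG : (rd hy).G = ⊤ := by rw [rd_G hy, hgen]
  have hTn : (commutator Γ).Normal := inferInstance
  set M : Subgroup Γ := closure {g | ∃ s, g ∈ Pp (rd hy) s ∧ g ∈ commutator Γ} with hM
  have hMT : M ≤ commutator Γ := by
    rw [hM, closure_le]
    rintro g ⟨s, -, hg⟩
    exact hg
  have hconj : ∀ u ∈ (rd hy).U, ∀ m ∈ M, u * m * u⁻¹ ∈ M := by
    intro u hu
    apply conj_closure
    rintro g ⟨s, hg, hgT⟩
    exact subset_closure ⟨s, mul_mem (mul_mem (U_le_P (rd hy) s hu) hg) (inv_mem (U_le_P (rd hy) s hu)),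
      hTn.conj_mem _ hgT _⟩
  have hall : ∀ g : Γ, ∃ m ∈ M, ∃ u ∈ (rd hy).U, g = m * u := by
    intro g
    have hg : g ∈ (rd hy).G := by rw [hG]; trivial
    have hg' : g ∈ Subgroup.closure (((rd hy).U : Set Γ) ∪ Set.range (rd hy).n) := hg
    have hUl : ∀ x ∈ (rd hy).U, ∀ z : Γ, (∃ m ∈ M, ∃ u ∈ (rd hy).U, z = m * u) →
        ∃ m ∈ M, ∃ u ∈ (rd hy).U, x * z = m * u := by
      rintro x hx z ⟨m, hm, u, hu, rfl⟩
      exact ⟨x * m * x⁻¹, hconj x hx m hm, x * u, mul_mem hx hu, by group⟩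
    have hnl : ∀ s, ∀ z : Γ, (∃ m ∈ M, ∃ u ∈ (rd hy).U, z = m * u) →
        ∃ m ∈ M, ∃ u ∈ (rd hy).U, (rd hy).n s * z = m * u := by
      rintro s z ⟨m, hm, u, hu, rfl⟩
      exact ⟨(rd hy).n s * m, mul_mem (subset_closure ⟨s, n_mem_P (rd hy) s, n_mem hy s⟩) hm, u, hu, by group⟩
    induction hg' using Subgroup.closure_induction_left with
    | one => exact ⟨1, one_mem _, 1, one_mem _, by group⟩
    | mul_left x hx z hz ih =>
      rcases hx with hx | ⟨s, rfl⟩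
      · exact hUl x hx z (ih (by rw [hG]; trivial))
      · exact hnl s z (ih (by rw [hG]; trivial))
    | inv_mul_cancel x hx z hz ih =>
      rcases hx with hx | ⟨s, rfl⟩
      · exact hUl _ (inv_mem hx) z (ih (by rw [hG]; trivial))
      · rw [(rd hy).ninv]
        exact hnl s z (ih (by rw [hG]; trivial))
  have hMle : M ≤ (⨆ s, (Pp (rd hy) s).subgroupOf (commutator Γ)).map (commutator Γ).subtype := by
    rw [hM, closure_le]
    rintro g ⟨s, hg, hgT⟩
    exact ⟨⟨g, hgT⟩, (le_iSup (fun s => (Pp (rd hy) s).subgroupOf (commutator Γ)) s) hg, rfl⟩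
  rw [eq_top_iff]
  intro g _
  obtain ⟨m, hm, u, hu, e⟩ := hall g
  have huT : u ∈ commutator Γ := by
    have e2 : u = m⁻¹ * g := by rw [e]; group
    rw [e2]
    exact mul_mem (inv_mem (hMT hm)) g.2
  have hgM : (g : Γ) ∈ M := by
    rw [e]
    exact mul_mem hm (subset_closure ⟨true, U_le_P (rd hy) true hu, huT⟩)
  obtain ⟨g', hg', e3⟩ := hMle hgM
  rw [← Subtype.ext e3]
  exact hg'

theorem noThree_abs (hs : IsSimpleGroup (commutator Γ)) : NoThree (commutator Γ) := by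
  have : Fact (Nat.Prime 2) := ⟨Nat.prime_two⟩
  have hcS := card_S hy hgen hcard hU h0 h7
  have hidx := index_T hy hgen hcard
  have hcT : Nat.card (commutator Γ) = 17971200 := by
    have := (commutator Γ).index_mul_card
    rw [hidx, hcard] at this
    omega
  have hp : IsPGroup 2 ((rd hy).U.subgroupOf (commutator Γ)) := IsPGroup.of_card (n := 11) (by rw [hcS]; norm_num)
  have hi : ((rd hy).U.subgroupOf (commutator Γ)).index = 8775 := by
    have := ((rd hy).U.subgroupOf (commutator Γ)).index_mul_card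
    rw [hcS, hcT] at this
    omega
  let S : Sylow 2 (commutator Γ) := hp.toSylow (by rw [hi]; norm_num)
  have hS : (S : Subgroup (commutator Γ)) = (rd hy).U.subgroupOf (commutator Γ) := rfl
  have hK : ∀ s : Bool, ∀ k : commutator Γ, (k : Γ) ∈ (rd hy).K s →
      k ∈ cor (S : Subgroup (commutator Γ)) ((Pp (rd hy) s).subgroupOf (commutator Γ)) := by
    intro s k hk r hr
    exact (rd hy).KU s (conj_K_P hy s hr hk)
  refine noThree S ?_ (fun s => (Pp (rd hy) s).subgroupOf (commutator Γ)) ?_ (iSup_R hy hgen hcard hU h0 h7) ?_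
    qs ?_ (fun s => ⟨cs y s, cs_mem_T hy hgen hcard s⟩) (fun s => ⟨(rd hy).n s, n_mem hy s⟩) ?_ ?_ ?_ ?_ ?_ ?_
  · intro h
    rw [hS] at h
    rw [h, Subgroup.index_top] at hi
    norm_num at hi
  · intro s x hx
    exact U_le_P (rd hy) s hx
  · intro γ hγ s r hr
    exact map_R hy hgen hcard hU h0 h7 γ hγ s hr
  · intro s
    cases s
    · exact Or.inl rfl
    · exact Or.inr rfl
  · intro s
    exact cs_mem hy s
  · intro s
    exact n_mem_P (rd hy) s
  · intro s u hu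
    obtain ⟨j, hj⟩ := U_cases hy s (u := (u : Γ)) hu
    exact ⟨j, hK s _ hj⟩
  · intro s r hr
    rcases P_cases' hy (r := (r : Γ)) hr with h | ⟨j, v, hv, e⟩
    · exact Or.inl h
    · right
      have hcT' : cs y s ^ j ∈ commutator Γ := pow_mem (cs_mem_T hy hgen hcard s) j
      have hvT : v ∈ commutator Γ := by
        have e2 : v = ((rd hy).n s)⁻¹ * (cs y s ^ j)⁻¹ * r := by rw [e]; group
        rw [e2]
        exact mul_mem (mul_mem (inv_mem (n_mem hy s)) (inv_mem hcT')) r.2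
      exact ⟨j, ⟨v, hvT⟩, hv, Subtype.ext e⟩
  · intro s j h
    exact q_dvd hy hgen hcard hU h0 h7 s j h
  · intro s
    exact hK s _ (c_pow hy s)

end main

/-! ### the Tits group -/

section Concrete

open Cfsg.Agent.ChevalleyStructure.Tits.Pack Cfsg.Agent.ChevalleyStructure.Tits.Mat
  Cfsg.Agent.ChevalleyStructure.Tits.Order Cfsg.Agent.ChevalleyStructure.Tits.Main
open scoped MatrixGroups

theorem noThree_H0 : NoThree (commutator H0) := by
  have := fin_H0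
  exact noThree_abs Sat_yH gen_yH card_H0 card_V_yH (yH_ne_one (by norm_num)) yH7_sq H0_result.2.1

theorem noThree_T (T : Subgroup (GL I52 (ZMod 2))) (hT : T = H0) : NoThree (commutator T) := by
  subst hT
  exact noThree_H0

theorem noThree_aux {G K : Type*} [Group G] [Group K] (T : Subgroup G) (h : NoThree (commutator T))
    (e : K ≃* commutator T) : NoThree K := NoThree.congr e h

/-- **the Tits group** -/
theorem tits {K : Type*} [Group K] (h : Cfsg.Lie.IsoTits K) : NoThree K := by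
  obtain ⟨T, hT, ⟨e⟩⟩ := exists_equiv h
  exact noThree_aux T (noThree_T T hT) e

end Concrete

end Cfsg.Agent.OddHalf.Quat.NoThreeT

end

-- merged: Cfsg.Agent.OddHalf.Quat.GoodTwo
section

/-!
# Node Q: the simple groups of Lie type in characteristic 2

`good_two`: `K` simple (`Z(K) = 1`), `LieTwo K`, not in the list of the treated groups `K`: `KGood K`.
-/

set_option autoImplicit false

namespace Cfsg.Agent.OddHalf.Quat

open Subgroup Cfsg Cfsg.Agent.OddHalf.Iface Cfsg.Agent.OddHalf.D7.Cases Cfsg.Agent.OddHalf.D4.Cut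
  Cfsg.Agent.OddHalf.Iso5

universe u

theorem KGood.three {K : Type u} [Group K] (h : NoThree K) : KGood K := Or.inl h

theorem KGood.big {K : Type u} [Group K] (h : ∃ U : Sylow 2 K, KBig (U : Subgroup K)) : KGood K := Or.inr (Or.inl h)

theorem KGood.two {K : Type u} [Group K] (h : ∃ (U : Sylow 2 K) (V : Subgroup K), KTwo (U : Subgroup K) V) :
    KGood K := Or.inr (Or.inr (Or.inl h))

namespace GoodTwo

variable {K : Type u} [Group K]

theorem eq_one {a : ℕ} (ha : 1 ≤ a) (h : ¬ 2 ≤ a) : a = 1 := by omega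

theorem four_le {a q : ℕ} (ha : 2 ≤ a) (h : q = 2 ^ a) : 4 ≤ q := by
  rw [h]
  exact Nat.pow_le_pow_right (n := 2) (by norm_num) ha

theorem card_four {F : Type} [Fintype F] {a : ℕ} (ha : 2 ≤ a) (h : Fintype.card F = 2 ^ a) : 4 ≤ Nat.card F := by
  rw [Nat.card_eq_fintype_card]
  exact four_le ha h

theorem sq {N a : ℕ} (h : N = 4 ^ a) : N = (2 ^ a) ^ 2 := by
  rw [h, ← pow_mul, show (4 : ℕ) = 2 ^ 2 from rfl, ← pow_mul, mul_comm 2 a]

theorem l2e (hz : center K = ⊥) (h : L2e K) : KGood K := by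
  obtain ⟨F, _, _, a, ha, hF, ⟨e⟩⟩ := h
  by_cases h4 : a = 4
  · subst h4
    have : Fact (Nat.Prime 2) := ⟨Nat.prime_two⟩
    exact .three (NoThreeL.two 2 4 (by norm_num) hF (by norm_num) (by norm_num) hz e)
  · exact .big (exists_kbig_of_equiv e.symm (LTwo.row hF ha h4))

theorem u3e (h : U3e K) : KGood K := by
  obtain ⟨F, _, _, a, ha, hF, ⟨e⟩⟩ := h
  exact .big (exists_kbig_of_equiv e.symm (UniRow.row (sq hF) le_rfl rfl ha))

theorem sze (h : Sze K) : KGood K := by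
  obtain ⟨F, _, _, m, hm, hF, ⟨e⟩⟩ := h
  exact .big (exists_kbig_of_equiv e.symm (SzRow.row (by omega) hF))

theorem l3e (h : L3e K) : KGood K := by
  obtain ⟨F, _, _, a, ha, hF, ⟨e⟩⟩ := h
  exact .big (exists_kbig_of_equiv e.symm (PSLRow.row hF le_rfl (by omega)))

theorem sp4e (h : Sp4e K) : KGood K := by
  obtain ⟨F, _, _, a, ha, hF, ⟨e⟩⟩ := h
  exact .big (exists_kbig_of_equiv e.symm (SpFourRow.row hF ha))

theorem g2e (h : G2e K) : KGood K := by
  obtain ⟨F, _, _, a, ha, hF, ⟨e⟩⟩ := h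
  exact .big (RowHex.g2 (by omega) hF e)

theorem u4e (h : U4e K) : KGood K := by
  obtain ⟨F, _, _, a, ha, hF, ⟨e⟩⟩ := h
  exact .big (exists_kbig_of_equiv e.symm (UniRow.row (sq hF) (by norm_num) rfl ha))

theorem u5e (h : U5e K) : KGood K := by
  obtain ⟨F, _, _, a, ha, hF, ⟨e⟩⟩ := h
  exact .big (exists_kbig_of_equiv e.symm (UniRow.row (sq hF) (by norm_num) rfl ha))

theorem u52 (hz : center K = ⊥) (h : U52 K) : KGood K := by
  obtain ⟨F, _, _, hF, ⟨e⟩⟩ := h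
  exact .three (NoThreeU.unitary hF (by norm_num) (by norm_num) hz e)

theorem d4t2 (h : D4t2 K) : KGood K := by
  obtain ⟨F, _, _, hF, ⟨e⟩⟩ := h
  exact .two (KTwoTri.main hF e)

theorem d4te (h : D4te K) : KGood K := by
  obtain ⟨F, _, _, a, ha, hF, ⟨e⟩⟩ := h
  exact .big (RowHex.d4 ha hF e)

theorem ln2 (hz : center K = ⊥) (h : Ln2 K) : KGood K := by
  obtain ⟨F, _, _, n, hF, hn, ⟨e⟩⟩ := h
  exact .three (NoThreeL.linear hF (by omega) hz e)

theorem lne (h : Lne K) : KGood K := by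
  obtain ⟨F, _, _, a, n, ha, hF, hn, ⟨e⟩⟩ := h
  exact .big (exists_kbig_of_equiv e.symm (PSLRow.row hF (by omega) ha))

theorem un2 (h : Un2 K) : KGood K := by
  obtain ⟨F, _, _, n, hF, hn, ⟨e⟩⟩ := h
  exact .two (KTwoU.main hF hn e)

theorem une (h : Une K) : KGood K := by
  obtain ⟨F, _, _, a, n, ha, hF, hn, ⟨e⟩⟩ := h
  exact .big (exists_kbig_of_equiv e.symm (UniRow.row (sq hF) (by omega) rfl ha))

theorem sp2 (hz : center K = ⊥) (h : Sp2 K) : KGood K := by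
  obtain ⟨F, _, _, m, hF, hm, ⟨e⟩⟩ := h
  exact .three (NoThreeSp.sp hF (by omega) hz e)

theorem spe (h : Spe K) : KGood K := by
  obtain ⟨F, _, _, a, m, ha, hF, hm, ⟨e⟩⟩ := h
  exact .big (exists_kbig_of_equiv e.symm (SpRow.row hF ha hm))

theorem op2 (hz : center K = ⊥) (h : Op2 K) : KGood K := by
  obtain ⟨F, _, _, m, hF, hm, ⟨e⟩⟩ := h
  exact .three (NoThreeU.plus hF hm hz e)

theorem ope (h : Ope K) : KGood K := by
  obtain ⟨F, _, _, a, m, ha, hF, hm, ⟨e⟩⟩ := h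
  have : Fact (Nat.Prime 2) := ⟨Nat.prime_two⟩
  have : CharP F 2 := charP_of_card_eq_prime_pow (f := a) hF
  exact .big (exists_kbig_of_equiv e.symm (RowSL.oplus F (by omega) (card_four ha hF)))

theorem om2 (hz : center K = ⊥) (h : Om2 K) : KGood K := by
  obtain ⟨F, _, _, m, b, c, hF, hm, hbc, ⟨e⟩⟩ := h
  exact .three (NoThreeU.minus hF hm b c hbc hz e)

theorem ome (h : Ome K) : KGood K := by
  obtain ⟨F, _, _, a, m, b, c, ha, hF, hm, hbc, ⟨e⟩⟩ := h
  exact .big (RowOMinus.main ha hF hm hbc e)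

theorem f4e (h : F4e K) : KGood K := by
  obtain ⟨F, _, _, a, ha, hF, ⟨e⟩⟩ := h
  exact .big (RowF4.main ha hF e)

theorem f4t (h : Fam2F4 K) : KGood K := by
  obtain ⟨F, _, _, m, hm, hF, ⟨e⟩⟩ := h
  exact .big (exists_kbig_of_equiv e.symm (TwF4Row.row hm hF))

theorem e62 (h : E62 K) : KGood K := by
  obtain ⟨F, _, _, hF, ⟨e⟩⟩ := h
  exact .three (NoThreeE.e6 hF e)

theorem e6e (h : E6e K) : KGood K := by
  obtain ⟨F, _, _, a, ha, hF, ⟨e⟩⟩ := h
  have : Fact (Nat.Prime 2) := ⟨Nat.prime_two⟩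
  have : CharP F 2 := charP_of_card_eq_prime_pow (f := a) hF
  exact .big (exists_kbig_of_equiv e.symm (RowSL.e6 F (card_four ha hF)))

theorem e72 (h : E72 K) : KGood K := by
  obtain ⟨F, _, _, hF, ⟨e⟩⟩ := h
  exact .three (NoThreeE.e7 hF e)

theorem e7e (h : E7e K) : KGood K := by
  obtain ⟨F, _, _, a, ha, hF, ⟨e⟩⟩ := h
  have : Fact (Nat.Prime 2) := ⟨Nat.prime_two⟩
  have : CharP F 2 := charP_of_card_eq_prime_pow (f := a) hF
  exact .big (exists_kbig_of_equiv e.symm (RowSL.e7 F (card_four ha hF)))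

theorem e82 (h : E82 K) : KGood K := by
  obtain ⟨F, _, _, hF, ⟨e⟩⟩ := h
  exact .three (NoThreeE.e8 hF e)

theorem e8e (h : E8e K) : KGood K := by
  obtain ⟨F, _, _, a, ha, hF, ⟨e⟩⟩ := h
  have : Fact (Nat.Prime 2) := ⟨Nat.prime_two⟩
  have : CharP F 2 := charP_of_card_eq_prime_pow (f := a) hF
  exact .big (exists_kbig_of_equiv e.symm (RowSL.e8 F (card_four ha hF)))

theorem e6t2 (h : E6t2 K) : KGood K := by
  obtain ⟨F, _, _, hF, ⟨e⟩⟩ := h
  exact .two (KTwoE6.main hF e)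

theorem e6te (h : E6te K) : KGood K := by
  obtain ⟨F, _, _, a, ha, hF, ⟨e⟩⟩ := h
  exact .big (RowTwE6.row_equiv hF ha e)

end GoodTwo

open GoodTwo

variable {G : Type u} [Group G] {K : Subgroup G}

/-- **Node Q: `K` simple of Lie type in characteristic 2** -/
theorem good_two (hz : center ↥K = ⊥) (h : LieTwo ↥K) (hl : ¬ Listed K) : KGood ↥K := by
  by_cases hs : SmallRank ↥K
  · rcases hs with ⟨F, _, _, a, ha, hF, ⟨e⟩⟩ | ⟨F, _, _, a, ha, hF, ⟨e⟩⟩ | ⟨F, _, _, m, hm, hF, ⟨e⟩⟩ |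
      ⟨F, _, _, a, ha, hF, h3⟩ | ⟨F, _, _, a, ha, hF, h3⟩ | ⟨F, _, _, hF, ⟨e⟩⟩ | ⟨F, _, _, a, ha, hF, ⟨e⟩⟩
    · refine l2e hz ⟨F, _, _, a, ?_, hF, ⟨e⟩⟩
      by_contra hlt
      have : a = 2 := by omega
      subst this
      exact h.2.1 (isAlternating_of_l24 (by simpa using hF) e)
    · exact u3e ⟨F, _, _, a, ha, hF, ⟨e⟩⟩
    · refine sze ⟨F, _, _, m, ?_, hF, ⟨e⟩⟩
      by_contra hlt
      have : m = 1 := by omega
      subst this
      exact hl (Or.inl ⟨F, _, _, by simpa using hF, ⟨e⟩⟩)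
    · rcases h3 with ⟨⟨e⟩⟩ | ⟨⟨e⟩⟩ | ⟨⟨e⟩⟩
      · refine l3e ⟨F, _, _, a, ?_, hF, ⟨e⟩⟩
        by_contra hlt
        have : a = 2 := by omega
        subst this
        exact hl (Or.inr (Or.inr (Or.inr (Or.inr (Or.inr (Or.inr (Or.inr (Or.inr (Or.inr (Or.inl
          ⟨F, _, _, by simpa using hF, ⟨e⟩⟩))))))))))
      · exact sp4e ⟨F, _, _, a, ha, hF, ⟨e⟩⟩
      · refine g2e ⟨F, _, _, a, ?_, hF, ⟨e⟩⟩
        by_contra hlt
        have : a = 2 := by omega
        subst this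
        exact hl (Or.inr (Or.inr (Or.inr (Or.inr (Or.inr (Or.inr (Or.inr (Or.inr (Or.inr (Or.inr (Or.inr
          (Or.inr (Or.inl ⟨F, _, _, by simpa using hF, ⟨e⟩⟩)))))))))))))
    · rcases h3 with ⟨⟨e⟩⟩ | ⟨⟨e⟩⟩
      · exact u4e ⟨F, _, _, a, ha, hF, ⟨e⟩⟩
      · exact u5e ⟨F, _, _, a, ha, hF, ⟨e⟩⟩
    · exact u52 hz ⟨F, _, _, hF, ⟨e⟩⟩
    · by_cases h2 : 2 ≤ a
      · exact d4te ⟨F, _, _, a, h2, hF, ⟨e⟩⟩
      · have := eq_one ha h2
        subst this
        exact d4t2 ⟨F, _, _, by simpa using hF, ⟨e⟩⟩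
  rcases d7_cases h hs hl with h | h | h | h | h | h | h | h | h | h | h | h
  · obtain ⟨F, _, _, a, n, ha, hF, hn, hna, ⟨e⟩⟩ := h
    by_cases h2 : 2 ≤ a
    · exact lne ⟨F, _, _, a, n, h2, hF, hn, ⟨e⟩⟩
    · have := eq_one ha h2
      subst this
      refine ln2 hz ⟨F, _, _, n, by simpa using hF, ?_, ⟨e⟩⟩
      by_contra hlt
      exact h2 (hna (by omega))
  · obtain ⟨F, _, _, a, n, ha, hF, hn, ⟨e⟩⟩ := h
    by_cases h2 : 2 ≤ a
    · exact une ⟨F, _, _, a, n, h2, hF, hn, ⟨e⟩⟩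
    · have := eq_one ha h2
      subst this
      exact un2 ⟨F, _, _, n, by simpa using hF, hn, ⟨e⟩⟩
  · obtain ⟨F, _, _, a, m, ha, hF, hm, hma, ⟨e⟩⟩ := h
    by_cases h2 : 2 ≤ a
    · exact spe ⟨F, _, _, a, m, h2, hF, hm, ⟨e⟩⟩
    · have := eq_one ha h2
      subst this
      refine sp2 hz ⟨F, _, _, m, by simpa using hF, ?_, ⟨e⟩⟩
      by_contra hlt
      exact h2 (hma (by omega))
  · obtain ⟨F, _, _, a, m, ha, hF, hm, hma, ⟨e⟩⟩ := h
    by_cases h2 : 2 ≤ a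
    · exact ope ⟨F, _, _, a, m, h2, hF, hm, ⟨e⟩⟩
    · have := eq_one ha h2
      subst this
      refine op2 hz ⟨F, _, _, m, by simpa using hF, ?_, ⟨e⟩⟩
      by_contra hlt
      exact h2 (hma (by omega))
  · obtain ⟨F, _, _, a, m, b, c, ha, hF, hm, hbc, ⟨e⟩⟩ := h
    by_cases h2 : 2 ≤ a
    · exact ome ⟨F, _, _, a, m, b, c, h2, hF, hm, hbc, ⟨e⟩⟩
    · have := eq_one ha h2
      subst this
      exact om2 hz ⟨F, _, _, m, b, c, by simpa using hF, hm, hbc, ⟨e⟩⟩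
  · obtain ⟨F, _, _, a, ha, hF, h⟩ := h
    exact f4e ⟨F, _, _, a, ha, hF, h⟩
  · obtain ⟨F, _, _, a, ha, hF, h⟩ := h
    by_cases h2 : 2 ≤ a
    · exact e6e ⟨F, _, _, a, h2, hF, h⟩
    · have := eq_one ha h2
      subst this
      exact e62 ⟨F, _, _, by simpa using hF, h⟩
  · obtain ⟨F, _, _, a, ha, hF, h⟩ := h
    by_cases h2 : 2 ≤ a
    · exact e7e ⟨F, _, _, a, h2, hF, h⟩
    · have := eq_one ha h2
      subst this
      exact e72 ⟨F, _, _, by simpa using hF, h⟩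
  · obtain ⟨F, _, _, a, ha, hF, h⟩ := h
    by_cases h2 : 2 ≤ a
    · exact e8e ⟨F, _, _, a, h2, hF, h⟩
    · have := eq_one ha h2
      subst this
      exact e82 ⟨F, _, _, by simpa using hF, h⟩
  · obtain ⟨F, _, _, a, ha, hF, h⟩ := h
    by_cases h2 : 2 ≤ a
    · exact e6te ⟨F, _, _, a, h2, hF, h⟩
    · have := eq_one ha h2
      subst this
      exact e6t2 ⟨F, _, _, by simpa using hF, h⟩
  · exact f4t h
  · exact .three (NoThreeT.tits h)

end Cfsg.Agent.OddHalf.Quat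

end

-- merged: Cfsg.Agent.OddHalf.Quat.GoodSpor
section

/-!
# Node Q: the sporadic groups

`noThree_spor`: `NoThree K`, `K` sporadic.
-/

set_option autoImplicit false

namespace Cfsg.Agent.OddHalf.Quat

open Subgroup Cfsg

universe u

open NoThreeSpor in
/-- **Node Q: the sporadic groups** -/
theorem noThree_spor {K : Type u} [Group K] (hS : IsSporadicGroup K) : NoThree K := by
  rcases hS with e | e | e | e | e | e | e | e | e | e | e | e | e | e | e | e | e | e | e | e |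
    e | e | e | e | e | e
  · exact m11 e
  · exact m12 e
  · exact m22 e
  · exact m23 e
  · exact m24 e
  · exact j1 e
  · exact j2 e
  · exact j3 e
  · exact j4 e
  · exact co1 e
  · exact co2 e
  · exact co3 e
  · exact mcl e
  · exact hs e
  · exact suz e
  · exact he e
  · exact ru e
  · exact on e
  · exact ly e
  · exact fi22 e
  · exact fi23 e
  · exact fi24' e
  · exact hn e
  · exact th e
  · exact b e
  · exact m e

end Cfsg.Agent.OddHalf.Quat

end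

-- merged: Cfsg.Agent.OddHalf.Quat.GoodAll
section

/-!
# Node Q: the facts on the simple groups `K`

`good_alt`, `good_two`, `good_spor`: `KGood K` for `K` alternating, of Lie type in characteristic 2, sporadic.
`good_all`: everything except `LieOdd K`.
-/

set_option autoImplicit false

namespace Cfsg.Agent.OddHalf.Quat

open Subgroup Cfsg Cfsg.Agent.OddHalf.Iface Cfsg.Agent.OddHalf.D9.Cut

universe u

theorem good_alt {K : Type u} [Group K] (h : IsAlternating K) : KGood K := .three (NoThreeAlt.row h)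

theorem good_spor {K : Type u} [Group K] (h : IsSporadicGroup K) : KGood K :=
  .three (noThree_spor h)

/-- **Node Q: the simple groups `K`**, from the case `LieOdd K` -/
theorem good_all {G : Type u} [Group G] {K : Subgroup G} (hz : center ↥K = ⊥)
    (hc : IsAlternating ↥K ∨ LieTwo ↥K ∨ IsSporadicGroup ↥K) (hl : ¬ Listed K) : KGood ↥K := by
  rcases hc with h | h | h
  · exact good_alt h
  · exact good_two hz h hl
  · exact good_spor h

end Cfsg.Agent.OddHalf.Quat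

end
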