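import Cfsg.Agent.OddHalf.Quat.NoThreeL
import Cfsg.Agent.OddHalf.Quat.NoThreeE
import Cfsg.Agent.S0814
import Cfsg.Agent.S0815
import Cfsg.Agent.S0816
import Cfsg.Agent.S0818
import Cfsg.Agent.OddHalf.Quat.BigMap
import Cfsg.Agent.OddHalf.EightTorus.Auto
import Cfsg.Agent.S1152
import Cfsg.Agent.S1157
import Cfsg.Agent.S1073
import Cfsg.Agent.OddHalf.Quat.KF
import Cfsg.Agent.GH.L2AutFix
import Cfsg.Agent.OddHalf.Quat.Good
import Cfsg.Agent.OddHalf.NI.Rows
import Cfsg.Agent.OddHalf.NI3.Final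

-- merged: Cfsg.Agent.OddHalf.Quat.NoThreeOdd
section

/-!
# Node Q: `NoThree` for the small groups over the field with three elements

* `lin` : `Lₙ(3)`, `n ≥ 3`; `uni` : `Uₙ(3)`, `n ≥ 3`; `sp` : `PSp₂ₘ(3)`; `odd` : `Ω₂ₘ₊₁(3)`; `minus` : `PΩ⁻₂ₘ(3)`;
* `g2` : `G₂(3)`.
-/

set_option autoImplicit false
set_option linter.unusedSectionVars false

namespace Cfsg.Agent.OddHalf.Quat.NoThreeOdd

open Subgroup NoThreeL

variable {K : Type*} [Group K]

/-- **`Lₙ(3)`, `n ≥ 3`** -/
theorem lin {F : Type*} [Field F] [Fintype F] (hF : Fintype.card F = 3) {n : ℕ} (hn : 3 ≤ n)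
    (hcen : center K = ⊥) (e : K ≃* Matrix.ProjectiveSpecialLinearGroup (Fin n) F) : NoThree K := by
  have : Finite K := Finite.of_equiv _ e.symm.toEquiv
  have : Fact (Nat.Prime 3) := ⟨Nat.prime_three⟩
  have h1 := Cfsg.Agent.S0813.result (F := F) 3 1 le_rfl (by rw [hF, pow_one]) n (by omega) (fun h => by omega)
  rw [if_neg (by omega), mul_one, Cfsg.Agent.S0265.result, card_SL, ← card_mulAut_congr e,
    ← Nat.card_congr e.toEquiv, ← mul_assoc] at h1
  refine noThree_of_card hcen ?_ h1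
  intro hd
  rcases (Nat.Prime.dvd_mul Nat.prime_three).mp hd with hd | hd
  · exact absurd hd (by norm_num)
  · -- `|Z(SL_n(3))|` divides `2`
    rw [Nat.card_congr (Matrix.SpecialLinearGroup.center_equiv_rootsOfUnity' (⟨0, by omega⟩ : Fin n)).toEquiv] at hd
    have h5 : Nat.card ↥(rootsOfUnity (Fintype.card (Fin n)) F) ∣ Nat.card Fˣ := Subgroup.card_subgroup_dvd_card _
    classical
    have h6 : Nat.card Fˣ = 2 := by rw [Nat.card_eq_fintype_card, Fintype.card_units, hF]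
    rw [h6] at h5
    exact absurd (hd.trans h5) (by norm_num)

/-- **`Uₙ(3)`, `n ≥ 3`** -/
theorem uni {F : Type*} [Field F] [Fintype F] (hF : Fintype.card F = 9) {n : ℕ} (hn : 3 ≤ n)
    (hcen : center K = ⊥) (e : K ≃* Cfsg.PSU n F 3) : NoThree K := by
  have : Finite K := Finite.of_equiv _ e.symm.toEquiv
  have : Fact (Nat.Prime 3) := ⟨Nat.prime_three⟩
  have h1 := Cfsg.Agent.S0815.result (F := F) 3 1 le_rfl (q := 3) (by norm_num) (by rw [hF]; norm_num) n hn
    (by rintro ⟨-, h⟩; omega)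
  rw [← card_mulAut_congr e, ← Nat.card_congr e.toEquiv] at h1
  refine noThree_of_card hcen ?_ h1
  intro hd
  have h2 : Nat.gcd n (3 + 1) * (2 * 1) ∣ 4 * 2 := Nat.mul_dvd_mul (Nat.gcd_dvd_right _ _) (by norm_num)
  exact absurd (hd.trans h2) (by norm_num)

/-- **`PSp₂ₘ(3)`, `m ≥ 2`** -/
theorem sp {F : Type*} [Field F] [Fintype F] (hF : Fintype.card F = 3) {m : ℕ} (hm : 2 ≤ m)
    (hcen : center K = ⊥) (e : K ≃* Cfsg.PSp m F) : NoThree K := by
  have : Finite (Matrix (Fin m ⊕ Fin m) (Fin m ⊕ Fin m) F) := inferInstance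
  have : Finite (Matrix.symplecticGroup (Fin m) F) := Subtype.finite
  have : Finite (Cfsg.PSp m F) := Quotient.finite _
  have : Finite K := Finite.of_equiv _ e.symm.toEquiv
  have : Fact (Nat.Prime 3) := ⟨Nat.prime_three⟩
  have h1 := Cfsg.Agent.S0814.result (F := F) 3 1 le_rfl (by rw [hF, pow_one]) m hm (fun _ => by norm_num)
  rw [← card_mulAut_congr e, ← Nat.card_congr e.toEquiv] at h1
  refine noThree_of_card hcen ?_ h1
  intro hd
  rcases (Nat.Prime.dvd_mul Nat.prime_three).mp hd with hd | hd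
  · rcases (Nat.Prime.dvd_mul Nat.prime_three).mp hd with hd | hd
    · split_ifs at hd <;> exact absurd hd (by norm_num)
    · exact absurd hd (by norm_num)
  · exact absurd hd (by norm_num)

/-- **`Ω₂ₘ₊₁(3)`, `m ≥ 3`** -/
theorem odd {F : Type*} [Field F] [Fintype F] (hF : Fintype.card F = 3) {m : ℕ} (hm : 3 ≤ m)
    (hcen : center K = ⊥) (e : K ≃* Cfsg.POmega F (Cfsg.quadFormOdd m F)) : NoThree K := by
  have : Finite K := Finite.of_equiv _ e.symm.toEquiv
  have : Fact (Nat.Prime 3) := ⟨Nat.prime_three⟩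
  have h1 := Cfsg.Agent.S0816.result (F := F) 3 1 le_rfl (by rw [hF, pow_one]) (by decide) m hm
  rw [← card_mulAut_congr e, ← Nat.card_congr e.toEquiv] at h1
  exact noThree_of_card hcen (m := 2 * 1) (by norm_num) h1

/-- **`PΩ⁻₂ₘ(3)`, `m ≥ 4`** -/
theorem minus {F : Type*} [Field F] [Fintype F] (hF : Fintype.card F = 3) {m : ℕ} (hm : 4 ≤ m) (a b : F)
    (hab : ∀ z₁ z₂ : F, z₁ ^ 2 + a * z₁ * z₂ + b * z₂ ^ 2 = 0 → z₁ = 0 ∧ z₂ = 0)
    (hcen : center K = ⊥) (e : K ≃* Cfsg.POmega F (Cfsg.quadFormMinus (m - 1) F a b)) : NoThree K := by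
  have : Finite K := Finite.of_equiv _ e.symm.toEquiv
  have : Fact (Nat.Prime 3) := ⟨Nat.prime_three⟩
  have h1 := Cfsg.Agent.S0818.result (F := F) 3 1 le_rfl (by rw [hF, pow_one]) m hm a b hab
  rw [if_neg (by norm_num), ← card_mulAut_congr e, ← Nat.card_congr e.toEquiv] at h1
  refine noThree_of_card hcen ?_ h1
  split_ifs <;> norm_num

/-! ### root group data with root groups of order 3 -/

section rgd

open CoxeterSystem Cfsg.Agent.ChevalleyStructure.CoxeterGeom Cfsg.Agent.Tits.Roots Cfsg.Agent.Tits.Core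
  Cfsg.Agent.Tits.Exchange Cfsg.Agent.Nodes.Reps Cfsg.Agent.Nodes.BNOf Cfsg.Agent.Nodes.StabComb
  Cfsg.Agent.Nodes.Bruhat Cfsg.Agent.Nodes.OppDec Cfsg.Agent.Nodes.LeviDec Cfsg.Agent.Nodes.NormalForm
  Cfsg.Agent.KFacts.RgdOpp Cfsg.Agent.KFacts.RgdAut Cfsg.Agent.KFacts.RgdDiag Cfsg.Agent.KFacts.RgdRigid
  Cfsg.Agent.KFacts.RgdEx NoThreeE

variable {I W Y : Type*} [Fintype I] [DecidableEq I] [Group W] [Group Y] {M : CoxeterMatrix I}
  {cs : CoxeterSystem M W} {A : I → I → ℤ} {h : IsCartan M A} {p : ℕ} {T : Subgroup Y} {n : I → Y}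
  {X : (I → ℤ) → Subgroup Y}

/-- `c` is an exponent of `Aut(X_{α_i})` -/
theorem exists_pow_inn (R : RGD cs h p T n X) [Finite W] [Finite Y] [Fact p.Prime]
    (hG1 : RGD.Sup X {x | IsRoot cs h x} = ⊤) {c : ℕ}
    (hcard : ∀ i, ∀ γ : MulAut Y, (∀ x, γ x ∈ X (sr i) ↔ x ∈ X (sr i)) → ∀ x ∈ X (sr i), (γ ^ c) x = x) {m : ℕ}
    (hM : ∀ σ : Equiv.Perm I, (∀ i j, M (σ i) (σ j) = M i j) → σ ^ m = 1) (α : MulAut Y) :
    α ^ (m * c) ∈ (MulAut.conj : Y →* MulAut Y).range := by
  have hG : GG cs h T X = ⊤ := GG_eq_top hG1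
  have hn := NoThreeL.normal_inn (K := Y)
  -- make `α` fix `U`
  obtain ⟨S, hS⟩ := exists_syl R hG
  obtain ⟨g, hg⟩ := MulAction.exists_smul_eq Y (α • S) S
  have hU : Fix (MulAut.conj g * α) (RGD.Sup X (RGD.Pos cs h)) := by
    rw [fix_iff, ← hS]
    have h1 := congrArg (fun P : Sylow p Y => (P : Subgroup Y)) hg
    have h2 : ((g • (α • S) : Sylow p Y) : Subgroup Y) =
        ((S : Subgroup Y)).map (MulAut.conj g * α).toMonoidHom := by
      ext x
      constructor
      · rintro ⟨_, ⟨y, hy, rfl⟩, rfl⟩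
        exact ⟨y, hy, rfl⟩
      · rintro ⟨y, hy, rfl⟩
        exact ⟨_, ⟨y, hy, rfl⟩, rfl⟩
    rw [← h2]; exact h1
  obtain ⟨u, hu, hU', -, hUN, -, -⟩ := exists_frame R hG hU
  obtain ⟨σ, D⟩ := exists_diag R hG hU' hUN
  set β := MulAut.conj u * (MulAut.conj g * α) with hβ
  have hσ : σ ^ m = 1 := hM σ fun i j => Diag.matrix R D i j
  have D' : Diag T X (β ^ m) 1 := by rw [← hσ]; exact D.pow m
  have D'' : Diag T X ((β ^ m) ^ c) 1 := by
    have := D'.pow c
    rwa [one_pow] at this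
  have h1 : (β ^ m) ^ c = 1 := by
    apply Diag.eq_one R hG1 D''
    intro i x hx
    exact hcard i (β ^ m) (fun x => D'.pos i x) x hx
  -- modulo inner automorphisms
  have h2 : ((α : MulAut Y) : MulAut Y ⧸ (MulAut.conj : Y →* MulAut Y).range) = (β : MulAut Y) := by
    have e1 : ∀ y : Y, ((MulAut.conj y : MulAut Y) : MulAut Y ⧸ (MulAut.conj : Y →* MulAut Y).range) = 1 :=
      fun y => (QuotientGroup.eq_one_iff _).2 (MonoidHom.mem_range.2 ⟨y, rfl⟩)
    rw [hβ, QuotientGroup.mk_mul, QuotientGroup.mk_mul, e1, e1, one_mul, one_mul]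
  rw [← QuotientGroup.eq_one_iff, QuotientGroup.mk_pow, h2, ← QuotientGroup.mk_pow, pow_mul, h1,
    QuotientGroup.mk_one]

end rgd

section chev

open Cfsg.Lie Cfsg.Agent.Nodes.RGDChev Cfsg.Agent.ChevalleyStructure Cfsg.Agent.ChevalleyStructure.Elts
  CoxeterSystem Cfsg.Agent.ChevalleyStructure.CoxeterGeom Cfsg.Agent.Tits.Roots Cfsg.Agent.Tits.Core
  Cfsg.Agent.Nodes.Reps Cfsg.Agent.KFacts.RgdEx NoThreeE

universe u

/-- an automorphism of a subset `{1, a, a²}` squares to the identity on it -/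
theorem sq_fix {Y : Type*} [Group Y] {a : Y} (ha : a * a * a = 1) {P : Y → Prop}
    (hP : ∀ x, P x → x = 1 ∨ x = a ∨ x = a * a) (γ : MulAut Y) (hγ : ∀ x, P (γ x) ↔ P x) :
    ∀ x, P x → (γ ^ 2) x = x := by
  intro x hx
  have hinv : a⁻¹ = a * a := (eq_inv_of_mul_eq_one_left ha).symm
  have hx3 : x * x * x = 1 := by
    rcases hP x hx with rfl | rfl | rfl
    · simp
    · exact ha
    · calc a * a * (a * a) * (a * a) = (a * a * a) * (a * a * a) := by group
        _ = 1 := by rw [ha, one_mul]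
  by_cases hx1 : x = 1
  · rw [hx1, map_one]
  have h2 : ∀ y, P y → y = 1 ∨ y = x ∨ y = x * x := by
    intro y hy
    rcases hP x hx with h | h | h
    · exact absurd h hx1
    · rw [h]; exact hP y hy
    · rcases hP y hy with h3 | h3 | h3
      · exact Or.inl h3
      · right; right
        rw [h, h3]
        calc a = (a * a * a) * a := by rw [ha, one_mul]
          _ = a * a * (a * a) := by group
      · right; left
        rw [h, h3]
  have h3 : γ x = x ∨ γ x = x * x := by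
    rcases h2 (γ x) ((hγ x).2 hx) with h | h | h
    · exact absurd (γ.injective (h.trans (map_one γ).symm)) hx1
    · exact Or.inl h
    · exact Or.inr h
  rw [pow_two, MulAut.mul_apply]
  rcases h3 with h | h
  · rw [h, h]
  · rw [h, map_mul, h]
    calc x * x * (x * x) = (x * x * x) * x := by group
      _ = x := by rw [hx3, one_mul]

variable {D : ChevalleyDatum} {l : ℕ} {M : CoxeterMatrix (Fin l)} {F : Type u} [Field F] [Fintype F]

/-- the Chevalley groups over the field with three elements -/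
theorem chev (hp : IsType D l M) (hF : Fintype.card F = 3)
    (hM : ∀ σ : Equiv.Perm (Fin l), (∀ i j, M (σ i) (σ j) = M i j) → σ ^ 2 = 1) : NoThree ↥(D.group F) := by
  have h3 : Fact (Nat.Prime 3) := ⟨Nat.prime_three⟩
  have hc : CharP F 3 := charP_of_card_eq_prime_pow (f := 1) (by rw [hF, pow_one])
  have hfin := finite_W hp M.toCoxeterSystem
  classical
  have h012 : ∀ t : F, t = 0 ∨ t = 1 ∨ t = 1 + 1 := by
    intro t
    by_contra hcon
    push Not at hcon
    have h12 : (1 : F) ≠ 1 + 1 := fun h => one_ne_zero (left_eq_add.mp h)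
    have h02 : (0 : F) ≠ 1 + 1 := by
      intro h
      have h5 : ((2 : ℕ) : F) = 0 := by rw [Nat.cast_two, ← one_add_one_eq_two]; exact h.symm
      have h6 := (CharP.cast_eq_zero_iff F 3 2).1 h5
      exact absurd h6 (by norm_num)
    have h4 : ({0, 1, 1 + 1, t} : Finset F).card = 4 := by
      rw [Finset.card_insert_of_notMem, Finset.card_insert_of_notMem, Finset.card_insert_of_notMem,
        Finset.card_singleton]
      · rw [Finset.mem_singleton]; exact fun h => hcon.2.2 h.symm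
      · rw [Finset.mem_insert, Finset.mem_singleton]
        push Not
        exact ⟨h12, fun h => hcon.2.1 h.symm⟩
      · rw [Finset.mem_insert, Finset.mem_insert, Finset.mem_singleton]
        push Not
        exact ⟨zero_ne_one, h02, fun h => hcon.1 h.symm⟩
    have h5 := Finset.card_le_univ ({0, 1, 1 + 1, t} : Finset F)
    omega
  refine noThree_of_pow (m := 2 * 2) (by norm_num) fun α =>
    exists_pow_inn (rgd (K := F) hp M.toCoxeterSystem 3) (G1_eq_top hp M.toCoxeterSystem) (c := 2) ?_ hM α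
  intro i γ hγ
  let a : ↥(D.group F) := ⟨xG hp.inList (D.simple i) 1, xG_mem_group hp.inList _ _⟩
  have ha : a * a * a = 1 := by
    apply Subtype.ext
    show xG hp.inList (D.simple i) (1 : F) * xG hp.inList (D.simple i) 1 * xG hp.inList (D.simple i) 1 = 1
    rw [xG_add, xG_add]
    have h5 : (1 : F) + 1 + 1 = 0 := by
      have h6 := (CharP.cast_eq_zero_iff F 3 3).2 dvd_rfl
      rw [← h6]
      push_cast
      norm_num
    rw [h5, xG_zero]
  refine sq_fix (a := a) ha (P := fun x => x ∈ (XV D l F (sr i)).subgroupOf (D.group F)) ?_ γ hγ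
  intro x hx
  have hx' : x ∈ (XV D l F (sr i)).subgroupOf (D.group F) := hx
  rw [Subgroup.mem_subgroupOf, XV_sr hp, mem_rootSubgroup_iff hp.inList] at hx'
  obtain ⟨t, ht⟩ := hx'
  rcases h012 t with rfl | rfl | rfl
  · left
    apply Subtype.ext
    rw [ht, xG_zero]
    rfl
  · right; left
    exact Subtype.ext ht
  · right; right
    apply Subtype.ext
    rw [ht, ← xG_add]
    rfl

theorem sym_G2 (σ : Equiv.Perm (Fin 2)) (_ : ∀ i j, CoxeterMatrix.G₂ (σ i) (σ j) = CoxeterMatrix.G₂ i j) :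
    σ ^ 2 = 1 := by
  have h : ∀ σ : Equiv.Perm (Fin 2), σ ^ 2 = 1 := by decide
  exact h σ

/-- **`G₂(3)`** -/
theorem g2 (hF : Fintype.card F = 3) {K : Type*} [Group K] (e : K ≃* ↥(chevG2.group F)) : NoThree K :=
  noThree_of_equiv e (chev (M := CoxeterMatrix.G₂) (by simp [IsType, typeList]) hF fun σ hσ => sym_G2 σ hσ)

end chev

end Cfsg.Agent.OddHalf.Quat.NoThreeOdd

end

-- merged: Cfsg.Agent.OddHalf.Quat.RowRee
section

/-!
# Node Q: simple groups with elementary abelian Sylow 2-subgroups of order 8; the Ree groups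

`kBig_eight` : `K` simple, `U` an elementary abelian Sylow 2-subgroup of `K` of order 8: `KBig U`.
`ree` : the row `²G₂(q)`.
-/

set_option autoImplicit false

namespace Cfsg.Agent.OddHalf.Quat.RowRee

open Subgroup Cfsg Cfsg.Agent.StdL2.G23Aut

/-- an automorphism of 2-power order which normalises `U` centralises `U` -/
theorem fix_of_two {K : Type*} [Group K] [Finite K] [IsSimpleGroup K] (hna : ∃ a b : K, a * b ≠ b * a)
    (U : Sylow 2 K) (h8 : Nat.card U = 8) (hsq : ∀ x ∈ U, x * x = 1) (α : MulAut K)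
    (hα : IsPGroup 2 (zpowers α)) (hU : ∀ u ∈ (U : Subgroup K), α u ∈ (U : Subgroup K)) :
    ∀ u ∈ (U : Subgroup K), α u = u := by
  have hfin : Finite (MulAut K) := Finite.of_injective (fun e : MulAut K => (e : K → K)) DFunLike.coe_injective
  have hcen : center K = ⊥ := by
    rcases (inferInstance : (center K).Normal).eq_bot_or_eq_top with h1 | h1
    · exact h1
    · exfalso
      obtain ⟨a, b, hab⟩ := hna
      exact hab (mem_center_iff.1 (by rw [h1]; trivial : b ∈ center K) a)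
  have hinj : Function.Injective (MulAut.conj (G := K)) := by
    rw [injective_iff_map_eq_one]
    intro x hx
    have h1 : x ∈ center K := by
      rw [mem_center_iff]
      intro y
      have h2 := DFunLike.congr_fun hx y
      rw [MulAut.conj_apply, MulAut.one_apply, mul_inv_eq_iff_eq_mul] at h2
      exact h2.symm
    rwa [hcen, mem_bot] at h1
  have hconj : ∀ (φ : MulAut K) (x : K), φ * MulAut.conj x * φ⁻¹ = MulAut.conj (φ x) := by
    intro φ x
    ext y
    simp [MulAut.mul_apply, MulAut.conj_apply]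
  let I : Subgroup (MulAut K) := (MulAut.conj : K →* MulAut K).range
  let V : Subgroup (MulAut K) := (U : Subgroup K).map MulAut.conj
  let e : K ≃* I := MonoidHom.ofInjective hinj
  have hVI : V ≤ I := by
    rintro _ ⟨u, -, rfl⟩
    exact ⟨u, rfl⟩
  have hI : I.Normal := by
    refine ⟨?_⟩
    rintro _ ⟨m, rfl⟩ g
    exact ⟨g m, (hconj g m).symm⟩
  have L : EightTorus.Auto.Loc I V (1 : MulAut K) := by
    refine ⟨?_, ?_, hVI, ?_, ⟨?_, ?_⟩, fun x _ => by rw [mul_one, one_mul], fun g _ => ?_⟩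
    · haveI : Nontrivial I := e.symm.toEquiv.nontrivial
      exact IsSimpleGroup.isSimpleGroup_of_surjective e.toMonoidHom e.surjective
    · obtain ⟨a, b, hab⟩ := hna
      refine ⟨MulAut.conj a, ⟨a, rfl⟩, MulAut.conj b, ⟨b, rfl⟩, fun h => hab (hinj ?_)⟩
      rw [map_mul, map_mul, h]
    · have h1 : V.relIndex I = (U : Subgroup K).index := by
        have h2 : I = (⊤ : Subgroup K).map MulAut.conj := by
          rw [← MonoidHom.range_eq_map]
        rw [h2, relIndex_map_map_of_injective _ _ hinj, relIndex_top_right]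
      rw [h1]
      exact U.not_dvd_index
    · rw [card_map_of_injective hinj]
      exact h8
    · rintro _ ⟨u, hu, rfl⟩
      rw [← map_mul, hsq u hu, map_one]
    · rw [normalizer_eq_top]
      trivial
  obtain ⟨d, -, -, -, hP⟩ := L.main
  have hUn : ∀ n : ℕ, ∀ u ∈ (U : Subgroup K), (α ^ n) u ∈ (U : Subgroup K) := by
    intro n
    induction n with
    | zero => intro u hu; simpa using hu
    | succ n ih =>
      intro u hu
      rw [pow_succ, MulAut.mul_apply]
      exact ih _ (hU u hu)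
  have hz : zpowers α ≤ normalizer (V : Set (MulAut K)) := by
    rw [zpowers_le]
    have h1 : ∀ β ∈ zpowers α, ∀ v ∈ V, β * v * β⁻¹ ∈ V := by
      intro β hβ
      obtain ⟨n, rfl⟩ := (mem_powers_iff_mem_zpowers (x := α) (y := β)).2 hβ
      rintro _ ⟨u, hu, rfl⟩
      exact ⟨(α ^ n) u, hUn n u hu, (hconj (α ^ n) u).symm⟩
    rw [mem_normalizer_iff]
    intro x
    refine ⟨h1 α (mem_zpowers α) x, fun hx => ?_⟩
    have h2 := h1 α⁻¹ (inv_mem (mem_zpowers α)) _ hx
    have h3 : α⁻¹ * (α * x * α⁻¹) * α⁻¹⁻¹ = x := by group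
    rwa [h3] at h2
  intro u hu
  have h1 := hP (zpowers α) hα (fun x _ => by rw [mul_one, one_mul]) hz α (mem_zpowers α) (MulAut.conj u)
    ⟨u, hu, rfl⟩
  apply hinj
  rw [← hconj, h1, mul_inv_cancel_right]

/-- **simple groups with elementary abelian Sylow 2-subgroups of order 8** -/
theorem kBig_eight {K : Type*} [Group K] [Finite K] [IsSimpleGroup K] (hna : ∃ a b : K, a * b ≠ b * a)
    (U : Sylow 2 K) (h8 : Nat.card U = 8) (hsq : ∀ x ∈ U, x * x = 1) : KBig (U : Subgroup K) := by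
  have hab : ∀ x ∈ (U : Subgroup K), ∀ y ∈ (U : Subgroup K), x * y = y * x := by
    intro x hx y hy
    have h1 := hsq x hx
    have h2 := hsq y hy
    have h3 := hsq (x * y) (mul_mem hx hy)
    calc x * y = (x * y)⁻¹ := eq_inv_of_mul_eq_one_left h3
      _ = y⁻¹ * x⁻¹ := mul_inv_rev x y
      _ = y * x := by rw [← eq_inv_of_mul_eq_one_left h1, ← eq_inv_of_mul_eq_one_left h2]
  refine ⟨?_, ?_⟩
  · intro w hw hw1
    by_contra hcon
    push Not at hcon
    apply hw1
    refine EightTorus.Auto.fixed_eq_one hna U hab hw.1 hw.2.1 fun n hn => ?_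
    rw [hcon n hn, mul_inv_cancel_right]
  · intro α hα hU ⟨x, hx, hxα⟩
    exact absurd (fix_of_two hna U h8 hsq α hα hU x hx.1) hxα

/-- **Row `²G₂(q)`** -/
theorem ree {K : Type*} [Group K] (h : Lie.IsoRee K) : ∃ U : Sylow 2 K, KBig (U : Subgroup K) := by
  obtain ⟨F, _, _, m, hm, hF, ⟨e⟩⟩ := h
  obtain ⟨a, haH, ha1, ha2⟩ := Cfsg.Agent.S1157.exists_involution hF
  obtain ⟨-, hS⟩ := Cfsg.Agent.S1152.result hF a haH ha1 ha2
  obtain ⟨Q⟩ : Nonempty (Sylow 2 ↥(Cfsg.Lie.twistedG2 F (3 ^ m))) := inferInstance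
  have h1 := Cfsg.Agent.S1073.result hm hF
  have := h1.1
  refine exists_kbig_of_equiv e.symm ⟨Q, kBig_eight ?_ Q (hS Q).1 (hS Q).2⟩
  by_contra hcon
  push Not at hcon
  exact h1.2 ⟨⟨hcon⟩⟩

end Cfsg.Agent.OddHalf.Quat.RowRee

end

-- merged: Cfsg.Agent.OddHalf.Quat.KZ
section

/-!
# Node Q: the fact `KZ` for `L₂(q)`, `q` an odd cube

`kz (R : Cfsg.Agent.GH.L2Aut.Rep F L) (hs : Nat.card F = s ^ 3) : KZ L`.
-/

set_option autoImplicit false

namespace Cfsg.Agent.OddHalf.Quat.KZ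

open Cfsg.Agent.GH.L2Aut Cfsg.Agent.Lib.SL2Mat Cfsg.Agent.Lib.AutSL2 Cfsg.Agent.Lib.AutSL2Out

/-! ### arithmetic -/

/-- `a² + a + 1` has a prime divisor `≥ 5` -/
theorem exists_prime {a : ℕ} (ha : 2 ≤ a) : ∃ r, r.Prime ∧ 5 ≤ r ∧ r ∣ a ^ 2 + a + 1 := by
  by_contra hcon
  push Not at hcon
  have h2 : ¬ 2 ∣ a ^ 2 + a + 1 := by
    intro h
    have h1 : (a ^ 2 + a + 1) % 2 = 1 := by
      rcases Nat.even_or_odd' a with ⟨k, rfl | rfl⟩ <;> ring_nf <;> omega
    omega
  have h9 : ¬ 9 ∣ a ^ 2 + a + 1 := by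
    intro h
    have h1 : (a ^ 2 + a + 1) % 9 = ((a % 9) ^ 2 + a % 9 + 1) % 9 := by
      simp [Nat.add_mod, Nat.pow_mod]
    have h3 : a % 9 < 9 := Nat.mod_lt _ (by norm_num)
    have h4 : (a ^ 2 + a + 1) % 9 = 0 := Nat.mod_eq_zero_of_dvd h
    rw [h1] at h4
    interval_cases (a % 9) <;> omega
  have h3 : ∀ p, p.Prime → p ∣ a ^ 2 + a + 1 → p = 3 := by
    intro p hp hd
    by_contra h3
    rcases Nat.lt_or_ge p 5 with h | h
    · have := hp.two_le
      interval_cases p
      · exact h2 hd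
      · exact h3 rfl
      · exact absurd hp (by norm_num)
    · exact hcon p hp h hd
  have hne : a ^ 2 + a + 1 ≠ 1 := by nlinarith
  have hpow : a ^ 2 + a + 1 = 3 ^ (a ^ 2 + a + 1).primeFactorsList.length := by
    apply Nat.eq_prime_pow_of_unique_prime_dvd (by omega)
    intro d hd hd2
    exact h3 d hd hd2
  generalize hk : (a ^ 2 + a + 1).primeFactorsList.length = k at hpow
  rcases k with _ | _ | k
  · exact hne (by rw [hpow]; norm_num)
  · have : a ^ 2 + a + 1 = 3 := by rw [hpow]; norm_num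
    nlinarith
  · apply h9
    rw [hpow]
    exact ⟨3 ^ k, by ring⟩

/-! ### no `Q₈` fixes the element -/

section

variable {F : Type*} [Field F] [Finite F]

/-- field automorphisms commute -/
theorem fieldAut_comm (σ τ : F ≃+* F) : σ * τ = τ * σ := by
  obtain ⟨g, hg⟩ := IsCyclic.exists_generator (α := Fˣ)
  have key : ∀ σ : F ≃+* F, ∃ m : ℤ, ∀ u : Fˣ, σ u = ((u ^ m : Fˣ) : F) := by
    intro σ
    obtain ⟨m, hm⟩ := Subgroup.mem_zpowers_iff.1 (hg (Units.map (σ : F →* F) g))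
    refine ⟨m, fun u => ?_⟩
    obtain ⟨k, rfl⟩ := Subgroup.mem_zpowers_iff.1 (hg u)
    have h1 : Units.map (σ : F →* F) (g ^ k) = (g ^ k) ^ m := by
      rw [map_zpow, ← hm, ← zpow_mul, ← zpow_mul, mul_comm]
    exact congrArg Units.val h1
  obtain ⟨m, hm⟩ := key σ
  apply RingEquiv.ext
  intro x
  change σ (τ x) = τ (σ x)
  by_cases hx : x = 0
  · rw [hx, map_zero, map_zero, map_zero]
  obtain ⟨u, rfl⟩ : ∃ u : Fˣ, (u : F) = x := ⟨Units.mk0 x hx, rfl⟩
  have h1 : τ (u : F) = (Units.map (τ : F →* F) u : Fˣ) := rfl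
  rw [h1, hm, hm]
  have h2 : Units.map (τ : F →* F) (u ^ m) = (Units.map (τ : F →* F) u) ^ m := map_zpow _ _ _
  rw [← h2]
  rfl

theorem q8_sq (u : QuaternionGroup 2) : u * u = 1 ∨ u * u = QuaternionGroup.a 2 := by
  revert u; decide

variable {L : Type*} [Group L] (R : Cfsg.Agent.GH.L2Aut.Rep F L)

local notation "SL2" => Matrix.SpecialLinearGroup (Fin 2) F
local notation "M2" => Matrix (Fin 2) (Fin 2) F

theorem no_q8 {t : SL2} (hn : ∀ c : F, t.1 ≠ c • (1 : M2)) (htr : t.1.trace ≠ 0)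
    (hσ : ∀ σ : F ≃+* F, σ * σ = 1 → σ ≠ 1 → σ t.1.trace ≠ t.1.trace ∧ σ t.1.trace ≠ -t.1.trace)
    (Q : Subgroup (MulAut L)) (hQ : ∀ α ∈ Q, α (R.π t) = R.π t) : ¬ Nonempty (Q ≃* QuaternionGroup 2) := by
  rintro ⟨e⟩
  let φ : QuaternionGroup 2 →* (F ≃+* F) := (R.fld.comp Q.subtype).comp e.symm.toMonoidHom
  have h2 : φ (QuaternionGroup.a 2) = 1 := by
    have e1 : (QuaternionGroup.a 2 : QuaternionGroup 2) * QuaternionGroup.xa 1 =
        QuaternionGroup.a 1 * QuaternionGroup.xa 0 := by decide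
    have e2 : (QuaternionGroup.xa 0 : QuaternionGroup 2) * QuaternionGroup.a 1 = QuaternionGroup.xa 1 := by decide
    have e3 := congrArg φ e1
    rw [map_mul, map_mul, fieldAut_comm (φ (QuaternionGroup.a 1)), ← map_mul φ (QuaternionGroup.xa 0), e2] at e3
    exact mul_eq_right.1 e3
  have hsq : ∀ α ∈ Q, R.fld α * R.fld α = 1 := by
    intro α hα
    have e1 : R.fld α = φ (e ⟨α, hα⟩) := by
      change _ = R.fld ((e.symm (e ⟨α, hα⟩) : Q) : MulAut L)
      rw [MulEquiv.symm_apply_apply]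
    rw [e1, ← map_mul]
    rcases q8_sq (e ⟨α, hα⟩) with h | h <;> rw [h]
    · exact map_one _
    · exact h2
  have hPGL : ∀ α ∈ Q, ∃ g : GL (Fin 2) F, α = R.gl g := by
    intro α hα
    rw [← R.mem_PGL, R.mem_PGL_iff_fld]
    by_contra h1
    obtain ⟨h3, h4⟩ := hσ _ (hsq α hα) h1
    obtain ⟨g, hg⟩ := R.exists_eq α
    have h5 := hQ α hα
    rw [hg, MulAut.mul_apply, R.fa_apply, R.gl_apply, R.π_eq_iff] at h5
    have h6 : Cfsg.Agent.Lib.PSL2Inv.tr (conjGL g (fieldAut (R.fld α) t)) = R.fld α t.1.trace := by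
      rw [Cfsg.Agent.Lib.PSL2Inv.tr_conjGL, Cfsg.Agent.Lib.PSL2Inv.tr_fieldAut, Cfsg.Agent.Lib.PSL2Inv.tr_eq]
    rcases h5 with h5 | h5
    · rw [h5, Cfsg.Agent.Lib.PSL2Inv.tr_eq] at h6
      exact h3 h6.symm
    · rw [h5, Cfsg.Agent.Lib.PSL2Inv.tr_eq] at h6
      apply h4
      rw [← h6]
      change (-t.1).trace = _
      rw [Matrix.trace_neg]
  have hc : ∀ g : GL (Fin 2) F, R.gl g (R.π t) = R.π t → t.1 * g.1 = g.1 * t.1 := by
    intro g hg
    have h1 : R.gl g * R.gl (Matrix.SpecialLinearGroup.toGL t) = R.gl (Matrix.SpecialLinearGroup.toGL t) * R.gl g := by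
      rw [← R.conj_π]
      apply MulEquiv.ext
      intro y
      rw [MulAut.mul_apply, MulAut.mul_apply, MulAut.conj_apply, MulAut.conj_apply, map_mul, map_mul, map_inv, hg]
    rcases R.comm_cases h1 with h2 | h2
    · exact h2.symm
    · exfalso
      apply htr
      refine tr_of_anticomm R.two (g := g) (h := Matrix.SpecialLinearGroup.toGL t) ?_
      rw [h2, neg_neg]
  have hcomm : ∀ α ∈ Q, ∀ β ∈ Q, α * β = β * α := by
    intro α hα β hβ
    obtain ⟨g, rfl⟩ := hPGL α hα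
    obtain ⟨h, rfl⟩ := hPGL β hβ
    obtain ⟨a, b, h1⟩ := exists_ab hn (hc g (hQ _ hα))
    obtain ⟨a', b', h2⟩ := exists_ab hn (hc h (hQ _ hβ))
    rw [← map_mul, ← map_mul]
    congr 1
    apply Units.ext
    rw [Units.val_mul, Units.val_mul, h1, h2]
    simp only [Matrix.add_mul, Matrix.mul_add, Matrix.smul_mul, Matrix.mul_smul, Matrix.one_mul, Matrix.mul_one]
    module
  have h3 := hcomm _ (e.symm (QuaternionGroup.a 1)).2 _ (e.symm (QuaternionGroup.xa 0)).2
  have h4 : e.symm (QuaternionGroup.a 1) * e.symm (QuaternionGroup.xa 0) =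
      e.symm (QuaternionGroup.xa 0) * e.symm (QuaternionGroup.a 1) := Subtype.ext h3
  rw [← map_mul, ← map_mul] at h4
  exact absurd (e.symm.injective h4) (by decide)

/-! ### elements of the torus -/

/-- the action of field involutions on `λ + λ⁻¹` -/
theorem hsig {l : Fˣ} (hl : Odd (orderOf l))
    (h1 : ∀ q : ℕ, q ^ 2 = Nat.card F → ¬ orderOf l ∣ q - 1 ∧ ¬ orderOf l ∣ q + 1) (σ : F ≃+* F)
    (h2 : σ * σ = 1) (h3 : σ ≠ 1) :
    σ ((l : F) + (l : F)⁻¹) ≠ (l : F) + (l : F)⁻¹ ∧ σ ((l : F) + (l : F)⁻¹) ≠ -((l : F) + (l : F)⁻¹) := by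
  classical
  obtain ⟨K, hK, hcard⟩ := exists_fixed_field σ
  have hord : orderOf σ = 2 := orderOf_eq_prime (by rw [pow_two]; exact h2) h3
  rw [hord] at hcard
  obtain ⟨h4, h5⟩ := h1 _ hcard.symm
  have := Fintype.ofFinite K
  have hl0 : (l : F) ≠ 0 := l.ne_zero
  have hl1 : (l : F) * (l : F)⁻¹ = 1 := mul_inv_cancel₀ hl0
  have hs0 : σ (l : F) ≠ 0 := by rwa [Ne, map_eq_zero_iff σ σ.injective]
  have hs1 : σ (l : F) * (σ (l : F))⁻¹ = 1 := mul_inv_cancel₀ hs0
  have hq1 : 1 ≤ Nat.card K := Nat.card_pos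
  -- `l²` cannot be fixed by a power map
  have k1 : ∀ a : F, a = (l : F) ^ 2 → a ^ (Nat.card K - 1) ≠ 1 := by
    intro a ha h
    apply h4
    have e : l ^ (2 * (Nat.card K - 1)) = 1 := by
      apply Units.ext
      rw [Units.val_pow_eq_pow_val, pow_mul, ← ha, h, Units.val_one]
    have e2 := orderOf_dvd_of_pow_eq_one e
    exact (Nat.Coprime.dvd_of_dvd_mul_left (Nat.Coprime.symm (Nat.coprime_two_left.2 hl)) e2)
  have k2 : ∀ a : F, a = (l : F) ^ 2 → a ^ (Nat.card K + 1) ≠ 1 := by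
    intro a ha h
    apply h5
    have e : l ^ (2 * (Nat.card K + 1)) = 1 := by
      apply Units.ext
      rw [Units.val_pow_eq_pow_val, pow_mul, ← ha, h, Units.val_one]
    have e2 := orderOf_dvd_of_pow_eq_one e
    exact (Nat.Coprime.dvd_of_dvd_mul_left (Nat.Coprime.symm (Nat.coprime_two_left.2 hl)) e2)
  have key : σ (l : F) ^ 2 ≠ (l : F) ^ 2 ∧ σ (l : F) ^ 2 * (l : F) ^ 2 ≠ 1 := by
    constructor
    · intro h
      have hm : (l : F) ^ 2 ∈ K := by
        rw [hK, map_pow]; exact h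
      apply k1 _ rfl
      have e1 := FiniteField.pow_card_sub_one_eq_one (⟨(l : F) ^ 2, hm⟩ : K) (by
        intro h0
        have := congrArg Subtype.val h0
        exact hl0 (pow_eq_zero_iff (two_ne_zero) |>.1 this))
      rw [Nat.card_eq_fintype_card]
      exact congrArg Subtype.val e1
    · intro h
      set a : F := (l : F) ^ 2 with ha
      have ha0 : a ≠ 0 := pow_ne_zero _ hl0
      have haa : a * a⁻¹ = 1 := mul_inv_cancel₀ ha0
      have hσa : σ a = a⁻¹ := by
        rw [ha, map_pow]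
        exact eq_inv_of_mul_eq_one_left h
      have hb : a + a⁻¹ ∈ K := by
        rw [hK, map_add, map_inv₀, hσa, inv_inv, add_comm]
      have e1 : (a + a⁻¹) ^ Nat.card K = a + a⁻¹ := by
        have e2 := FiniteField.pow_card (⟨a + a⁻¹, hb⟩ : K)
        rw [Nat.card_eq_fintype_card]
        exact congrArg Subtype.val e2
      have e2 : (a + a⁻¹) ^ Nat.card K = a ^ Nat.card K + (a⁻¹) ^ Nat.card K := by
        have e3 := map_add (FiniteField.frobeniusAlgHom K F) a a⁻¹
        rw [Nat.card_eq_fintype_card]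
        exact e3
      rw [e2, inv_pow] at e1
      have hp0 : a ^ Nat.card K ≠ 0 := pow_ne_zero _ ha0
      have hpp : a ^ Nat.card K * (a ^ Nat.card K)⁻¹ = 1 := mul_inv_cancel₀ hp0
      have e3 : (a ^ Nat.card K - a) * (a ^ Nat.card K - a⁻¹) = 0 := by
        linear_combination (a ^ Nat.card K) * e1 - hpp + haa
      rcases mul_eq_zero.1 e3 with e4 | e4
      · apply k1 _ ha
        have e5 : a ^ Nat.card K = a := sub_eq_zero.1 e4
        have e6 : a ^ (Nat.card K - 1) * a = 1 * a := by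
          rw [← pow_succ, Nat.sub_add_cancel hq1, e5, one_mul]
        exact mul_right_cancel₀ ha0 e6
      · apply k2 _ ha
        rw [pow_succ, sub_eq_zero.1 e4, inv_mul_cancel₀ ha0]
  obtain ⟨k3, k4⟩ := key
  rw [map_add, map_inv₀]
  constructor
  · intro h
    have e : (σ (l : F) - l) * (σ (l : F) - (l : F)⁻¹) = 0 := by
      linear_combination (σ (l : F)) * h - hs1 + hl1
    rcases mul_eq_zero.1 e with e | e
    · exact k3 (by rw [sub_eq_zero.1 e])
    · exact k4 (by rw [sub_eq_zero.1 e, ← mul_pow, inv_mul_cancel₀ hl0, one_pow])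
  · intro h
    have e : (σ (l : F) + l) * (σ (l : F) + (l : F)⁻¹) = 0 := by
      linear_combination (σ (l : F)) * h - hs1 + hl1
    rcases mul_eq_zero.1 e with e | e
    · exact k3 (by rw [eq_neg_of_add_eq_zero_left e, neg_sq])
    · exact k4 (by rw [eq_neg_of_add_eq_zero_left e, neg_sq, ← mul_pow, inv_mul_cancel₀ hl0, one_pow])

omit [Finite F] in
/-- elements of odd order `≠ 1` of `SL(2,F)` are not scalar and have nonzero trace -/
theorem odd_facts (h2 : (2 : F) ≠ 0) {t : SL2} {r : ℕ} (hr : Odd r) (ht : t ^ r = 1) (ht1 : t ≠ 1) :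
    (∀ c : F, t.1 ≠ c • (1 : M2)) ∧ t.1.trace ≠ 0 := by
  have ho : Odd (orderOf t) := hr.of_dvd_nat (orderOf_dvd_of_pow_eq_one ht)
  constructor
  · intro c hc
    have h3 : t ∈ Subgroup.center SL2 := by
      rw [Subgroup.mem_center_iff]
      intro y
      apply Subtype.ext
      change y.1 * t.1 = t.1 * y.1
      rw [hc, Matrix.mul_smul, Matrix.smul_mul, Matrix.mul_one, Matrix.one_mul]
    rcases (mem_center_iff h2 t).1 h3 with h | h
    · exact ht1 h
    · apply ht1
      have h4 : orderOf t ∣ 2 := orderOf_dvd_of_pow_eq_one (by rw [h, pow_two, neg_mul_neg, mul_one])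
      have h5 : orderOf t = 1 := by
        rcases (Nat.dvd_prime Nat.prime_two).1 h4 with h5 | h5
        · exact h5
        · rw [h5] at ho; exact absurd ho (by decide)
      exact orderOf_eq_one_iff.1 h5
  · intro h
    have h3 := cayley t.1
    have hd : t.1.det = 1 := t.2
    rw [h, zero_smul, zero_sub, hd, one_smul] at h3
    have h4 : t * t = -1 := Subtype.ext h3
    have h5 : t ^ 4 = 1 := by
      calc t ^ 4 = (t * t) * (t * t) := by rw [← pow_two, ← pow_two, ← pow_mul]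
        _ = 1 := by rw [h4, neg_mul_neg, mul_one]
    have h6 : orderOf t ∣ 2 ^ 2 := orderOf_dvd_of_pow_eq_one h5
    have h7 : orderOf t = 1 := Nat.eq_one_of_dvd_coprimes (Nat.Coprime.pow_right 2 ho.coprime_two_right)
      dvd_rfl h6
    exact ht1 (orderOf_eq_one_iff.1 h7)

omit [Finite F] in
theorem dg_pow (b : F) (hb : b ≠ 0) (n : ℕ) : dg b hb ^ n = dg (b ^ n) (pow_ne_zero n hb) := by
  induction n with
  | zero => apply ext_ent <;> simp
  | succ n ih =>
    rw [pow_succ, ih]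
    apply ext_ent <;> simp [ent_mul, pow_succ]
    field_simp

/-- **the split torus**: an element commuting with `i` -/
theorem exists_split (R : Cfsg.Agent.GH.L2Aut.Rep F L) {i : SL2} (hi : i.1 * i.1 = -1) {u : F} (hu : u * u = -1)
    (l : Fˣ) (hl1 : l ≠ 1) : ∃ t : SL2, t * i = i * t ∧ t ^ orderOf l = 1 ∧ t ≠ 1 ∧ t.1.trace = (l : F) + (l : F)⁻¹ := by
  have hu0 : u ≠ 0 := by
    rintro rfl
    rw [mul_zero, eq_comm, neg_eq_zero] at hu
    exact one_ne_zero hu
  have hu2 : u⁻¹ = -u := inv_eq_of_mul_eq_one_right (by rw [mul_neg, hu, neg_neg])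
  set w : SL2 := dg u hu0 with hw
  have hww : w * w = -1 := by
    have n00 : ent (-1 : SL2) 0 0 = -1 := by simp [ent]
    have n01 : ent (-1 : SL2) 0 1 = 0 := by simp [ent]
    have n10 : ent (-1 : SL2) 1 0 = 0 := by simp [ent]
    have n11 : ent (-1 : SL2) 1 1 = -1 := by simp [ent]
    apply ext_ent
    · rw [ent_mul, hw, n00, dg_00, dg_01, hu, zero_mul, add_zero]
    · rw [ent_mul, hw, n01, dg_01, zero_mul, mul_zero, add_zero]
    · rw [ent_mul, hw, n10, dg_10, zero_mul, mul_zero, add_zero]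
    · rw [ent_mul, hw, n11, dg_10, dg_11, hu2, neg_mul_neg, hu, zero_mul, zero_add]
  have hpi : ∀ y : SL2, y * y = -1 → R.π y * R.π y = 1 ∧ R.π y ≠ 1 := by
    intro y hy
    constructor
    · rw [← map_mul, hy, R.ker]; exact Or.inr rfl
    · intro h
      have h3 : y * y = 1 := by
        rcases (R.ker y).1 h with h | h <;> rw [h]
        · rw [mul_one]
        · rw [neg_mul_neg, mul_one]
      exact R.neg_one_ne_one (hy.symm.trans h3)
  obtain ⟨h1, h2⟩ := hpi w hww
  obtain ⟨h3, h4⟩ := hpi i (Subtype.ext hi)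
  obtain ⟨g, hg⟩ := R.inv_conj h1 h2 h3 h4
  obtain ⟨s, rfl⟩ := R.surj g
  rw [← map_inv, ← map_mul, ← map_mul, R.π_eq_iff] at hg
  set d : SL2 := dg (l : F) l.ne_zero with hd
  have hdw : d * w = w * d := by
    apply ext_ent <;> rw [ent_mul, ent_mul, hd, hw] <;> simp [mul_comm]
  refine ⟨s * d * s⁻¹, ?_, ?_, ?_, ?_⟩
  · have e : (s * d * s⁻¹) * (s * w * s⁻¹) = (s * w * s⁻¹) * (s * d * s⁻¹) := by
      calc (s * d * s⁻¹) * (s * w * s⁻¹) = s * (d * w) * s⁻¹ := by group
        _ = s * (w * d) * s⁻¹ := by rw [hdw]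
        _ = _ := by group
    rcases hg with hg | hg
    · rwa [hg] at e
    · rw [hg, mul_neg, neg_mul, neg_inj] at e
      exact e
  · rw [conj_pow, hd, dg_pow]
    have : (l : F) ^ orderOf l = 1 := by
      rw [← Units.val_pow_eq_pow_val, pow_orderOf_eq_one, Units.val_one]
    have e : dg ((l : F) ^ orderOf l) (pow_ne_zero _ l.ne_zero) = 1 := by
      apply ext_ent <;> simp [this]
    rw [e, mul_one, mul_inv_cancel]
  · intro h
    have h5 : d = 1 := by
      calc d = s⁻¹ * (s * d * s⁻¹) * s := by group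
        _ = 1 := by rw [h]; group
    apply hl1
    apply Units.ext
    have := congrArg (fun x => ent x 0 0) h5
    exact this
  · have h5 : (s * d * s⁻¹).1.trace = d.1.trace := by
      change (s.1 * d.1 * s⁻¹.1).trace = _
      rw [Matrix.trace_mul_comm, ← Matrix.mul_assoc]
      have h6 : s⁻¹.1 * s.1 = 1 := congrArg Subtype.val (inv_mul_cancel s)
      rw [h6, Matrix.one_mul]
    rw [h5, Matrix.trace_fin_two]
    rfl

omit [Finite F] in
theorem det_ab {i : SL2} (hi : i.1 * i.1 = -1) (a b : F) :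
    (a • (1 : M2) + b • i.1).det = a ^ 2 + b ^ 2 := by
  have h1 := tr_zero_of_sq hi
  have h2 : i.1.det = 1 := i.2
  rw [Matrix.trace_fin_two] at h1
  rw [Matrix.det_fin_two] at h2 ⊢
  simp
  linear_combination a * b * h1 + b ^ 2 * h2

/-- **the nonsplit torus** -/
theorem exists_nonsplit (hns : ¬ IsSquare (-1 : F)) {i : SL2} (hi : i.1 * i.1 = -1) {r : ℕ} (hr : r.Prime)
    (hr5 : 5 ≤ r) (hd : r ∣ Nat.card F + 1) : ∃ t : SL2, t * i = i * t ∧ t ^ r = 1 ∧ t ≠ 1 := by
  classical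
  have : Fact r.Prime := ⟨hr⟩
  have hq : 1 ≤ Nat.card F := Nat.card_pos
  have hsc : ∀ c : F, i.1 ≠ c • (1 : M2) := by
    intro c hc
    apply hns
    have h1 := congrFun (congrFun hi 0) 0
    rw [mat_mul, hc] at h1
    simp at h1
    exact ⟨c, h1.symm⟩
  let I : GL (Fin 2) F := Matrix.SpecialLinearGroup.toGL i
  let C : Subgroup (GL (Fin 2) F) := Subgroup.centralizer {I}
  have hne : ∀ p : F × F, p ≠ 0 → (p.1 • (1 : M2) + p.2 • i.1).det ≠ 0 := by
    rintro ⟨a, b⟩ hp h
    rw [det_ab hi] at h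
    by_cases hb : b = 0
    · apply hp
      have ha : a = 0 := by
        have h' : a ^ 2 = 0 := by rw [← h]; change a ^ 2 = a ^ 2 + b ^ 2; rw [hb]; ring
        exact pow_eq_zero_iff two_ne_zero |>.1 h'
      rw [ha, hb]; rfl
    · apply hns
      refine ⟨a / b, ?_⟩
      change a ^ 2 + b ^ 2 = 0 at h
      field_simp
      linear_combination -h
  let f : {p : F × F // p ≠ 0} → C := fun p =>
    ⟨toGL' _ (hne p.1 p.2), by
      rw [Subgroup.mem_centralizer_singleton_iff]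
      apply Units.ext
      change (p.1.1 • (1 : M2) + p.1.2 • i.1) * i.1 = i.1 * (p.1.1 • (1 : M2) + p.1.2 • i.1)
      simp only [Matrix.add_mul, Matrix.mul_add, Matrix.smul_mul, Matrix.mul_smul, Matrix.one_mul, Matrix.mul_one]⟩
  have hf : Function.Bijective f := by
    constructor
    · intro p p' h
      have h1 : p.1.1 • (1 : M2) + p.1.2 • i.1 = p'.1.1 • (1 : M2) + p'.1.2 • i.1 :=
        congrArg (fun x : C => x.1.1) h
      have h2 : p.1.2 = p'.1.2 := by
        by_contra hne2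
        have h3 : p.1.2 - p'.1.2 ≠ 0 := sub_ne_zero.2 hne2
        apply hsc ((p'.1.1 - p.1.1) / (p.1.2 - p'.1.2))
        have h4 : (p.1.2 - p'.1.2) • i.1 = (p'.1.1 - p.1.1) • (1 : M2) := by
          rw [sub_smul, sub_smul, sub_eq_sub_iff_add_eq_add, add_comm (p.1.2 • i.1), h1]
        rw [div_eq_inv_mul, mul_smul, ← h4, smul_smul, inv_mul_cancel₀ h3, one_smul]
      rw [h2, add_left_inj] at h1
      have h3 := congrFun (congrFun h1 0) 0
      simp at h3
      exact Subtype.ext (Prod.ext h3 h2)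
    · rintro ⟨g, hg⟩
      rw [Subgroup.mem_centralizer_singleton_iff] at hg
      have h1 : i.1 * g.1 = g.1 * i.1 := (congrArg Units.val hg).symm
      obtain ⟨a, b, hab⟩ := exists_ab hsc h1
      refine ⟨⟨(a, b), ?_⟩, ?_⟩
      · intro h0
        have ha : a = 0 := congrArg Prod.fst h0
        have hb : b = 0 := congrArg Prod.snd h0
        rw [ha, hb, zero_smul, zero_smul, add_zero] at hab
        have := (Matrix.GeneralLinearGroup.det g).ne_zero
        change g.1.det ≠ 0 at this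
        rw [hab] at this
        exact this Matrix.det_zero
      · apply Subtype.ext
        apply Units.ext
        exact hab.symm
  have hcard : Nat.card C = Nat.card F ^ 2 - 1 := by
    rw [← Nat.card_congr (Equiv.ofBijective f hf)]
    have := Fintype.ofFinite F
    have h1 : Nat.card {p : F × F // p ≠ 0} = Fintype.card {p : F × F | p ≠ 0} := Nat.card_eq_fintype_card
    rw [h1, Set.card_ne_eq, Fintype.card_prod, Nat.card_eq_fintype_card, pow_two]
  have hdvd : r ∣ Nat.card C := by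
    rw [hcard]
    have e : Nat.card F ^ 2 - 1 = (Nat.card F + 1) * (Nat.card F - 1) := by
      rw [← Nat.sq_sub_sq, one_pow]
    rw [e]
    exact hd.mul_right _
  have : Finite C := Nat.finite_of_card_ne_zero (by
    intro h0
    rw [h0] at hcard
    have : 2 ≤ Nat.card F := Finite.one_lt_card
    have : 2 * 2 ≤ Nat.card F ^ 2 := by rw [pow_two]; exact Nat.mul_le_mul this this
    omega)
  obtain ⟨u, hu⟩ := exists_prime_orderOf_dvd_card' r hdvd
  have hur : (u : GL (Fin 2) F) ^ r = 1 := by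
    rw [← hu]
    exact congrArg Subtype.val (pow_orderOf_eq_one u)
  have hdet : Matrix.GeneralLinearGroup.det (u : GL (Fin 2) F) = 1 := by
    have h1 : (Matrix.GeneralLinearGroup.det (u : GL (Fin 2) F)) ^ r = 1 := by
      rw [← map_pow, hur, map_one]
    have h2 : orderOf (Matrix.GeneralLinearGroup.det (u : GL (Fin 2) F)) ∣ r := orderOf_dvd_of_pow_eq_one h1
    have := Fintype.ofFinite F
    have h3 : orderOf (Matrix.GeneralLinearGroup.det (u : GL (Fin 2) F)) ∣ Nat.card F - 1 := by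
      have := orderOf_dvd_card (x := Matrix.GeneralLinearGroup.det (u : GL (Fin 2) F))
      rwa [Fintype.card_units, ← Nat.card_eq_fintype_card] at this
    rcases (Nat.dvd_prime hr).1 h2 with h4 | h4
    · exact orderOf_eq_one_iff.1 h4
    · exfalso
      rw [h4] at h3
      have h5 : r ∣ 2 := by
        have e : Nat.card F + 1 = (Nat.card F - 1) + 2 := by omega
        rw [e] at hd
        exact (Nat.dvd_add_right h3).1 hd
      have := Nat.le_of_dvd (by norm_num) h5
      omega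
  have hdet' : u.1.1.det = 1 := congrArg Units.val hdet
  refine ⟨⟨u.1.1, hdet'⟩, ?_, ?_, ?_⟩
  · apply Subtype.ext
    have h1 := Subgroup.mem_centralizer_singleton_iff.1 u.2
    exact congrArg Units.val h1
  · apply Subtype.ext
    have h1 := congrArg Units.val hur
    rw [Units.val_pow_eq_pow_val] at h1
    exact (Matrix.SpecialLinearGroup.coe_pow (⟨u.1.1, hdet'⟩ : SL2) r).trans h1
  · intro h
    have h1 : u.1.1 = 1 := congrArg Subtype.val h
    have h2 : u = 1 := Subtype.ext (Units.ext h1)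
    rw [h2, orderOf_one] at hu
    exact hr.one_lt.ne hu

/-- `Fˣ` has elements of every order dividing `|F| - 1` -/
theorem exists_unit {r : ℕ} (h : r ∣ Nat.card F - 1) : ∃ l : Fˣ, orderOf l = r := by
  classical
  have := Fintype.ofFinite F
  have h2 : 2 ≤ Nat.card F := Finite.one_lt_card
  obtain ⟨g, hg⟩ := IsCyclic.exists_generator (α := Fˣ)
  have h3 : orderOf g = Nat.card F - 1 := by
    rw [orderOf_eq_card_of_forall_mem_zpowers hg, Nat.card_eq_fintype_card, Fintype.card_units,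
      Nat.card_eq_fintype_card]
  obtain ⟨k, hk⟩ := h
  have hk0 : k ≠ 0 := by rintro rfl; rw [mul_zero] at hk; omega
  refine ⟨g ^ k, ?_⟩
  rw [orderOf_pow_of_dvd hk0 (by rw [h3, hk]; exact Dvd.intro_left r rfl), h3, hk]
  exact Nat.mul_div_cancel _ (Nat.pos_of_ne_zero hk0)

theorem coprime_six {r : ℕ} (hr : r.Prime) (h5 : 5 ≤ r) : Nat.Coprime r 6 := by
  rw [Nat.Prime.coprime_iff_not_dvd hr]
  intro h
  have := Nat.le_of_dvd (by norm_num) h
  interval_cases r
  · omega
  · exact absurd hr (by norm_num)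

/-- the element of the split torus -/
theorem exists_l {s : ℕ} (hs : Nat.card F = s ^ 3) (hF : Odd (Nat.card F)) :
    ∃ l : Fˣ, Nat.Coprime (orderOf l) 6 ∧ l ≠ 1 ∧
      ∀ q : ℕ, q ^ 2 = Nat.card F → ¬ orderOf l ∣ q - 1 ∧ ¬ orderOf l ∣ q + 1 := by
  have h2 : 2 ≤ Nat.card F := Finite.one_lt_card
  have hso : Odd s := by
    by_contra h
    rw [Nat.not_odd_iff_even] at h
    rw [hs] at hF
    exact (Nat.not_even_iff_odd.2 hF) (h.pow_of_ne_zero (by norm_num))
  have hs2 : s ≠ 1 := by rintro rfl; omega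
  obtain ⟨s', hs'⟩ := hso
  by_cases hsq : ∃ q, q ^ 2 = Nat.card F
  · obtain ⟨q, hq⟩ := hsq
    obtain ⟨c, hc1, hc2⟩ := Nat.exists_eq_pow_of_exponent_coprime_of_pow_eq_pow (a := s) (b := q)
      (m := 3) (n := 2) (by norm_num) (by rw [hq, hs])
    -- `s = c ^ 2`, `q = c ^ 3`
    have hc3 : 3 ≤ c := by
      rcases Nat.lt_or_ge c 3 with h | h
      · exfalso; interval_cases c <;> omega
      · exact h
    obtain ⟨d, rfl⟩ : ∃ d, c = d + 1 := ⟨c - 1, by omega⟩
    obtain ⟨r1, hr1, hr15, hr1d⟩ := exists_prime (a := d + 1) (by omega)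
    obtain ⟨r2, hr2, hr25, hr2d⟩ := exists_prime (a := d) (by omega)
    have e1 : r1 ∣ q - 1 := by
      apply hr1d.trans
      refine ⟨d, ?_⟩
      rw [hc2]
      apply Nat.sub_eq_of_eq_add
      ring
    have e2 : r2 ∣ q + 1 := by
      apply hr2d.trans
      refine ⟨d + 2, ?_⟩
      rw [hc2]; ring
    have hq1 : 1 ≤ q := by
      rw [hc2]; exact Nat.one_le_pow _ _ (by omega)
    have n1 : ¬ r1 ∣ q + 1 := by
      intro h
      have e : q + 1 = (q - 1) + 2 := by omega
      rw [e] at h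
      have := Nat.le_of_dvd (by norm_num) ((Nat.dvd_add_right e1).1 h)
      omega
    have n2 : ¬ r2 ∣ q - 1 := by
      intro h
      have e : q + 1 = (q - 1) + 2 := by omega
      rw [e] at e2
      have := Nat.le_of_dvd (by norm_num) ((Nat.dvd_add_right h).1 e2)
      omega
    have hcop : Nat.Coprime r1 r2 := by
      rw [Nat.coprime_primes hr1 hr2]
      rintro rfl
      exact n1 e2
    have hd : r1 * r2 ∣ Nat.card F - 1 := by
      have e : Nat.card F - 1 = (q - 1) * (q + 1) := by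
        rw [← hq, mul_comm, ← Nat.sq_sub_sq, one_pow]
      rw [e]
      exact Nat.mul_dvd_mul e1 e2
    obtain ⟨l, hl⟩ := exists_unit hd
    refine ⟨l, ?_, ?_, ?_⟩
    · rw [hl]; exact Nat.Coprime.mul_left (coprime_six hr1 hr15) (coprime_six hr2 hr25)
    · rintro rfl
      rw [orderOf_one] at hl
      have := Nat.le_of_dvd (by norm_num) (Dvd.intro r2 hl.symm)
      omega
    · intro q' hq'
      have : q' = q := Nat.pow_left_injective two_ne_zero (hq'.trans hq.symm)
      rw [this, hl]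
      exact ⟨fun h => n2 ((Nat.dvd_mul_left r2 r1).trans h), fun h => n1 ((Nat.dvd_mul_right r1 r2).trans h)⟩
  · obtain ⟨r, hr, hr5, hrd⟩ := exists_prime (a := s) (by omega)
    have e : r ∣ Nat.card F - 1 := by
      apply hrd.trans
      obtain ⟨d, rfl⟩ : ∃ d, s = d + 1 := ⟨s - 1, by omega⟩
      refine ⟨d, ?_⟩
      rw [hs]
      apply Nat.sub_eq_of_eq_add
      ring
    obtain ⟨l, hl⟩ := exists_unit e
    refine ⟨l, ?_, ?_, fun q hq => absurd ⟨q, hq⟩ hsq⟩
    · rw [hl]; exact coprime_six hr hr5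
    · rintro rfl
      rw [orderOf_one] at hl
      omega

/-- the fact `KZ` for `L₂(s³)`, `s` odd -/
theorem kz (R : Cfsg.Agent.GH.L2Aut.Rep F L) {s : ℕ} (hs : Nat.card F = s ^ 3) : KZ L := by
  classical
  intro z hz
  have hF : Odd (Nat.card F) := odd_card R.two
  have h2 : 2 ≤ Nat.card F := Finite.one_lt_card
  have hzz : z * z = 1 := by rw [← pow_two, ← hz, pow_orderOf_eq_one]
  have hz1 : z ≠ 1 := by rintro rfl; rw [orderOf_one] at hz; omega
  obtain ⟨i, rfl, hi⟩ := R.exists_inv_lift hzz hz1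
  suffices h : ∃ t : SL2, t * i = i * t ∧ ∃ r, Odd r ∧ Nat.Coprime r 6 ∧ t ^ r = 1 ∧ t ≠ 1 ∧
      ∀ σ : F ≃+* F, σ * σ = 1 → σ ≠ 1 → σ t.1.trace ≠ t.1.trace ∧ σ t.1.trace ≠ -t.1.trace by
    obtain ⟨t, ht, r, hr, hr6, htr, ht1, hσ⟩ := h
    obtain ⟨h3, h4⟩ := odd_facts R.two hr htr ht1
    refine ⟨R.π t, ?_, ?_, no_q8 R h3 h4 hσ⟩
    · rw [← map_mul, ht, map_mul]
    · exact Nat.Coprime.coprime_dvd_left (orderOf_dvd_of_pow_eq_one (by rw [← map_pow, htr, map_one])) hr6
  have hodd6 : ∀ r : ℕ, Nat.Coprime r 6 → Odd r := by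
    intro r hr
    have : Nat.Coprime r 2 := Nat.Coprime.coprime_dvd_right (by norm_num) hr
    exact Nat.coprime_two_right.1 this
  by_cases hsq : IsSquare (-1 : F)
  · obtain ⟨u, hu⟩ := hsq
    obtain ⟨l, hl6, hl1, hl⟩ := exists_l hs hF
    obtain ⟨t, ht, htr, ht1, htt⟩ := exists_split R hi hu.symm l hl1
    refine ⟨t, ht, orderOf l, hodd6 _ hl6, hl6, htr, ht1, fun σ h3 h4 => ?_⟩
    rw [htt]
    exact hsig (hodd6 _ hl6) hl σ h3 h4
  · -- `|F| ≡ 3 (mod 4)`
    have hs0 : 2 ≤ s := by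
      rcases Nat.lt_or_ge s 2 with h | h
      · exfalso; interval_cases s <;> omega
      · exact h
    have hs3 : s ≠ 2 := by
      rintro rfl
      rw [hs] at hF
      exact absurd hF (by decide)
    obtain ⟨d, rfl⟩ : ∃ d, s = d + 1 := ⟨s - 1, by omega⟩
    obtain ⟨r, hr, hr5, hrd⟩ := exists_prime (a := d) (by omega)
    have hd : r ∣ Nat.card F + 1 := by
      apply hrd.trans
      refine ⟨d + 2, ?_⟩
      rw [hs]; ring
    obtain ⟨t, ht, htr, ht1⟩ := exists_nonsplit hsq hi hr hr5 hd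
    refine ⟨t, ht, r, hodd6 _ (coprime_six hr hr5), coprime_six hr hr5, htr, ht1, fun σ h3 h4 => ?_⟩
    exfalso
    apply hsq
    obtain ⟨K, hK, hcard⟩ := exists_fixed_field σ
    have hord : orderOf σ = 2 := orderOf_eq_prime (by rw [pow_two]; exact h3) h4
    rw [hord] at hcard
    exact isSquare_of_mem R.two hcard even_two (K.neg_mem K.one_mem)

end

/-- the fact `KZ` for groups isomorphic to `PSL(2, F)`, `|F|` an odd cube -/
theorem kz_of_equiv {F : Type*} [Field F] [Fintype F] (hF : Odd (Fintype.card F)) {s : ℕ}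
    (hs : Fintype.card F = s ^ 3) {K : Type*} [Group K]
    (e : K ≃* Matrix.ProjectiveSpecialLinearGroup (Fin 2) F) : KZ K :=
  kz (Cfsg.Agent.GH.L2Aut.Rep.ofEquiv (Cfsg.Agent.GH.L2Aut.two_ne_zero_of_odd hF) e)
    (by rw [Nat.card_eq_fintype_card, hs])

end Cfsg.Agent.OddHalf.Quat.KZ

end

-- merged: Cfsg.Agent.OddHalf.Quat.GoodOdd
section

/-!
# Node Q: `K` of Lie type in odd characteristic, `Z(K) = 1`

`good_odd` : `KGood K`, from node NI (`NoBig`, `NI3.NoThree`), (F1_3) and the row `PΩ₈⁺(3)`.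
-/

set_option autoImplicit false

namespace Cfsg.Agent.OddHalf.Quat

open Subgroup Cfsg Cfsg.Agent.OddHalf.Iface Cfsg.Agent.OddHalf.LieOddFam

universe u

/-- the row `K = PΩ₈⁺(3)`, arbitrary centralizer -/
def RowO83 : Prop :=
  ∀ (G : Type u) [Group G], Ctx G → ∀ K : Subgroup G, Std0 G K → center ↥K = ⊥ →
    (∃ (F : Type) (_ : Field F) (_ : Fintype F), Fintype.card F = 3 ∧
      Nonempty (↥K ≃* POmega F (quadFormPlus 4 F))) → False

/-- `L₂(q)`, `q` odd -/
theorem good_l2 {X : Type*} [Group X] (hcen : center X = ⊥) {F : Type} [Field F] [Fintype F]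
    (hF : Odd (Fintype.card F)) (h5 : 5 ≤ Fintype.card F)
    (e : X ≃* Matrix.ProjectiveSpecialLinearGroup (Fin 2) F) : KGood X := by
  obtain ⟨p, hp⟩ := CharP.exists F
  have hpr : p.Prime := CharP.char_is_prime F p
  have : Fact p.Prime := ⟨hpr⟩
  obtain ⟨f, hf, hpf⟩ := card_pow (F := F) p
  by_cases h3 : 3 ∣ f
  · obtain ⟨k, rfl⟩ := h3
    right; right; right
    exact KZ.kz_of_equiv hF (s := p ^ k) (by rw [hpf, ← pow_mul, mul_comm]) e
  · left
    exact NoThreeL.two p f hf hpf (by omega) h3 hcen e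

/-- the small groups over the field with three elements -/
theorem good_small {X : Type*} [Group X] (hcen : center X = ⊥) (h : NI3.Small3 X)
    (h8 : ¬ ∃ (F : Type) (_ : Field F) (_ : Fintype F), Fintype.card F = 3 ∧
      Nonempty (X ≃* POmega F (quadFormPlus 4 F))) : NoThree X := by
  rcases h with ⟨F, _, _, hF, ⟨e⟩⟩ | ⟨F, _, _, hF, ⟨e⟩⟩ | ⟨F, _, _, hF, ⟨e⟩⟩ | ⟨F, _, _, hF, ⟨e⟩⟩ |
    ⟨F, _, _, hF, ⟨e⟩⟩ | ⟨F, _, _, hF, ⟨e⟩⟩ | ⟨F, _, _, hF, ⟨e⟩⟩ | h | ⟨F, _, _, b, c, hF, hbc, ⟨e⟩⟩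
  · exact NoThreeOdd.lin hF (by norm_num) hcen e
  · exact NoThreeOdd.uni hF (by norm_num) hcen e
  · exact NoThreeOdd.lin hF (by norm_num) hcen e
  · exact NoThreeOdd.uni hF (by norm_num) hcen e
  · exact NoThreeOdd.sp hF le_rfl hcen e
  · exact NoThreeOdd.g2 hF e
  · exact NoThreeOdd.odd hF le_rfl hcen e
  · exact absurd h h8
  · exact NoThreeOdd.minus (m := 4) hF le_rfl b c hbc hcen e

theorem good_odd (hB : NI.NoBig.{u}) (h3 : NI3.NoThree.{u}) (hF : NI3.F13.{u}) (h8 : RowO83.{u})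
    {G : Type u} [Group G] (C : Ctx G) {K : Subgroup G} (S : Std0 G K) (hz : center ↥K = ⊥)
    (hL : LieOdd ↥K) (ha : ¬ IsAlternating ↥K) : KGood ↥K := by
  rcases lieOdd_cases hL ha with h | h | h | ⟨q, hq, h⟩
  · obtain ⟨F, _, _, h7, ⟨e⟩⟩ := h
    exact good_l2 hz (by rw [h7]; decide) (by omega) e
  · obtain ⟨F, _, _, ho, h11, ⟨e⟩⟩ := h
    exact good_l2 hz ho (by omega) e
  · exact Or.inr (Or.inl (RowRee.ree h))
  · by_cases hq3 : q = 3
    · subst hq3
      exact Or.inl (good_small hz (NI3.Final.small_of_rk h3 hF C S hz h) fun h4 => h8 G C K S hz h4)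
    · exact (NI.Rows.d6_big hB C S hz hq (hq.ne_four hq3) h).elim

end Cfsg.Agent.OddHalf.Quat

end
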