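import Cfsg.Agent.OddHalf.Quat.Node
import Cfsg.Agent.OddHalf.Main
import Cfsg.Agent.OddHalf.D9.Cut
import Cfsg.Agent.OddHalf.D9.EEight.RowFinal
import Cfsg.Agent.OddHalf.Quat.NoThreeSpor.J2
import Cfsg.Agent.OddHalf.Table.OutSz8
import Mathlib.GroupTheory.SpecificGroups.Quaternion
import Cfsg.Agent.GH.Cov.SzCover
import Cfsg.Agent.OddHalf.D4.Cut
import Cfsg.Agent.OddHalf.Quat.NoThreeE
import Cfsg.Agent.OddHalf.Quat.NoThreeSpor.M12
import Cfsg.Agent.OddHalf.Quat.NoThreeSpor.M22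
import Cfsg.Agent.OddHalf.Quat.NoThreeSpor.Suz
import Cfsg.Agent.OddHalf.Quat.NoThreeSpor.Ru
import Cfsg.Agent.OddHalf.Quat.NoThreeSpor.Co1
import Cfsg.Agent.OddHalf.Quat.NotOne
import Cfsg.Agent.OddHalf.Quat.GoodAll
import Cfsg.Agent.OddHalf.Quat.GoodOdd
import Cfsg.Agent.OddHalf.D9.L34.RowAny
import Cfsg.Agent.OddHalf.D9.G24.Final

-- merged: Cfsg.Agent.OddHalf.Quat.Dquat
section

/-!
# Node Q: quaternion Sylow 2-subgroups of `C(K)`

`Iface.NodeQ` : if `K` is standard and `m₂(C(K)) ≤ 1` then `C(K)` has cyclic Sylow 2-subgroups (no maximality, any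
centre).

`nodeQ_of` : `NodeQ` from

* `NotOne` : `|Om(S)| = 1` does not occur (THEOREM N1);
* `Simple0` : the facts on `K`, `Z(K) = 1`;
* `Even0` : `Z(K) ≠ 1`, characteristic 2 or sporadic;
* the listed statements, `U2`, `D5cover`.
-/

set_option autoImplicit false
set_option linter.style.haveILetI false

namespace Cfsg.Agent.OddHalf.Quat

open Subgroup Cfsg Cfsg.Agent.Cit Cfsg.Agent.OddHalf.Iface

universe u

/-- `|Om(S)| = 1` does not occur -/
def NotOne : Prop :=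
  ∀ (G : Type u) [Group G] [Finite G] [IsSimpleGroup G], Ctx G → ∀ (z : G) (Q : Subgroup G), Base0 z Q → ¬ One (cls Q)

/-- the facts on `K`, `Z(K) = 1` -/
def Simple0 : Prop :=
  ∀ (G : Type u) [Group G], Ctx G → ∀ K : Subgroup G, Std0 G K → center ↥K = ⊥ → ¬ Listed K → KGood ↥K

/-- `Z(K) ≠ 1`, characteristic 2 or sporadic -/
def Even0 : Prop :=
  ∀ (G : Type u) [Group G] [Finite G] [IsSimpleGroup G], Ctx G → ∀ K : Subgroup G, Std0 G K → center ↥K ≠ ⊥ →
    LieTwo (↥K ⧸ center ↥K) ∨ IsSporadicGroup (↥K ⧸ center ↥K) → ¬ Listed K →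
    ∀ (z : G) (Q : Subgroup G), Frame z Q K → ¬ One (cls Q) → False

theorem nodeQ_of (hGW : SylowSp4.Hyps.GW.{u}) (Kn : Main.Known.{u}) (d5cover : D5cover.{u}) (u2 : U2.{u})
    (h0 : NotOne.{u}) (h1 : Simple0.{u}) (h2 : Even0.{u}) : NodeQ.{u} := by
  intro G _ C K S hr
  haveI := C.fin
  haveI := C.simple
  by_contra hc
  obtain ⟨z, Q, f⟩ := exists_frame hGW S C.bal (fun z J hz hJ => C.classical z J hz hJ) hr hc
  have hone := h0 G C z Q f.toBase0
  by_cases hl : Listed K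
  · exact ListedOut.listed_false Kn.rows Kn.forms C S hl
  by_cases hz : center ↥K = ⊥
  · exact f.false_good C.na hone hz (h1 G C K S hz hl)
  by_cases ha : IsAlternating (↥K ⧸ center ↥K)
  · exact Main.altCov_false Kn d5cover C S ha hz
  by_cases ho : LieOdd (↥K ⧸ center ↥K)
  · exact u2 G C K S ho hz ha
  rcases Known.classify S.quo_na S.known with h | h | h | h
  · exact ha h
  · exact ho h
  · exact h2 G C K S hz (Or.inl ⟨h, ha, ho⟩) hl z Q f hone
  · exact h2 G C K S hz (Or.inr h) hl z Q f hone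

end Cfsg.Agent.OddHalf.Quat

end

-- merged: Cfsg.Agent.OddHalf.Quat.EvenO8
section

/-!
# Node Q, even centre: `2.Ω₈⁺(2)`

`|Out(2.Ω₈⁺(2))| = 2`.
-/

set_option autoImplicit false

namespace Cfsg.Agent.OddHalf.Quat.EvenO8

open Subgroup Cfsg Cfsg.Agent.OddHalf.D9.EEight

universe u

/-- `W(E₈)'` -/
theorem noThree_K0 : NoThree ↥det.ker := by
  apply NoThree.of_two
  intro α β hα hβ
  obtain ⟨w, hw⟩ := RowFinal.autConj α
  obtain ⟨v, hv⟩ := RowFinal.autConj β
  have key : ∀ (γ : MulAut ↥det.ker) (u : W), (∀ k : ↥det.ker, ((γ k : ↥det.ker) : W) = u * (k : W) * u⁻¹) →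
      det u = 1 → ∃ x : ↥det.ker, γ = MulAut.conj x := by
    intro γ u hu h1
    refine ⟨⟨u, h1⟩, ?_⟩
    ext k
    rw [hu k]
    rfl
  have hdw : det w = -1 := by
    rcases Int.units_eq_one_or (det w) with h | h
    · obtain ⟨x, hx⟩ := key α w hw h
      exact absurd hx (hα x)
    · exact h
  have hdv : det v = -1 := by
    rcases Int.units_eq_one_or (det v) with h | h
    · obtain ⟨x, hx⟩ := key β v hv h
      exact absurd hx (hβ x)
    · exact h
  refine key (α * β) (w * v) (fun k => ?_) (by rw [map_mul, hdw, hdv]; rfl)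
  have h1 : ((α (β k) : ↥det.ker) : W) = w * ((β k : ↥det.ker) : W) * w⁻¹ := hw (β k)
  have h2 : ((β k : ↥det.ker) : W) = v * (k : W) * v⁻¹ := hv k
  rw [MulAut.mul_apply, h1, h2]
  group

/-- **`2.Ω₈⁺(2)`** -/
theorem noThree {K : Type u} [Group K] [Finite K] (hp : commutator K = ⊤)
    (h : D9.Cut.Two (fun X _ => D9.Cut.XO82 X) K) : NoThree K := by
  obtain ⟨e⟩ := RowFinal.ident K inferInstance hp h.1 h.2
  exact NoThree.congr e noThree_K0

end Cfsg.Agent.OddHalf.Quat.EvenO8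

end

-- merged: Cfsg.Agent.OddHalf.Quat.EvenSz
section

/-!
# Node Q, even centre: `Sz(q)`

* `no_quaternion` : `Sz(q)` has no subgroup isomorphic to `Q₈`;
* `odd_out` : `|Out(Sz(q))|` is odd.
-/

set_option autoImplicit false

namespace Cfsg.Agent.OddHalf.Quat.EvenSz

open Subgroup Cfsg.Agent.LieRecognition Cfsg.Agent.StdSz

variable {X : Type*} [Group X] {F : Type*} [Field F]

/-- elements of `T` with the same square differ by an element of square 1 -/
theorem sq_of_sq_eq (R : ThreePrime.SzRel.Rel X F) {x y : X} (hx : x ∈ R.T) (hy : y ∈ R.T) (h : x * x = y * y) (hx1 : x * x ≠ 1) :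
    x * y⁻¹ * (x * y⁻¹) = 1 := by
  obtain ⟨a, b, rfl⟩ := hx
  obtain ⟨c, e, rfl⟩ := hy
  have hy1 : R.u c e * R.u c e ≠ 1 := by rw [← h]; exact hx1
  have ha : a ≠ 0 := fun h0 => hx1 ((R.u_sq_iff a b).2 h0)
  have hc : c ≠ 0 := fun h0 => hy1 ((R.u_sq_iff c e).2 h0)
  rw [R.u_mul_self, R.u_mul_self] at h
  have h1 := (R.u_inj h).2
  have h2 : (a / c) * R.θ (a / c) = 1 := by
    rw [map_div₀]
    have h3 : R.θ c ≠ 0 := fun h0 => hc (by
      have := congrArg R.θ h0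
      rw [R.sq, map_zero] at this
      exact pow_eq_zero_iff (two_ne_zero) |>.1 this)
    field_simp
    linear_combination h1
  have h4 : R.θ (a / c) * (a / c) ^ 2 = 1 := by
    rw [← R.sq, ← map_mul, h2, map_one]
  have h5 : a / c = 1 := by linear_combination (- (a / c)) * h2 + h4
  have h6 : a = c := (div_eq_one_iff_eq hc).1 h5
  subst h6
  rw [R.u_inv, R.u_mul, R.add_self, R.u_mul_self, map_zero, mul_zero, R.u_zero]

/-- **no subgroup `Q₈`** -/
theorem no_quaternion [Fintype F] {m : ℕ} (hm : 1 ≤ m)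
    (hF : Fintype.card F = 2 ^ (2 * m + 1)) (e : X ≃* ↥(Cfsg.Lie.Sz F (2 ^ (m + 1)))) (Q : Subgroup X) :
    ¬ Nonempty (Q ≃* QuaternionGroup 2) := by
  rintro ⟨f⟩
  have := EquivMaps.charP_two hF
  have : Finite X := Finite.of_equiv _ e.symm.toEquiv
  have : Fact (Nat.Prime 2) := ⟨Nat.prime_two⟩
  let R0 : ThreePrime.SzRel.Rel ↥(Cfsg.Lie.Sz F (2 ^ (m + 1))) F :=
    ThreePrime.SzRel.ofGood (SzMatrix.good hF)
  let R : ThreePrime.SzRel.Rel X F := R0.map e.symm
  obtain ⟨Sy, hSy⟩ := R.exists_sylow_eq hm hF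
  have h2 : IsPGroup 2 Q := by
    apply IsPGroup.of_equiv _ f.symm
    apply IsPGroup.of_card (n := 3)
    rw [Nat.card_eq_fintype_card, QuaternionGroup.card]
    norm_num
  obtain ⟨P, hP⟩ := h2.exists_le_sylow
  obtain ⟨g, hg⟩ := MulAction.exists_smul_eq X P Sy
  have h3 : ∀ q : Q, g * (q : X) * g⁻¹ ∈ R.T := by
    intro q
    rw [← hSy, ← hg, Sylow.coe_subgroup_smul]
    exact Subgroup.smul_mem_pointwise_smul (q : X) (MulAut.conj g) _ (hP q.2)
  let φ : QuaternionGroup 2 →* X := (MulAut.conj g).toMonoidHom.comp (Q.subtype.comp f.symm.toMonoidHom)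
  have hφ : Function.Injective φ := (MulAut.conj g).injective.comp (Q.subtype_injective.comp f.symm.injective)
  have hφT : ∀ q, φ q ∈ R.T := fun q => h3 (f.symm q)
  have h4 := sq_of_sq_eq R (hφT (QuaternionGroup.a 1)) (hφT (QuaternionGroup.xa 0)) (by
    rw [← map_mul, ← map_mul]; rfl) (by
    rw [← map_mul, ← map_one φ]
    intro h
    exact absurd (hφ h) (by decide))
  rw [← map_inv, ← map_mul, ← map_mul, ← map_one φ] at h4
  exact absurd (hφ h4) (by decide)

/-- **`|Out|` is odd** -/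
theorem odd_out [Fintype F] {m : ℕ} (hm : 1 ≤ m)
    (hF : Fintype.card F = 2 ^ (2 * m + 1)) (e : X ≃* ↥(Cfsg.Lie.Sz F (2 ^ (m + 1)))) :
    ¬ 2 ∣ ((MulAut.conj : X →* MulAut X).range).index := by
  have : Finite X := Finite.of_equiv _ e.symm.toEquiv
  exact EvenTools.odd_index_of_inner fun α hα => Table.OutSz8.inner hm hF e α hα

end Cfsg.Agent.OddHalf.Quat.EvenSz

end

-- merged: Cfsg.Agent.OddHalf.Quat.EvenSzCov
section

/-!
# Node Q, even centre: the covers of the Suzuki groups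

`K` perfect, `K / Z(K)` a Suzuki group.

* `odd_out` : `|Out(K)|` is odd;
* `no_quat` : a subgroup isomorphic to `Q₈` meets the centre.
-/

set_option autoImplicit false

namespace Cfsg.Agent.OddHalf.Quat.EvenSzCov

open Subgroup Cfsg Cfsg.Agent.OddHalf.D9.Cut

universe u

theorem xsz_of (X : Type u) [Group X] (h : D4.Cut.XSz8 X) : XSz X := by
  obtain ⟨F, i1, i2, h1, h2⟩ := h
  exact ⟨F, i1, i2, 1, le_refl 1, by rw [h1]; norm_num, h2⟩

theorem odd_out {K : Type u} [Group K] [Finite K] (hp : commutator K = ⊤) (h : XSz (K ⧸ center K)) :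
    ¬ 2 ∣ (MulAut.conj : K →* MulAut K).range.index := by
  obtain ⟨F, _, _, m, hm, hF, ⟨e⟩⟩ := h
  apply EvenTools.odd_index_of_inner
  rintro α ⟨k, hk⟩
  obtain ⟨a, ha⟩ := Cfsg.Agent.GH.Cov.SzCover.exists_inner hp hm hF e α hk
  exact ⟨a, MulEquiv.ext ha⟩

theorem no_quat {K : Type u} [Group K] (h : XSz (K ⧸ center K)) (P : Subgroup K)
    (hP : ∀ x ∈ P, x ∈ center K → x = 1) : ¬ Nonempty (P ≃* QuaternionGroup 2) := by
  rintro ⟨f⟩
  obtain ⟨F, _, _, m, hm, hF, ⟨e⟩⟩ := h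
  refine EvenSz.no_quaternion hm hF e (P.map (QuotientGroup.mk' (center K))) ⟨?_⟩
  have hinj : Function.Injective ((QuotientGroup.mk' (center K)).subgroupMap P) := by
    rw [injective_iff_map_eq_one]
    intro x hx
    have h1 : QuotientGroup.mk' (center K) (x : K) = 1 := congrArg Subtype.val hx
    exact Subtype.ext (hP x x.2 ((QuotientGroup.eq_one_iff (x : K)).1 h1))
  exact (MulEquiv.ofBijective _ ⟨hinj, (QuotientGroup.mk' (center K)).subgroupMap_surjective P⟩).symm.trans f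

end Cfsg.Agent.OddHalf.Quat.EvenSzCov

end

-- merged: Cfsg.Agent.OddHalf.Quat.EvenCov
section

/-!
# Node Q, even centre: the covers

`even_good` : `K` quasisimple with centre of order 2, quotient of Lie type in characteristic 2 or sporadic, not listed:
`2.L₃(4)`, `2.G₂(4)`, a cover of a Suzuki group, or `NoThree K`.
`Frame.false_even` : node Q for `Z(K) ≠ 1`, except for `2.L₃(4)` and `2.G₂(4)`.
-/

set_option autoImplicit false

namespace Cfsg.Agent.OddHalf.Quat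

open Subgroup Cfsg Cfsg.Agent.OddHalf.Iface Cfsg.Agent.OddHalf.D9.Cut Cfsg.Agent.Cit

universe u

theorem even_good (M : Mult.{u}) {G : Type u} [Group G] {K : Subgroup G} (hQ : QsCyc ↥K)
    (hc : Nat.card ↥(center ↥K) = 2)
    (ht : LieTwo (↥K ⧸ center ↥K) ∨ IsSporadicGroup (↥K ⧸ center ↥K)) (hl : ¬ Listed K) :
    Two (fun X _ => XL34 X) ↥K ∨ Two (fun X _ => XG24 X) ↥K ∨ NoThree ↥K ∨ XSz (↥K ⧸ center ↥K) := by
  have := hQ.1
  have hp : commutator ↥K = ⊤ := hQ.2.1.1.commutator_eq_top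
  have hz : center ↥K ≠ ⊥ := by
    intro h
    rw [h, card_bot] at hc
    exact absurd hc (by norm_num)
  have good : NoThree (↥K ⧸ center ↥K) → Two (fun X _ => XL34 X) ↥K ∨ Two (fun X _ => XG24 X) ↥K ∨ NoThree ↥K ∨
      XSz (↥K ⧸ center ↥K) := fun h => Or.inr (Or.inr (Or.inl (NoThree.of_quot hp h)))
  by_cases h2 : Exc2 (↥K ⧸ center ↥K)
  · rcases h2 with h | h | h | h | h | h | h | h | h | h | h | h | h | h
    · obtain ⟨F, i1, i2, h3, h4⟩ := h
      exact absurd (Or.inr (Or.inr (Or.inl ⟨F, i1, i2, h3, hc, h4⟩))) hl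
    · obtain ⟨F, i1, i2, h3, h4⟩ := h
      exact absurd (Or.inr (Or.inl ⟨F, i1, i2, h3, hc, h4⟩)) hl
    · exact Or.inr (Or.inr (Or.inl (EvenO8.noThree hp ⟨hc, h⟩)))
    · exact Or.inr (Or.inl ⟨hc, h⟩)
    · obtain ⟨F, i1, i2, h3, ⟨e⟩⟩ := h
      exact good (NoThreeE.f4 h3 e)
    · obtain ⟨F, i1, i2, h3, h4⟩ := h
      exact absurd (Or.inr (Or.inr (Or.inr (Or.inr (Or.inr (Or.inl ⟨F, i1, i2, h3, hc, h4⟩)))))) hl
    · exact good (NoThreeSpor.m12 h)
    · exact good (NoThreeSpor.j2 h)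
    · exact absurd (Or.inr (Or.inr (Or.inr (Or.inr (Or.inr (Or.inr (Or.inr (Or.inr (Or.inr (Or.inr (Or.inr
        (Or.inr (Or.inr (Or.inl ⟨hc, h⟩)))))))))))))) hl
    · exact good (NoThreeSpor.suz h)
    · exact good (NoThreeSpor.ru h)
    · exact absurd (Or.inr (Or.inr (Or.inr (Or.inr (Or.inl ⟨hc, h⟩))))) hl
    · exact good (NoThreeSpor.co1 h)
    · exact absurd (Or.inr (Or.inr (Or.inr (Or.inr (Or.inr (Or.inr (Or.inr (Or.inl ⟨hc, h⟩)))))))) hl
  by_cases h4 : Exc4 (↥K ⧸ center ↥K)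
  · rcases h4 with h | h
    · exact Or.inl ⟨hc, h⟩
    · exact good (NoThreeSpor.m22 h)
  by_cases hsz : XSz (↥K ⧸ center ↥K)
  · exact Or.inr (Or.inr (Or.inr hsz))
  rcases ht with ht | ht
  · exact absurd (M.lie _ hQ ht h2 h4 hsz) hz
  · exact absurd (M.spor _ hQ ht h2 h4) hz

namespace Frame

variable {G : Type u} [Group G] [Finite G] {z : G} {Q K : Subgroup G}

theorem card_center (f : Frame z Q K) (hZ : center ↥K ≠ ⊥) : Nat.card ↥(center ↥K) = 2 := by
  obtain ⟨⟨x, hx⟩, hx1⟩ := (Subgroup.ne_bot_iff_exists_ne_one (H := center ↥K)).1 hZ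
  have hx1' : (x : G) ≠ 1 := fun h => hx1 (Subtype.ext (Subtype.ext h))
  have hxz : (x : G) = z := (f.center_le hx).resolve_left hx1'
  rw [Nat.card_eq_two_iff]
  refine ⟨1, ⟨x, hx⟩, fun h => hx1 h.symm, ?_⟩
  rw [Set.eq_univ_iff_forall]
  rintro ⟨y, hy⟩
  rcases f.center_le hy with h | h
  · left
    exact Subtype.ext (Subtype.ext h)
  · right
    exact Subtype.ext (Subtype.ext (h.trans hxz.symm))

theorem qsCyc (f : Frame z Q K) (hZ : center ↥K ≠ ⊥) (hq : IsQuasisimple ↥K) : QsCyc ↥K := by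
  have h2 := f.card_center hZ
  have : Fact (Nat.Prime 2) := ⟨Nat.prime_two⟩
  exact ⟨inferInstance, hq, IsPGroup.of_card (n := 1) (by rw [h2, pow_one]), isCyclic_of_prime_card h2⟩

/-- **node Q, `Z(K) ≠ 1`** -/
theorem false_even [IsSimpleGroup G] (M : Mult.{u}) (hna : ¬ IsMulCommutative G) (f : Frame z Q K)
    (h1 : ¬ One (cls Q)) (hZ : center ↥K ≠ ⊥) (hq : IsQuasisimple ↥K)
    (ht : LieTwo (↥K ⧸ center ↥K) ∨ IsSporadicGroup (↥K ⧸ center ↥K)) (hl : ¬ Listed K)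
    (hl3 : ¬ Two (fun X _ => XL34 X) ↥K) (hg2 : ¬ Two (fun X _ => XG24 X) ↥K) : False := by
  rcases even_good M (f.qsCyc hZ hq) (f.card_center hZ) ht hl with h | h | h | h
  · exact hl3 h
  · exact hg2 h
  · exact f.false_three hna h
  · exact f.false_sz hna h1 hZ (EvenSzCov.odd_out hq.1.commutator_eq_top h) (EvenSzCov.no_quat h)

end Frame

end Cfsg.Agent.OddHalf.Quat

end

-- merged: Cfsg.Agent.OddHalf.Quat.Plug
section

/-!
# Node Q: the plug

`nodeQ` : `Iface.NodeQ` from the listed statements (`SylowSp4.Hyps.GW`, `OneExt`, `FT`, `Main.Known`), the multipliers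
(`D9.Cut.Mult`), `D5cover`, `U2`, the nodes `NI.NoBig`, `NI3.NoThree`, `NI3.F13` and the row `RowO83` (`PΩ⁺₈(3)`).
-/

set_option autoImplicit false
set_option linter.style.haveILetI false

namespace Cfsg.Agent.OddHalf.Quat.Plug

open Subgroup Cfsg Cfsg.Agent.Cit Cfsg.Agent.OddHalf.Iface

universe u

/-- `Z(K) = 1` -/
theorem simple0 (hB : NI.NoBig.{u}) (h3 : NI3.NoThree.{u}) (hF : NI3.F13.{u}) (h8 : RowO83.{u}) :
    Simple0.{u} := by
  intro G _ C K S hz hl
  have e := Main.quoEquiv hz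
  rcases Known.classify S.quo_na S.known with h | ⟨p, hp, hp2, h⟩ | h | h
  · exact good_alt (Known.isAlternating_congr e h)
  · by_cases ha : IsAlternating ↥K
    · exact good_alt ha
    · exact good_odd hB h3 hF h8 C S hz ⟨p, hp, hp2, Known.isLieTypeChar_congr e h⟩ ha
  · by_cases ha : IsAlternating ↥K
    · exact good_alt ha
    by_cases ho : LieOdd ↥K
    · exact good_odd hB h3 hF h8 C S hz ho ha
    · exact good_two hz ⟨h.imp (Known.isLieTypeChar_congr e) (Known.isoTits_congr e), ha, ho⟩ hl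
  · exact good_spor (Known.isSporadic_congr e h)

/-- `Z(K) ≠ 1`, characteristic 2 or sporadic -/
theorem even0 (M : D9.Cut.Mult.{u}) (ft : D9.KillAnyRow.FT.{u}) : Even0.{u} := by
  intro G _ _ _ C K S hz ht hl z Q f h1
  exact f.false_even M C.na h1 hz (D4.Cut.quasisimple S) ht hl
    (fun h => D9.L34.RowAny.row_any G C K S h) (fun h => D9.G24.Final.g24_any ft G C K S h)

/-- the inputs of node Q -/
structure In : Prop where
  gw : SylowSp4.Hyps.GW.{u}
  one : OneExt.{u}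
  ft : D9.KillAnyRow.FT.{u}
  known : Main.Known.{u}
  mult : D9.Cut.Mult.{u}
  d5cover : D5cover.{u}
  u2 : U2.{u}
  noBig : NI.NoBig.{u}
  noThree : NI3.NoThree.{u}
  f13 : NI3.F13.{u}
  rowO83 : RowO83.{u}

/-- **node Q** -/
theorem nodeQ (I : In.{u}) : NodeQ.{u} :=
  nodeQ_of I.gw I.known I.d5cover I.u2
    (fun _ _ _ _ C _ _ b => not_one I.gw I.one I.known.rows C b)
    (simple0 I.noBig I.noThree I.f13 I.rowO83) (even0 I.mult I.ft)

end Cfsg.Agent.OddHalf.Quat.Plug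

end
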